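import Cfsg.Agent.Lib.FusionSystem.OrderFive.Scalar
import Cfsg.Agent.Lib.Resistant67.Basic
import Cfsg.Agent.Lib.FusionP3.Induction

/-!
# Automorphisms of the system along chains with steps of order `p`

An automorphism preserving a chain with steps of order `p` in a fully normalised subgroup extends to the
normaliser; an essential subgroup has no such chain invariant under its whole automiser.
-/

set_option autoImplicit false
set_option linter.style.haveILetI false
set_option linter.unusedSectionVars false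

namespace Cfsg.Agent.Lib.FS.OrderFive

open Cfsg Cfsg.FusionSystem Cfsg.Agent.Lib Cfsg.Agent.Lib.FS
open scoped commutatorElement

variable {Ω : Type*} [Group Ω] {S : Subgroup Ω} {F : FusionSystem S} {p : ℕ}

/-- A function inducing an element of `Aut_F(R)`. -/
def FAut (F : FusionSystem S) (R : Subgroup Ω) (t : Ω → Ω) : Prop :=
  ∃ α ∈ F.autGroup R, ∀ x : R, t x = ((α x : R) : Ω)

open Classical in
/-- The function of an automorphism. -/
noncomputable def fn {R : Subgroup Ω} (α : MulAut R) : Ω → Ω :=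
  fun x => if h : x ∈ R then ((α ⟨x, h⟩ : R) : Ω) else x

theorem fn_apply {R : Subgroup Ω} (α : MulAut R) (x : R) : fn α x = ((α x : R) : Ω) := by
  rw [fn, dif_pos x.2]

theorem faut_fn {R : Subgroup Ω} {α : MulAut R} (hα : α ∈ F.autGroup R) : FAut F R (fn α) :=
  ⟨α, hα, fn_apply α⟩

namespace FAut

variable {R : Subgroup Ω} {t u : Ω → Ω}

theorem isAut (h : FAut F R t) : IsAut R t := by
  obtain ⟨α, -, he⟩ := h
  refine ⟨fun x hx => by rw [he ⟨x, hx⟩]; exact SetLike.coe_mem _, fun x hx y hy => ?_, fun x hx y hy e => ?_⟩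
  · rw [he ⟨x, hx⟩, he ⟨y, hy⟩, show x * y = ((⟨x, hx⟩ * ⟨y, hy⟩ : R) : Ω) from rfl,
      he, map_mul, Subgroup.coe_mul]
  · rw [he ⟨x, hx⟩, he ⟨y, hy⟩] at e
    exact congrArg Subtype.val (α.injective (Subtype.ext e))

theorem congr (h : FAut F R t) (he : ∀ x ∈ R, u x = t x) : FAut F R u :=
  let ⟨α, hα, e⟩ := h
  ⟨α, hα, fun x => (he x x.2).trans (e x)⟩

theorem comp (ht : FAut F R t) (hu : FAut F R u) : FAut F R (t ∘ u) := by
  obtain ⟨α, hα, ea⟩ := ht
  obtain ⟨β, hβ, eb⟩ := hu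
  exact ⟨α * β, mul_mem hα hβ, fun x => by rw [Function.comp_apply, eb, ea]; rfl⟩

theorem exists_inv (ht : FAut F R t) :
    ∃ t', FAut F R t' ∧ (∀ x ∈ R, t' (t x) = x) ∧ ∀ x ∈ R, t (t' x) = x := by
  obtain ⟨α, hα, ea⟩ := ht
  refine ⟨fn α⁻¹, faut_fn (inv_mem hα), fun x hx => ?_, fun x hx => ?_⟩
  · rw [ea ⟨x, hx⟩, fn_apply, MulAut.inv_apply_self]
  · rw [show fn α⁻¹ x = _ from fn_apply α⁻¹ ⟨x, hx⟩, ea, MulAut.apply_inv_self]

theorem one (R : Subgroup Ω) : FAut F R (id : Ω → Ω) := ⟨1, one_mem _, fun _ => rfl⟩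

theorem iterate (ht : FAut F R t) : ∀ n : ℕ, FAut F R t^[n]
  | 0 => FAut.one R
  | n + 1 => (iterate ht n).comp ht

theorem of_hom {φ : R →* Ω} (hφ : φ ∈ F.Hom R) (hr : φ.range = R) (he : ∀ x : R, t x = φ x) : FAut F R t :=
  ⟨homEquiv hφ hr, homEquiv_mem_autGroup hφ hr, fun x => he x⟩

theorem exists_hom (ht : FAut F R t) (hR : R ≤ S) :
    ∃ φ ∈ F.Hom R, φ.range = R ∧ ∀ x : R, φ x = t x := by
  obtain ⟨α, hα, e⟩ := ht
  obtain ⟨φ, hφ, hr, he⟩ := exists_hom_of_aut hR hα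
  exact ⟨φ, hφ, hr, fun x => (he x).trans (e x).symm⟩

theorem conj {g : Ω} (hR : R ≤ S) (hg : g ∈ normalizerIn S R) : FAut F R (cj g) :=
  ⟨R.normalizerMonoidHom ⟨g, hg.2⟩, autInducedBy_le_autGroup F hR (mem_autInducedBy.2 ⟨g, hg.1, fun _ => rfl⟩),
    fun _ => rfl⟩

theorem restrict [Finite S] (ht : FAut F R t) (hR : R ≤ S) {A : Subgroup Ω} (hA : A ≤ R)
    (hi : ∀ x ∈ A, t x ∈ A) : FAut F A t := by
  obtain ⟨φ, hφ, -, he⟩ := ht.exists_hom hR
  obtain ⟨ψ, hψ, e⟩ := exists_restrict hφ hA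
  have he' : ∀ x : A, t x = ψ x := fun x => ((e x).trans (he _)).symm
  haveI : Finite A := finite_sub (hA.trans hR)
  exact of_hom hψ (range_eq_of_mem hψ (fun x => by rw [← he']; exact hi x x.2) le_rfl) he'

/-- An automorphism transporting `Aut_S(R)` into itself extends to the normaliser. -/
theorem extend [Finite S] [Fact p.Prime] (hS : IsPGroup p S) (hF : F.IsSaturated p)
    (hR : F.IsFullyNormalized R) (ht : FAut F R t)
    (hn : ∀ g ∈ normalizerIn S R, ∃ h ∈ S, ∀ x ∈ R, t (g * x * g⁻¹) = h * t x * h⁻¹) :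
    ∃ t', FAut F (normalizerIn S R) t' ∧ ∀ x ∈ R, t' x = t x := by
  have htA := ht.isAut
  obtain ⟨α, hα, e⟩ := ht
  haveI := finite_sub hR.1
  obtain ⟨ψ, hψ, he⟩ := FusionP3.Induction.exists_extend_aut (receptive_of_fullyNormalized hS hF hR) le_rfl hα
    fun g hg => by
      obtain ⟨h, hh, hc⟩ := hn g hg
      exact ⟨h, hh, fun x hx => by rw [← e, ← e]; exact hc x x.2⟩
  have hRN : R ≤ normalizerIn S R := le_normalizerIn hR.1
  have hψe : ∀ (x : Ω) (hx : x ∈ R), ψ ⟨x, hRN hx⟩ = t x := fun x hx => (he x hx _).trans (e _).symm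
  have hmem : ∀ g : normalizerIn S R, ψ g ∈ normalizerIn S R := fun g => by
    refine ⟨apply_mem hψ g, mem_normalizer_of_conj_mem fun y hy => ?_⟩
    obtain ⟨x, hx, rfl⟩ := htA.exists_preimage le_rfl htA.mem hy
    rw [← hψe x hx, ← map_inv, ← map_mul, ← map_mul]
    have hc : (g : Ω) * x * (g : Ω)⁻¹ ∈ R := conj_mem_of_normalizer g.2.2 hx
    rw [show g * ⟨x, hRN hx⟩ * g⁻¹ = (⟨_, hRN hc⟩ : normalizerIn S R) from Subtype.ext rfl, hψe _ hc]
    exact htA.mem _ hc
  haveI : Finite (normalizerIn S R) := finite_sub (normalizerIn_le R)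
  classical
  refine ⟨fun x => if h : x ∈ normalizerIn S R then ψ ⟨x, h⟩ else x,
    of_hom hψ (range_eq_of_mem hψ hmem le_rfl) fun x => dif_pos x.2, fun x hx => ?_⟩
  show dite (x ∈ normalizerIn S R) _ _ = _
  rw [dif_pos (hRN hx)]
  exact hψe x hx

end FAut

/-! ### Chains -/

/-- A chain from `R` down to `⊥` with steps of order `p`, all normalised by `K`. -/
structure Ladder (p : ℕ) (K R : Subgroup Ω) (L : ℕ → Subgroup Ω) (m : ℕ) : Prop where
  top : L 0 = R
  bot : L m = ⊥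
  step : ∀ k < m, Step p (L (k + 1)) (L k)
  norm : ∀ k ≤ m, K ≤ Subgroup.normalizer (L k : Set Ω)

theorem Ladder.le {K R : Subgroup Ω} {L : ℕ → Subgroup Ω} {m : ℕ} (h : Ladder p K R L m) :
    ∀ k ≤ m, L k ≤ R
  | 0, _ => h.top.le
  | k + 1, hk => (h.step k hk).le.trans (h.le k (Nat.le_of_succ_le hk))

theorem Ladder.trivial [Fact p.Prime] [Finite S] (hS : IsPGroup p S) {R : Subgroup Ω} {L : ℕ → Subgroup Ω}
    {m : ℕ} (h : Ladder p (normalizerIn S R) R L m) {g : Ω} (hg : g ∈ normalizerIn S R) {k : ℕ} (hk : k < m)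
    {x : Ω} (hx : x ∈ L k) : x⁻¹ * cj g x ∈ L (k + 1) := by
  obtain ⟨n, hn⟩ := hS ⟨g, hg.1⟩
  rw [inv_mul_cj]
  exact (h.step k hk).conj_trivial (congrArg Subtype.val hn) (h.norm k hk.le hg) (h.norm (k + 1) hk hg)
    (inv_mem hx)

theorem eq_self_of_series {R : Subgroup Ω} (hR : IsPGroup p R) (α : MulAut R) (ha : (orderOf α).Coprime p)
    {L : ℕ → Subgroup Ω} {m : ℕ} (hm : L m = ⊥)
    (h : ∀ k < m, ∀ x : R, (x : Ω) ∈ L k → (x : Ω)⁻¹ * ((α x : R) : Ω) ∈ L (k + 1)) :
    ∀ (j k : ℕ), k + j = m → ∀ x : R, (x : Ω) ∈ L k → α x = x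
  | 0, k, hk, x, hx => by
    rw [show k = m by omega, hm, Subgroup.mem_bot] at hx
    rw [show x = 1 from Subtype.ext hx, map_one]
  | j + 1, k, hk, x, hx =>
    PGroups.eq_of_fixed_diff hR α ha x
      (eq_self_of_series hR α ha hm h j (k + 1) (by omega) _ (h k (by omega) x hx))

/-- The automorphisms of the system acting trivially on the layers. -/
def layerGroup (F : FusionSystem S) (R : Subgroup Ω) [Finite R] (L : ℕ → Subgroup Ω) (m : ℕ)
    (hle : ∀ k < m, L (k + 1) ≤ L k) : Subgroup (F.autGroup R) where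
  carrier := {α | ∀ k < m, ∀ x : R, (x : Ω) ∈ L k → (x : Ω)⁻¹ * (((α : MulAut R) x : R) : Ω) ∈ L (k + 1)}
  one_mem' := fun k _ x _ => by simp
  mul_mem' := by
    intro a b ha hb k hk x hx
    have h1 := hb k hk x hx
    have hbx : ((((b : MulAut R) x : R)) : Ω) ∈ L k := by
      have := mul_mem hx (hle k hk h1)
      rwa [mul_inv_cancel_left] at this
    have h2 := mul_mem h1 (ha k hk _ hbx)
    rw [← mul_assoc, mul_assoc ((x : Ω)⁻¹), mul_inv_cancel, mul_one] at h2
    exact h2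
  inv_mem' := by
    intro a ha k hk x hx
    have hpow : ∀ n : ℕ, ∀ x : R, (x : Ω) ∈ L k →
        (x : Ω)⁻¹ * ((((a ^ n : F.autGroup R) : MulAut R) x : R) : Ω) ∈ L (k + 1) := by
      intro n
      induction n with
      | zero => intro x _; simp
      | succ n ih =>
        intro x hx
        have h1 := ha k hk x hx
        have hax : ((((a : MulAut R) x : R)) : Ω) ∈ L k := by
          have := mul_mem hx (hle k hk h1)
          rwa [mul_inv_cancel_left] at this
        have h2 := mul_mem h1 (ih _ hax)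
        rw [← mul_assoc, mul_assoc ((x : Ω)⁻¹), mul_inv_cancel, mul_one] at h2
        rw [pow_succ]
        exact h2
    rw [show a⁻¹ = a ^ (orderOf a - 1) by
      rw [inv_eq_iff_mul_eq_one, ← pow_succ', Nat.sub_add_cancel (orderOf_pos a), pow_orderOf_eq_one]]
    exact hpow _ x hx

theorem isPGroup_layerGroup [Finite S] [Fact p.Prime] (hS : IsPGroup p S) {R : Subgroup Ω} [Finite R]
    (hR : R ≤ S) {L : ℕ → Subgroup Ω} {m : ℕ} (hle : ∀ k < m, L (k + 1) ≤ L k) (hm : L m = ⊥)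
    (h0 : R ≤ L 0) : IsPGroup p (layerGroup F R L m hle) := by
  refine FusionEssential.PClosed.isPGroup_of_coprime_trivial _ fun a ha hco => ?_
  refine Subtype.ext (MulEquiv.ext fun x => ?_)
  exact eq_self_of_series (isPGroup_of_le hS hR) (a : MulAut R) (by rwa [Subgroup.orderOf_coe]) hm ha m 0
    (zero_add m) x (h0 x.2)

/-- An automorphism trivial on the layers of a ladder of a fully normalised subgroup is induced by `S`. -/
theorem Ladder.exists_conj [Finite S] [Fact p.Prime] (hS : IsPGroup p S) (hF : F.IsSaturated p) {R : Subgroup Ω}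
    (hR : F.IsFullyNormalized R) {L : ℕ → Subgroup Ω} {m : ℕ} (h : Ladder p (normalizerIn S R) R L m)
    {t : Ω → Ω} (ht : FAut F R t) (htr : ∀ k < m, ∀ x ∈ L k, x⁻¹ * t x ∈ L (k + 1)) :
    ∃ g ∈ normalizerIn S R, ∀ x ∈ R, t x = cj g x := by
  haveI := finite_sub hR.1
  obtain ⟨α, hα, e⟩ := ht
  obtain ⟨P, hP⟩ := (fullyAutomized_of_fullyNormalized hS hF hR).2
  set K := layerGroup F R L m fun k hk => (h.step k hk).le
  have hPK : (P : Subgroup (F.autGroup R)) ≤ K := by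
    intro b hb
    rw [hP, Subgroup.mem_subgroupOf, mem_autInducedBy] at hb
    obtain ⟨g, hg, he⟩ := hb
    intro k hk x hx
    rw [he x]
    exact h.trivial hS ⟨hg, mem_normalizer_of_aut he⟩ hk hx
  have hKP : K = P := P.is_maximal' (isPGroup_layerGroup hS hR.1 _ h.bot h.top.ge) hPK
  have hαK : (⟨α, hα⟩ : F.autGroup R) ∈ K := fun k hk x hx => by
    show (x : Ω)⁻¹ * ((α x : R) : Ω) ∈ _
    rw [← e]; exact htr k hk x hx
  rw [hKP, hP, Subgroup.mem_subgroupOf, mem_autInducedBy] at hαK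
  obtain ⟨g, hg, he⟩ := hαK
  exact ⟨g, ⟨hg, mem_normalizer_of_aut he⟩, fun x hx => (e ⟨x, hx⟩).trans (he ⟨x, hx⟩)⟩

/-- An automorphism preserving a ladder of a fully normalised subgroup extends to the normaliser. -/
theorem Ladder.extend [Finite S] [Fact p.Prime] (hS : IsPGroup p S) (hF : F.IsSaturated p) {R : Subgroup Ω}
    (hR : F.IsFullyNormalized R) {L : ℕ → Subgroup Ω} {m : ℕ} (h : Ladder p (normalizerIn S R) R L m)
    {t : Ω → Ω} (ht : FAut F R t) (hp : ∀ k ≤ m, ∀ x ∈ L k, t x ∈ L k) :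
    ∃ t', FAut F (normalizerIn S R) t' ∧ ∀ x ∈ R, t' x = t x := by
  refine ht.extend hS hF hR fun g hg => ?_
  haveI := finite_sub hR.1
  obtain ⟨t', ht', hl, hr⟩ := ht.exists_inv
  have hA := ht.isAut
  have hs : ∀ k < m, ∀ y ∈ L k, y⁻¹ * (t ∘ cj g ∘ t') y ∈ L (k + 1) := by
    intro k hk y hy
    haveI : Finite (L k) := finite_sub ((h.le k hk.le).trans hR.1)
    obtain ⟨x, hx, rfl⟩ := hA.exists_preimage (h.le k hk.le) (hp k hk.le) hy
    have hxR := h.le k hk.le hx
    have hcx := (isAut_cj hg.2).mem x hxR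
    simp only [Function.comp_apply]
    rw [hl x hxR, ← hA.inv hxR, ← hA.mul _ (inv_mem hxR) _ hcx]
    exact hp (k + 1) hk _ (h.trivial hS hg hk hx)
  obtain ⟨b, hb, he⟩ := h.exists_conj hS hF hR (ht.comp ((FAut.conj hR.1 hg).comp ht')) hs
  refine ⟨b, hb.1, fun x hx => ?_⟩
  have h1 := he (t x) (hA.mem x hx)
  simp only [Function.comp_apply] at h1
  rw [hl x hx] at h1
  exact h1

/-- In an essential subgroup an element of the normaliser acting trivially on the layers of an invariant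
series lies in the subgroup. -/
theorem mem_of_invariant_series [Finite S] [Fact p.Prime] (hS : IsPGroup p S) (hF : F.IsSaturated p)
    {E : Subgroup Ω} (hess : F.IsEssential p E) {L : ℕ → Subgroup Ω} {m : ℕ} (h0 : L 0 = E) (hm : L m = ⊥)
    (hle : ∀ k < m, L (k + 1) ≤ L k) (hinv : ∀ t, FAut F E t → ∀ k ≤ m, ∀ x ∈ L k, t x ∈ L k)
    {g : Ω} (hg : g ∈ normalizerIn S E) (htr : ∀ k < m, ∀ x ∈ L k, x⁻¹ * cj g x ∈ L (k + 1)) : g ∈ E := by
  have hES := hess.2.1.1
  haveI := finite_sub hES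
  have hsub : ∀ k ≤ m, L k ≤ E := fun k hk => by
    induction k with
    | zero => exact h0.le
    | succ k ih => exact (hle k hk).trans (ih (Nat.le_of_succ_le hk))
  refine Resistant67.mem_of_normal_pGroup hS hF hess (layerGroup F E L m hle) ?_
    (isPGroup_layerGroup hS hES hle hm h0.ge) (g := ⟨g, hg⟩) fun k hk x hx => htr k hk x hx
  refine ⟨fun a ha γ k hk x hx => ?_⟩
  have hγi : ((((γ : MulAut E)⁻¹) x : E) : Ω) ∈ L k := by
    have := hinv _ (faut_fn (inv_mem γ.2)) k hk.le x hx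
    rwa [fn_apply] at this
  set y := (γ : MulAut E)⁻¹ x with hy
  have h1 := ha k hk y hγi
  have h2 := hinv _ (faut_fn γ.2) (k + 1) hk _ h1
  rw [show (y : Ω)⁻¹ * (((a : MulAut E) y : E) : Ω) = ((y⁻¹ * (a : MulAut E) y : E) : Ω) from rfl,
    fn_apply, map_mul, map_inv, hy, MulAut.apply_inv_self] at h2
  simpa [MulAut.mul_apply] using h2

/-- No ladder of an essential subgroup is invariant under its automiser. -/
theorem false_of_invariant_ladder [Finite S] [Fact p.Prime] (hS : IsPGroup p S) (hF : F.IsSaturated p)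
    {E : Subgroup Ω} (hess : F.IsEssential p E) {L : ℕ → Subgroup Ω} {m : ℕ}
    (h : Ladder p (normalizerIn S E) E L m)
    (hinv : ∀ t, FAut F E t → ∀ k ≤ m, ∀ x ∈ L k, t x ∈ L k) : False := by
  obtain ⟨g, hg⟩ := Resistant67.exists_normalizer_not_mem hS hF hess
  exact hg (mem_of_invariant_series hS hF hess h.top h.bot (fun k hk => (h.step k hk).le) hinv g.2
    fun k hk x hx => h.trivial hS g.2 hk hx)

end Cfsg.Agent.Lib.FS.OrderFive
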