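import Cfsg.Agent.Lib.FusionSystem.OrderFive.Chr
import Cfsg.Agent.S5188

/-!
# Essential subgroups of order `p ^ 4`
-/

set_option autoImplicit false
set_option linter.style.haveILetI false
set_option linter.unusedSectionVars false

namespace Cfsg.Agent.Lib.FS.OrderFive

open Cfsg Cfsg.FusionSystem Cfsg.Agent.Lib Cfsg.Agent.Lib.FS
open scoped commutatorElement

variable {Ω : Type*} [Group Ω] {S : Subgroup Ω} {p : ℕ} {F : FusionSystem S} [hp : Fact p.Prime] [Finite S]
  {a : ZMod p}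

/-- The chain of a normal nonabelian subgroup of index `p` with centre of order `p ^ 2`. -/
theorem exists_four (hS : IsPGroup p S) {N A Z : Subgroup Ω} (sN : Step p N S) (sA : Step p A N)
    (sZ : Step p Z A) (nA : S ≤ Subgroup.normalizer (A : Set Ω)) (nZ : S ≤ Subgroup.normalizer (Z : Set Ω))
    (hZc : Nat.card Z = p ^ 2) (central : ∀ z ∈ Z, ∀ x ∈ N, Commute z x)
    (nonab : ∃ x ∈ N, ∃ y ∈ N, ¬ Commute x y) : Four p S N A Z (comSub N N) := by
  obtain ⟨d, hd, hdA⟩ := sA.exists_not_mem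
  obtain ⟨y, hy, hyZ⟩ := sZ.exists_not_mem
  have hyN := sA.le hy
  have hNS := sN.le
  have hAZ : ∀ w ∈ A, ∀ x ∈ N, ⁅w, x⁆ ∈ Z := fun w hw x hx =>
    step_comm hS sZ (hNS hx) (nA (hNS hx)) (nZ (hNS hx)) hw
  set c := ⁅d, y⁆ with hcdef
  have hc : c ∈ Z := comm_mem_symm (hAZ y hy d hd)
  have hAab : ∀ u ∈ A, ∀ v ∈ A, Commute u v := fun u hu v hv =>
    sZ.commute_of_central (fun z hz x hx => central z hz x (sA.le hx)) hu hv
  have hc1 : c ≠ 1 := fun e => by
    have hAd : ∀ u ∈ A, Commute u d := fun u hu => sZ.commute_all (fun z hz => central z hz d hd) hy hyZ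
      (commutatorElement_eq_one_iff_commute.1 e).symm hu
    have hcen : ∀ u ∈ A, ∀ x ∈ N, Commute u x := fun u hu x hx =>
      (sA.commute_all (fun b hb => hAab b hb u hu) hd hdA (hAd u hu).symm hx).symm
    obtain ⟨x, hx, x', hx', hne⟩ := nonab
    exact hne (sA.commute_of_central hcen hx hx')
  have hcp : c ^ p = 1 := by
    rw [hcdef, ← comm_pow_right (central c hc y hyN).symm, commutatorElement_eq_one_iff_commute]
    exact (central _ (sZ.pow_mem hy) d hd).symm
  set U := Subgroup.zpowers c with hU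
  have hUZ : U ≤ Z := Subgroup.zpowers_le.2 hc
  have hUn : N ≤ Subgroup.normalizer (U : Set Ω) := le_normalizer_of fun g hg x hx => by
    rw [← (central x (hUZ hx) g hg).eq, mul_inv_cancel_right]
    exact hx
  have hAU : ∀ u ∈ A, ∀ x ∈ N, ⁅u, x⁆ ∈ U := fun u hu x hx => by
    refine comm_mem_symm (sA.comm_mem_all hUn (hUn (sA.le hu)) (fun b hb => ?_) hd hdA ?_ hx)
    · rw [commutatorElement_eq_one_iff_commute.2 (hAab b hb u hu)]; exact one_mem _
    · refine comm_mem_symm (sZ.comm_mem_all (sA.le.trans hUn) (hUn hd) (fun b hb => ?_) hy hyZ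
        (comm_mem_symm (Subgroup.mem_zpowers c)) hu)
      rw [commutatorElement_eq_one_iff_commute.2 (central b hb d hd)]; exact one_mem _
  have hNU : ∀ x ∈ N, ∀ x' ∈ N, ⁅x, x'⁆ ∈ U := fun x hx x' hx' => by
    refine sA.comm_mem_all hUn (hUn hx') (fun u hu => hAU u hu x' hx') hd hdA ?_ hx
    refine comm_mem_symm (sA.comm_mem_all hUn (hUn hd) (fun u hu => hAU u hu d hd) hd hdA ?_ hx')
    rw [commutatorElement_self]; exact one_mem _
  have hUeq : comSub N N = U :=
    le_antisymm (comSub_le hNU) (Subgroup.zpowers_le.2 (mem_comSub hd hyN))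
  have hUc : Nat.card U = p := by rw [hU, Nat.card_zpowers, orderOf_eq_prime hcp hc1]
  haveI := finite_sub (hUZ.trans ((sZ.le.trans sA.le).trans hNS))
  rw [hUeq]
  exact ⟨sN, sA, sZ,
    ⟨hUZ, (sZ.le.trans sA.le).trans hUn, by rw [hZc, hUc, sq], finite_sub ((sZ.le.trans sA.le).trans hNS)⟩,
    ⟨bot_le, le_normalizer_bot U, by rw [hUc, Subgroup.card_bot, mul_one], inferInstance⟩, nA, nZ,
    hUeq ▸ le_normalizer_comSub sN.norm sN.norm hNS hNS, central, hNU, nonab⟩

/-- The centre of a normal essential subgroup of order `p ^ 4`. -/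
theorem card_center_four (c : Ctx F p) {E : Subgroup Ω} (hess : F.IsEssential p E) (hcard : Nat.card E = p ^ 4) :
    Nat.card (centralizerIn E E) = p ^ 2 := by
  have hES := hess.2.1.1
  have hS := c.hS
  have hp1 := hp.out.one_lt
  haveI := finite_sub hES
  set Z := centralizerIn E E with hZdef
  have hZE : Z ≤ E := inf_le_left
  haveI : Finite Z := finite_sub (hZE.trans hES)
  have hcen : ∀ z ∈ Z, ∀ x ∈ E, Commute z x := fun z hz x hx => (centralizerIn_commute hz hx).symm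
  have hnc : ¬ ∀ x ∈ E, ∀ y ∈ E, Commute x y := c.noAb E hES hcard
  have heq : Subgroup.center E = Z.subgroupOf E := by
    ext x
    rw [Subgroup.mem_center_iff, Subgroup.mem_subgroupOf]
    exact ⟨fun h => ⟨x.2, Subgroup.mem_centralizer_iff.2 fun w hw => congrArg Subtype.val (h ⟨w, hw⟩)⟩,
      fun h w => Subtype.ext ((hcen _ h _ w.2).symm)⟩
  have hcc : Nat.card (Subgroup.center E) = Nat.card Z := by
    rw [heq, Nat.card_congr (Subgroup.subgroupOfEquivOfLe hZE).toEquiv]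
  obtain ⟨k, hk⟩ := IsPGroup.iff_card.1 (isPGroup_of_le hS (hZE.trans hES))
  have hk4 : k ≤ 4 := by
    have := Subgroup.card_le_of_le hZE
    rw [hk, hcard] at this
    exact (Nat.pow_le_pow_iff_right hp1).1 this
  interval_cases k
  · exfalso
    haveI : Nontrivial E := Finite.one_lt_card_iff_nontrivial.1 (by rw [hcard]; exact Nat.one_lt_pow (by norm_num) hp1)
    refine (Subgroup.nontrivial_iff_ne_bot _).1 (isPGroup_of_le hS hES).center_nontrivial
      (Subgroup.eq_bot_of_card_eq _ ?_)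
    rw [hcc, hk, pow_zero]
  · exfalso
    exact S5188.no_chain hS c.hF hess hcard
      (FusionEssential.OrderFour.center_prime hcard (hcc.trans (hk.trans (pow_one p))))
  · exact hk
  · exfalso
    have hlt : Z < E := lt_of_le_of_ne hZE fun e => by
      rw [e, hcard] at hk
      exact absurd (Nat.pow_right_injective hp.out.two_le hk) (by norm_num)
    have hs : Step p Z E := step_of_lt hlt (le_normalizer_of fun g hg x hx => by
      rw [← (hcen x hx g hg).eq, mul_inv_cancel_right]; exact hx)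
      (by rw [hcard, hk, ← pow_succ']) (isPGroup_of_le hS hES)
    exact hnc fun x hx y hy => hs.commute_of_central hcen hx hy
  · exfalso
    have : Z = E := Subgroup.eq_of_le_of_card_ge hZE (by rw [hcard, hk])
    exact hnc fun x hx y hy => hcen x (this.symm ▸ hx) y hy

/-- An essential subgroup of order `p ^ 4`. -/
theorem case_four (c : Ctx F p) (w : Weight p a) {E : Subgroup Ω} (hess : F.IsEssential p E)
    (hcard : Nat.card E = p ^ 4) : p = 3 ∧ Fixed S p ∧ Good F p E := by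
  have hES := hess.2.1.1
  have hS := c.hS
  have hp1 := hp.out.one_lt
  haveI := finite_sub hES
  have hES' : E < S := lt_of_le_of_ne hES fun e => by
    rw [e, c.card] at hcard
    exact absurd (Nat.pow_right_injective hp.out.two_le hcard) (by norm_num)
  have hnE : S ≤ Subgroup.normalizer (E : Set Ω) := by
    have h1 := FusionP3.Induction.lt_normalizerIn hS hES'
    haveI : Finite (normalizerIn S E) := finite_sub (normalizerIn_le E)
    refine inf_eq_left.1 (Subgroup.eq_of_le_of_card_ge inf_le_left ?_)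
    obtain ⟨k, hk⟩ := IsPGroup.iff_card.1 (isPGroup_of_le hS (normalizerIn_le (S := S) E))
    have h2 : Nat.card E < Nat.card (normalizerIn S E) := lt_of_le_of_ne (Subgroup.card_le_of_le h1.le)
      fun e' => h1.ne (Subgroup.eq_of_le_of_card_ge h1.le e'.ge)
    rw [hcard, hk] at h2
    rw [c.card]
    show p ^ 5 ≤ Nat.card (normalizerIn S E)
    rw [hk]
    exact Nat.pow_le_pow_right hp.out.pos ((Nat.pow_lt_pow_iff_right hp1).1 h2)
  have sN : Step p E S := ⟨hES, hnE, by rw [c.card, hcard]; ring, inferInstance⟩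
  set Z := centralizerIn E E with hZdef
  have hZE : Z ≤ E := inf_le_left
  have hZc := card_center_four c hess hcard
  have hcen : ∀ z ∈ Z, ∀ x ∈ E, Commute z x := fun z hz x hx => (centralizerIn_commute hz hx).symm
  have nZ : S ≤ Subgroup.normalizer (Z : Set Ω) := le_normalizer_of fun g hg x hx =>
    centralizerIn_invariant (isAut_cj (hnE hg)) le_rfl (fun y hy => conj_mem_of_le hnE hg hy) hx
  have hlt : Z < E := lt_of_le_of_ne hZE fun e => by
    rw [show centralizerIn E E = E from e, hcard] at hZc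
    exact absurd (Nat.pow_right_injective hp.out.two_le hZc) (by norm_num)
  obtain ⟨A, sZ, hAE, nA⟩ := exists_step_between (p := p) hS hES hlt nZ hnE
  haveI : Finite A := finite_sub (hAE.trans hES)
  have sA : Step p A E := by
    refine ⟨hAE, hES.trans nA, ?_, inferInstance⟩
    rw [hcard, sZ.card, hZc]; ring
  have hnc : ∃ x ∈ E, ∃ y ∈ E, ¬ Commute x y := by
    have := c.noAb E hES hcard
    push Not at this
    exact this
  have h := exists_four hS sN sA sZ nA nZ hZc hcen hnc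
  obtain ⟨d, hd, hdA⟩ := h.sA.exists_not_mem
  have hNi : normalizerIn S E = S := normalizerIn_of_le_normalizer hnE
  obtain ⟨s, hs, hsN, hds⟩ : ∃ s ∈ S, s ∉ E ∧ ⁅d, s⁆ ∉ Z := by
    obtain ⟨s, hs, hsN⟩ := sN.exists_not_mem
    refine ⟨s, hs, hsN, fun hds => hsN ?_⟩
    refine mem_of_invariant_series hS c.hF hess (L := ch3 E Z (comSub E E)) (m := 3) rfl rfl ?_
      (fun t ht => preserves_three ht.isAut (fun x hx => h.Z_invariant ht.isAut hx)
        fun x hx => h.N₁_invariant ht.isAut hx) (hNi.symm ▸ hs) ?_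
    · intro k hk
      match k, hk with
      | 0, _ => exact h.hZN
      | 1, _ => exact h.s1.le
      | 2, _ => exact bot_le
    · intro k hk x hx
      rw [inv_mul_cj]
      match k, hk with
      | 0, _ => exact h.sA.comm_mem_all (hES.trans nZ) (nZ hs) (fun b hb => h.comm_A hS hb hs) hd hdA hds (inv_mem hx)
      | 1, _ => exact h.comm_Z hS (inv_mem hx) hs
      | 2, _ => exact comm_eq_one (h.comm_one hS (inv_mem hx) hs)
  obtain ⟨g₀, hg₀, x₀, hx₀, hgx₀⟩ : ∃ g, FAut F E g ∧ ∃ x ∈ A, g x ∉ A := by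
    by_contra hcon
    push Not at hcon
    exact false_of_invariant_ladder hS c.hF hess h.ladder fun t ht => preserves_four ht.isAut (hcon t ht)
      (fun x hx => h.Z_invariant ht.isAut hx) fun x hx => h.N₁_invariant ht.isAut hx
  obtain ⟨hp3, hfix⟩ := h.fixed_of_moved c w hd hdA hs hsN hds hg₀ hx₀ hgx₀
  refine ⟨hp3, hfix, fun χ hχ hbig => ?_⟩
  have hbigS : ∀ t, FAut F S t → Pres χ S t := fun t ht =>
    hbig S t (by rw [hcard, c.card]; exact Nat.pow_lt_pow_right hp1 (by norm_num)) ht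
  have hext : ∀ t, FAut F E t → (∀ x ∈ A, t x ∈ A) → Pres χ E t := fun t ht hA => by
    obtain ⟨t', ht', he⟩ := h.extend c ht hA
    exact Pres.of_ext hES he (hbigS t' ht')
  intro g hg
  by_cases hgA : ∀ x ∈ A, g x ∈ A
  · exact hext g hg hgA
  push Not at hgA
  obtain ⟨x, hx, hgx⟩ := hgA
  obtain ⟨g', hg', hl, hr⟩ := hg.exists_inv
  obtain ⟨hu, hv, ⟨T, hT, hδ, hη, h1, hTv, hW⟩, f, hf, hfA⟩ :=
    h.exists_moved c w hd hs hds hg hg' hl hx hgx
  have hgI := hg.isAut
  have hTp := hbigS T hT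
  obtain ⟨σ, -, hσ⟩ := exists_sc h.sN hT.isAut le_rfl hT.isAut.mem fun y hy => hδ.mem h.sA.le hy
  obtain ⟨-, hAS⟩ := h.comm_A_le hS hT.isAut hδ hη h1 (inv_ne_zero w.ne_zero) (fun e => w.three (by
    calc a ^ 3 = a * (a * a) := by ring
      _ = 1 := by rw [e, mul_inv_cancel₀ w.ne_zero])) hd hs hds hσ
  set N₁ := comSub E E with hN₁def
  set y₀ := ⁅d, s⁆ with hy₀def
  have hy₀ : y₀ ∈ A := step_comm hS h.sA hs (hnE hs) (nA hs) hd
  have hy₀E := h.sA.le hy₀
  have hnJ : E ≤ Subgroup.normalizer ((N₁ ⊔ Subgroup.zpowers y₀ : Subgroup Ω) : Set Ω) :=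
    le_normalizer_of_comm fun u hu v hv => Subgroup.mem_sup_left (h.comm u hu v ((sup_le
      (h.s1.le.trans h.hZN) (Subgroup.zpowers_le.2 hy₀E) : N₁ ⊔ Subgroup.zpowers y₀ ≤ E) hv))
  -- `⁅E, s⁆ ⊆ N₁⟨y₀⟩`
  have hEs : ∀ e ∈ E, ⁅e, s⁆ ∈ N₁ ⊔ Subgroup.zpowers y₀ := fun e he => by
    obtain ⟨n, b, hb, rfl⟩ := h.sA.exists_eq hd hdA he
    rw [comm_mul_left]
    refine mul_mem (conj_mem_of_le hnJ (pow_mem hd n) (Subgroup.mem_sup_left (hAS b hb s hs))) ?_
    have key : ∀ n : ℕ, ⁅d ^ n, s⁆ ∈ N₁ ⊔ Subgroup.zpowers y₀ := by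
      intro n
      induction n with
      | zero => rw [pow_zero, commutatorElement_one_left]; exact one_mem _
      | succ n ih =>
        rw [pow_succ, comm_mul_left]
        exact mul_mem (conj_mem_of_le hnJ (pow_mem hd n) (Subgroup.mem_sup_right (Subgroup.mem_zpowers y₀))) ih
    exact key n
  -- `χ` kills the image of `N₁⟨y₀⟩`
  have hN₁0 : ∀ z ∈ N₁, χ z = 0 := fun z hz => hχ.comSub_eq_zero hES hES hz
  set w₀ := g y₀ with hw₀def
  have hw₀v : w₀ ∈ hgI.image A := hgI.apply_mem_image h.sA.le hy₀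
  have hw₀E : w₀ ∈ E := hgI.mem _ hy₀E
  have hgnA : w₀ ∉ A := by
    intro e
    have hsame : hgI.image A ≤ A := by
      intro y hy
      obtain ⟨u, hu', rfl⟩ := (hgI.mem_image h.sA.le).1 hy
      obtain ⟨n, b, hb, rfl⟩ := h.sZ.exists_eq hy₀ hds hu'
      rw [hgI.mul _ (pow_mem hy₀E n) _ (h.hZN hb), hgI.pow hy₀E]
      exact mul_mem (pow_mem e n) (h.sZ.le (h.Z_invariant hgI hb))
    exact hgx (hsame (hgI.apply_mem_image h.sA.le hx))
  have hy₀p : y₀ ^ p ∈ N₁ := by
    have hdp : d ^ p ∈ Z := by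
      refine h.center_mem (pow_mem hd p) fun y hy => ?_
      rw [← commutatorElement_eq_one_iff_commute, PGroups.commutatorElement_pow_left_of_central d y
        (hcen _ (h.s1.le (h.comm d hd y hy)) d hd).symm]
      exact h.comm_pow_p hd hy
    have hn1 := h.n1
    have hc1 : Commute (cls N₁ d) ⁅cls N₁ d, cls N₁ s⁆ := by
      rw [← cls_comm (hn1 (hES hd)) (hn1 hs)]
      exact (comm_mem_iff (hn1 (hES hd)) (hn1 (hES hy₀E))).1 (h.comm d hd y₀ hy₀E)
    rw [← cls_eq_one (hn1 (S.pow_mem (hES hy₀E) p)), cls_pow (hn1 (hES hy₀E)), hy₀def,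
      cls_comm (hn1 (hES hd)) (hn1 hs), ← PGroups.commutatorElement_pow_left_of_central _ _ hc1,
      ← cls_pow (hn1 (hES hd)), ← cls_comm (hn1 (S.pow_mem (hES hd) p)) (hn1 hs)]
    exact cls_of_mem (h.comm_Z hS hdp hs)
  set J := N₁ ⊔ Subgroup.zpowers y₀ with hJdef
  set W := J ⊔ Subgroup.zpowers w₀ with hWdef
  have hJE : J ≤ E := sup_le (h.s1.le.trans h.hZN) (Subgroup.zpowers_le.2 hy₀E)
  have hWE : W ≤ E := sup_le hJE (Subgroup.zpowers_le.2 hw₀E)
  have h1W : N₁ ≤ W := le_sup_left.trans le_sup_left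
  have hgJ : ∀ j ∈ J, g j ∈ W := by
    have : J ≤ ((W.subgroupOf E).comap hgI.toHom).map E.subtype := by
      refine sup_le (fun z hz => ?_) (Subgroup.zpowers_le.2 ?_)
      · exact ⟨⟨z, h.s1.le.trans h.hZN hz⟩, h1W (h.N₁_invariant hgI hz), rfl⟩
      · exact ⟨⟨y₀, hy₀E⟩, Subgroup.mem_sup_right (Subgroup.mem_zpowers _), rfl⟩
    intro j hj
    obtain ⟨u, hu', rfl⟩ := this hj
    exact hu'
  have huW : ∀ y ∈ W, cj s y ∈ W := fun y hy => by
    rw [show cj s y = y * (y⁻¹ * cj s y) by group, inv_mul_cj]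
    exact mul_mem hy (Subgroup.mem_sup_left (hEs _ (inv_mem (hWE hy))))
  have hvl : ∀ y ∈ E, ∃ j ∈ J, y⁻¹ * (g ∘ cj s ∘ g') y = g j := fun y hy => by
    have hy' := hg'.isAut.mem y hy
    refine ⟨⁅(g' y)⁻¹, s⁆, hEs _ (inv_mem hy'), ?_⟩
    rw [← inv_mul_cj, hgI.mul _ (inv_mem hy') _ (hu.isAut.mem _ hy'), hgI.inv hy', hr y hy]
    rfl
  have hvW : ∀ y ∈ W, (g ∘ cj s ∘ g') y ∈ W := fun y hy => by
    obtain ⟨j, hj, e⟩ := hvl y (hWE hy)
    rw [show (g ∘ cj s ∘ g') y = y * (y⁻¹ * (g ∘ cj s ∘ g') y) by group, e]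
    exact mul_mem hy (hgJ j hj)
  have hWZ : ∀ z ∈ W, z ∈ Z → z ∈ N₁ := by
    intro z hz hzZ
    by_contra hz1
    have hEW : E ≤ W := by
      refine h.sA.le_of_mem ?_ hw₀E hgnA (Subgroup.mem_sup_right (Subgroup.mem_zpowers w₀))
      exact h.sZ.le_of_mem (h.s1.le_of_mem h1W hzZ hz1 hz) hy₀ hds
        (Subgroup.mem_sup_left (Subgroup.mem_sup_right (Subgroup.mem_zpowers y₀)))
    haveI := finite_sub (h.h1)
    obtain ⟨hJf, hJle⟩ := card_sup_zpowers_le hp.out.pos (h.n1 (hES hy₀E)) hy₀p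
    haveI : Finite J := hJf
    have hwp : w₀ ^ p ∈ J := by
      rw [hw₀def, ← hgI.pow hy₀E]
      exact Subgroup.mem_sup_left (h.N₁_invariant hgI hy₀p)
    obtain ⟨hWf, hWle⟩ := card_sup_zpowers_le hp.out.pos (hnJ hw₀E) hwp
    haveI : Finite W := hWf
    have := (Subgroup.card_le_of_le hEW).trans (hWle.trans (Nat.mul_le_mul_left _ hJle))
    rw [hcard, h.s0.card, Subgroup.card_bot, mul_one, ← sq, ← pow_succ'] at this
    exact absurd ((Nat.pow_le_pow_iff_right hp1).1 this) (by norm_num)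
  have hw₀0 : χ w₀ = 0 := by
    have hTw : T w₀ ∈ W := hW W hWE huW hvW w₀ (Subgroup.mem_sup_right (Subgroup.mem_zpowers w₀))
    have hb : (w₀ ^ (a⁻¹).val)⁻¹ * T w₀ ∈ N₁ := hWZ _
      (mul_mem (inv_mem (pow_mem (Subgroup.mem_sup_right (Subgroup.mem_zpowers w₀)) _)) hTw) (hTv _ hw₀v)
    exact hχ.eq_zero_of_scalar w.inv_ne_one (hES hw₀E) (h.h1 hb) (hN₁0 _ hb)
      (mul_inv_cancel_left _ _).symm (hTp w₀ (hES hw₀E))
  have hgJ0 : ∀ j ∈ J, χ (g j) = 0 := by
    have : J ≤ hχ.kerMap hES hgI := sup_le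
      (fun z hz => ⟨h.hZN (h.s1.le hz), hN₁0 _ (h.N₁_invariant hgI hz)⟩)
      (Subgroup.zpowers_le.2 ⟨hy₀E, hw₀0⟩)
    exact fun j hj => (this hj).2
  have pv : Pres χ E (g ∘ cj s ∘ g') := hχ.pres_of_layer hES hv.isAut fun y hy => by
    obtain ⟨j, hj, e⟩ := hvl y hy
    rw [e]; exact hgJ0 j hj
  have pf := Pres.word hf hu.isAut hv.isAut (hχ.pres_cj hES hs) pv
  exact Pres.of_comp hgI pf (hext _ ((hf.faut hu hv).comp hg) fun y hy =>
    hfA _ (hgI.apply_mem_image h.sA.le hy))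

end Cfsg.Agent.Lib.FS.OrderFive
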