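import Cfsg.Agent.Lib.FusionSystem.OrderFive.CaseFour
import Cfsg.Agent.Lib.EssentialRankThree.Automizer
import Cfsg.Agent.Lib.FusionEssential.RankTwo
import Cfsg.Agent.S5186

/-!
# Essential subgroups of order `p ^ 3`
-/

set_option autoImplicit false
set_option linter.style.haveILetI false
set_option linter.unusedSectionVars false

namespace Cfsg.Agent.Lib.FS.OrderFive

open Cfsg Cfsg.FusionSystem Cfsg.Agent.Lib Cfsg.Agent.Lib.FS
open scoped commutatorElement

universe u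

variable {Ω : Type u} [Group Ω] {S : Subgroup Ω} {p : ℕ} {F : FusionSystem S} [hp : Fact p.Prime] [Finite S]
  {a : ZMod p}

theorem Weight.three_le (w : Weight p a) : 3 ≤ p := by
  rcases eq_or_lt_of_le hp.out.two_le with e | e
  · subst e
    have key : ∀ b : ZMod 2, b ≠ 0 → b = 1 := fun b hb => by
      have := ZMod.pow_card_sub_one_eq_one hb
      simpa using this
    exact absurd (key a w.ne_zero) w.ne_one
  · exact e

/-- A subgroup of order `p ^ 4` is normal. -/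
theorem le_normalizer_of_card_four (c : Ctx F p) {N : Subgroup Ω} (hN : N ≤ S) (hcard : Nat.card N = p ^ 4) :
    S ≤ Subgroup.normalizer (N : Set Ω) := by
  have hS := c.hS
  haveI := finite_sub hN
  have hlt : N < S := lt_of_le_of_ne hN fun e => by
    rw [e, c.card] at hcard
    exact absurd (Nat.pow_right_injective hp.out.two_le hcard) (by norm_num)
  have h1 := FusionP3.Induction.lt_normalizerIn hS hlt
  haveI : Finite (normalizerIn S N) := finite_sub (normalizerIn_le N)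
  refine inf_eq_left.1 (Subgroup.eq_of_le_of_card_ge inf_le_left ?_)
  obtain ⟨k, hk⟩ := IsPGroup.iff_card.1 (isPGroup_of_le hS (normalizerIn_le (S := S) N))
  have h2 : Nat.card N < Nat.card (normalizerIn S N) := lt_of_le_of_ne (Subgroup.card_le_of_le h1.le)
    fun e' => h1.ne (Subgroup.eq_of_le_of_card_ge h1.le e'.ge)
  rw [hcard, hk] at h2
  rw [c.card]
  show p ^ 5 ≤ Nat.card (normalizerIn S N)
  rw [hk]
  exact Nat.pow_le_pow_right hp.out.pos ((Nat.pow_lt_pow_iff_right hp.out.one_lt).1 h2)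

/-- An elementary abelian essential subgroup of order `p ^ 3`. -/
theorem case_elementary (c : Ctx F p) (w : Weight p a) {E : Subgroup Ω} (hess : F.IsEssential p E)
    (hcard : Nat.card E = p ^ 3) (hEab : ∀ x ∈ E, ∀ y ∈ E, Commute x y) (hexp : ∀ x ∈ E, x ^ p = 1) :
    p = 3 ∧ Fixed S p ∧ Good F p E := by
  have hES := hess.2.1.1
  have hS := c.hS
  have hp1 := hp.out.one_lt
  haveI := finite_sub hES
  have hC := hess.1.2 E (isConj_refl F hES)
  have hEp := isPGroup_of_le hS hES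
  -- the Frattini subgroup
  have hidx : (frattini ↥E).index = p ^ 3 := by
    letI : CommGroup E :=
      { (inferInstance : Group E) with mul_comm := fun x y => Subtype.ext (hEab x x.2 y y.2).eq }
    have hbot : frattini ↥E = ⊥ := (Subgroup.eq_bot_iff_forall _).2 fun x hx => by
      obtain ⟨y, rfl⟩ := (FusionEssential.RankTwo.frattini_eq hEp x).1 hx
      exact Subtype.ext (by rw [Subgroup.coe_pow]; exact hexp y y.2)
    rw [hbot, Subgroup.index_bot, hcard]
  obtain ⟨V, _, _, _, ⟨D⟩⟩ := EssentialRankThree.exists_auto hS c.hF hess hidx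
  set N := normalizerIn S E with hNdef
  have hNS : N ≤ S := normalizerIn_le E
  have hEN : E ≤ N := le_normalizerIn hES
  haveI : Finite N := finite_sub hNS
  have hnE : N ≤ Subgroup.normalizer (E : Set Ω) := inf_le_right
  obtain ⟨⟨x₀, hx₀⟩, hx₀E⟩ := Resistant67.exists_normalizer_not_mem hS c.hF hess
  have sEN : Step p E N := by
    have hgen : N ≤ E ⊔ Subgroup.zpowers x₀ := fun n hn => by
      obtain ⟨-, k, e, he, rfl⟩ := D.exists_eq_mul_pow w.three_le hess hx₀ hx₀E hn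
      exact mul_mem (Subgroup.mem_sup_left he) (Subgroup.mem_sup_right (pow_mem (Subgroup.mem_zpowers x₀) k))
    obtain ⟨hfin, hle⟩ := card_sup_zpowers_le hp.out.pos (hnE hx₀)
      (D.exists_eq_mul_pow w.three_le hess hx₀ hx₀E hx₀).1
    haveI := hfin
    exact step_of_lt (lt_of_le_of_ne hEN fun e => hx₀E ((SetLike.ext_iff.1 e x₀).2 hx₀)) hnE
      ((Subgroup.card_le_of_le hgen).trans hle) (isPGroup_of_le hS hNS)
  have hNcard : Nat.card N = p ^ 4 := by rw [sEN.card, hcard]; ring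
  have hnN := le_normalizer_of_card_four c hNS hNcard
  have sN : Step p N S := ⟨hNS, hnN, by rw [c.card, hNcard]; ring, inferInstance⟩
  obtain ⟨s, hs, hsN⟩ := sN.exists_not_mem
  have hσA : IsAut N (cj s) := isAut_cj (hnN hs)
  set E' := hσA.image E with hE'def
  have hE'N : E' ≤ N := hσA.image_le E
  have sE'N : Step p E' N := by
    have := hσA.step_image le_rfl sEN
    rwa [hσA.image_top] at this
  have hE'card : Nat.card E' = p ^ 3 := (hσA.card_image hEN).trans hcard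
  have hE'ne : E' ≠ E := fun e => hsN ⟨hs, mem_normalizer_of_conj_mem fun y hy =>
    e.le (hσA.apply_mem_image hEN hy)⟩
  haveI : Finite E' := finite_sub (hE'N.trans hNS)
  have hEE' : ¬ E ≤ E' := fun e => hE'ne (Subgroup.eq_of_le_of_card_ge e (by rw [hE'card, hcard])).symm
  have hE'E : ¬ E' ≤ E := fun e => hE'ne (Subgroup.eq_of_le_of_card_ge e (by rw [hE'card, hcard]))
  obtain ⟨x, hxE', hxE⟩ := SetLike.not_le_iff_exists.1 hE'E
  have hxN := hE'N hxE'
  have hE'ab : ∀ y ∈ E', ∀ z ∈ E', Commute y z := by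
    intro y hy z hz
    obtain ⟨y', hy', rfl⟩ := (hσA.mem_image hEN).1 hy
    obtain ⟨z', hz', rfl⟩ := (hσA.mem_image hEN).1 hz
    rw [commute_iff_eq, ← hσA.mul _ (hEN hy') _ (hEN hz'), ← hσA.mul _ (hEN hz') _ (hEN hy'),
      (hEab y' hy' z' hz').eq]
  set Z := E' ⊓ E with hZdef
  have hZE : Z ≤ E := inf_le_right
  have sZE : Step p Z E := sE'N.inf hEN hEE'
  have hZcard : Nat.card Z = p ^ 2 := by
    have h1 := sZE.card
    rw [hcard] at h1
    exact (Nat.eq_of_mul_eq_mul_left hp.out.pos (by rw [← h1]; ring)).symm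
  have hcen : ∀ z ∈ Z, ∀ y ∈ N, Commute z y := fun z hz y hy =>
    (sEN.commute_all (fun b hb => hEab b hb z hz.2) hxN hxE (hE'ab x hxE' z hz.1) hy).symm
  have hcenmem : ∀ y ∈ N, (∀ v ∈ N, Commute y v) → y ∈ Z := by
    intro y hy hc
    have hE : ∀ y ∈ N, (∀ v ∈ N, Commute y v) → y ∈ E := fun y hy hc =>
      hC ⟨hNS hy, Subgroup.mem_centralizer_iff.2 fun v hv => (hc v (hEN hv)).symm⟩
    refine ⟨?_, hE y hy hc⟩
    obtain ⟨y', hy', rfl⟩ := hσA.exists_preimage le_rfl hσA.mem hy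
    refine hσA.apply_mem_image hEN (hE y' hy' fun v hv => ?_)
    have h1 := hc _ (hσA.mem v hv)
    rw [commute_iff_eq, ← hσA.mul _ hy' _ hv, ← hσA.mul _ hv _ hy'] at h1
    exact hσA.inj _ (mul_mem hy' hv) _ (mul_mem hv hy') h1
  have nZ : S ≤ Subgroup.normalizer (Z : Set Ω) := le_normalizer_of fun g hg z hz => by
    have hgA : IsAut N (cj g) := isAut_cj (hnN hg)
    refine hcenmem _ (hgA.mem z (hEN hz.2)) fun v hv => ?_
    obtain ⟨v', hv', rfl⟩ := hgA.exists_preimage le_rfl hgA.mem hv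
    show Commute (cj g z) (cj g v')
    rw [commute_iff_eq, ← hgA.mul _ (hEN hz.2) _ hv', ← hgA.mul _ hv' _ (hEN hz.2), (hcen z hz v' hv').eq]
  obtain ⟨A, sZA, hAN, nA⟩ := exists_step_between (p := p) hS hNS
    (lt_of_le_of_ne (hZE.trans hEN) fun e => by
      rw [e, hNcard] at hZcard
      exact absurd (Nat.pow_right_injective hp.out.two_le hZcard) (by norm_num)) nZ hnN
  haveI : Finite A := finite_sub (hAN.trans hNS)
  have sA : Step p A N := ⟨hAN, hNS.trans nA, by rw [hNcard, sZA.card, hZcard]; ring, inferInstance⟩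
  have hnab : ∃ y ∈ N, ∃ z ∈ N, ¬ Commute y z := by
    refine ⟨x, hxN, ?_⟩
    by_contra hcon
    push Not at hcon
    exact hxE (hC ⟨hNS hxN, Subgroup.mem_centralizer_iff.2 fun v hv => (hcon v (hEN hv)).symm⟩)
  have h := exists_four hS sN sA sZA nA nZ hZcard hcen hnab
  set N₁ := comSub N N with hN₁def
  have h1E : N₁ ≤ E := h.s1.le.trans hZE
  obtain ⟨d, hd, hdZ⟩ := sZE.exists_not_mem
  have hdN := hEN hd
  have hdA : d ∉ A := fun e => by
    have hEA : E = A := Subgroup.eq_of_le_of_card_ge (sZE.le_of_mem h.sZ.le hd hdZ e)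
      (by rw [sZA.card, hZcard, hcard]; exact (by ring : p * p ^ 2 = p ^ 3).le)
    exact hsN ⟨hs, (hEA ▸ nA) hs⟩
  have hds : ⁅d, s⁆ ∉ Z := by
    intro e
    refine hE'E fun y hy => ?_
    obtain ⟨y', hy', rfl⟩ := (hσA.mem_image hEN).1 hy
    rw [show cj s y' = y' * (y'⁻¹ * cj s y') by group, inv_mul_cj]
    refine mul_mem hy' (hZE ?_)
    exact sZE.comm_mem_all (hES.trans nZ) (nZ hs) (fun b hb => h.s1.le (h.comm_Z hS hb hs)) hd hdZ e (inv_mem hy')
  -- the transvection of `x`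
  have hc1 : ⁅d, x⁆ ∈ N₁ := h.comm d hdN x hxN
  have hfix : ∀ y ∈ E, Commute y x → y ∈ Z := fun y hy hyx => hcenmem y (hEN hy) fun v hv =>
    (sEN.commute_all (fun b hb => hEab b hb y hy) hxN hxE hyx.symm hv).symm
  have hc1' : ⁅d, x⁆ ∉ (⊥ : Subgroup Ω) := fun e => hdZ (hfix d hd (commute_of_comm e))
  have hu := FAut.conj (F := F) hES (⟨hNS hxN, hnE hxN⟩ : x ∈ normalizerIn S E)
  have huA := hu.isAut
  have hu1 : ∀ y ∈ E, y⁻¹ * cj x y ∈ N₁ := fun y hy => by
    rw [inv_mul_cj]; exact h.comm _ (hEN (inv_mem hy)) x hxN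
  have hu2 : ∀ y ∈ Z, y⁻¹ * cj x y ∈ (⊥ : Subgroup Ω) := fun y hy => by
    rw [inv_mul_cj]; exact comm_eq_one (hcen _ (inv_mem hy) x hxN)
  have hcgen : ∀ n ∈ N₁, ∃ k : ℕ, n = ⁅d, x⁆ ^ k := fun n hn => by
    obtain ⟨k, b, hb, rfl⟩ := h.s0.exists_eq hc1 hc1' hn
    exact ⟨k, by rw [Subgroup.mem_bot.1 hb, mul_one]⟩
  have hZi : ∀ {C : Subgroup Ω}, C ≤ Z → N ≤ Subgroup.normalizer (C : Set Ω) := fun {C} hCZ =>
    le_normalizer_of fun g hg y hy => by
      rw [← (hcen y (hCZ hy) g hg).eq, mul_inv_cancel_right]; exact hy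
  -- automorphisms sending `N₁` into `Z`
  have hclaim : ∀ g, FAut F E g → (∀ n ∈ N₁, g n ∈ Z) → (∀ z ∈ Z, g z ∈ Z) ∧ ∀ n ∈ N₁, g n ∈ N₁ := by
    intro g hg hg1
    obtain ⟨g', hg', hl, -⟩ := hg.exists_inv
    have hgA := hg.isAut
    have hbot := hgA.image_eq_self (bot_le (a := E)) (bot_invariant hgA)
    set C := hgA.image N₁ with hCdef
    have hCZ : C ≤ Z := fun y hy => by
      obtain ⟨n, hn, rfl⟩ := (hgA.mem_image h1E).1 hy
      exact hg1 n hn
    have sC := hgA.step_image h1E h.s0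
    rw [hbot] at sC
    haveI : Finite Z := finite_sub (hZE.trans hES)
    have sCZ : Step p C Z := ⟨hCZ, (hZE.trans hEN).trans (hZi hCZ), by
      rw [hZcard, hgA.card_image h1E, h.s0.card, Subgroup.card_bot]; ring, inferInstance⟩
    have hl1 : ∀ y ∈ E, y⁻¹ * (g ∘ cj x ∘ g') y ∈ C := fun y hy =>
      hgA.conj_layer hg'.isAut huA hl le_rfl h1E hu1 y (by rwa [hgA.image_top])
    have hl3 : ∀ y ∈ C, y⁻¹ * (g ∘ cj x ∘ g') y ∈ (⊥ : Subgroup Ω) := fun y hy => by
      have := hgA.conj_layer hg'.isAut huA hl h1E bot_le (fun v hv => hu2 v (h.s1.le hv)) y hy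
      rwa [hbot] at this
    obtain ⟨r, hr, hre⟩ := (ladder_three sZE sCZ sC hnE (hNS.trans nZ) (hZi hCZ)).exists_conj hS c.hF hess.2.1
      (hg.comp (hu.comp hg')) (fun k hk y hy => by
        match k, hk with
        | 0, _ => exact hCZ (hl1 y hy)
        | 1, _ => exact hl1 y (hZE hy)
        | 2, _ => exact hl3 y hy)
    have hre' : ∀ y ∈ E, g (cj x y) = cj r (g y) := fun y hy => by
      have := hre (g y) (hgA.mem y hy)
      simp only [Function.comp_apply] at this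
      rwa [hl y hy] at this
    have hrE : r ∉ E := by
      intro e
      refine hc1' (comm_eq_one ?_)
      have h1 := hre' d hd
      rw [show cj r (g d) = g d by rw [cj_apply, (hEab r e _ (hgA.mem d hd)).eq, mul_inv_cancel_right]] at h1
      have h2 := hgA.inj _ (huA.mem d hd) _ hd h1
      rw [cj_apply, mul_inv_eq_iff_eq_mul] at h2
      exact h2.symm
    refine ⟨fun z hz => ?_, fun n hn => ?_⟩
    · refine hcenmem _ (hEN (hgA.mem z (hZE hz))) fun v hv =>
        (sEN.commute_all (fun b hb => hEab b hb _ (hgA.mem z (hZE hz))) hr hrE ?_ hv).symm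
      have h1 := hre' z (hZE hz)
      rw [show cj x z = z by rw [cj_apply, ← (hcen z hz x hxN).eq, mul_inv_cancel_right], cj_apply,
        eq_mul_inv_iff_mul_eq] at h1
      exact h1.symm
    · obtain ⟨k, rfl⟩ := hcgen n hn
      rw [hgA.pow (h1E hc1), show ⁅d, x⁆ = d * cj x d⁻¹ by rw [cj_apply, commutatorElement_def]; group,
        hgA.mul _ hd _ (huA.mem _ (inv_mem hd)), hre' _ (inv_mem hd), hgA.inv hd,
        show g d * cj r (g d)⁻¹ = ⁅g d, r⁆ by rw [cj_apply, commutatorElement_def]; group]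
      exact pow_mem (h.comm _ (hEN (hgA.mem d hd)) r hr) k
  have hlad : Ladder p N E (ch3 E Z N₁) 3 := ladder_three sZE h.s1 h.s0 hnE (hNS.trans nZ) (hZi h.s1.le)
  -- the torus element attached to a moved `N₁`
  have htorus : ∀ g g', FAut F E g → FAut F E g' → (∀ y ∈ E, g' (g y) = y) → (∀ y ∈ E, g (g' y) = y) →
      g ⁅d, x⁆ ∉ Z →
      ∃ t, FAut F N t ∧ Sc t E Z a ∧ Sc t Z N₁ (1 : ZMod p) ∧ Sc t N₁ (⊥ : Subgroup Ω) a⁻¹ ∧
        t (g ⁅d, x⁆) = g ⁅d, x⁆ ^ a.val ∧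
        ∃ f, Word (cj x) (g ∘ cj x ∘ g') f ∧ ∀ z ∈ Z, f (g z) ∈ Z := by
    intro g g' hg hg' hl hr hgc
    have hgA := hg.isAut
    have hg'A := hg'.isAut
    set c₁ := ⁅d, x⁆ with hc₁def
    have hgcE : g c₁ ∈ E := hgA.mem _ (h1E hc1)
    set Lv := hgA.image Z with hLvdef
    have hLvE : Lv ≤ E := hgA.image_le Z
    have sLvE : Step p Lv E := by
      have := hgA.step_image le_rfl sZE
      rwa [hgA.image_top] at this
    have hgcLv : g c₁ ∈ Lv := hgA.apply_mem_image hZE (h.s1.le hc1)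
    have hLvZ : ¬ Lv ≤ Z := fun e => hgc (e hgcLv)
    have hZLv : ¬ Z ≤ Lv := fun e => hgc (by
      haveI : Finite Lv := finite_sub (hLvE.trans hES)
      rw [Subgroup.eq_of_le_of_card_ge e (hgA.card_image hZE).le]
      exact hgcLv)
    set ℓ := Z ⊓ Lv with hℓdef
    have sℓv : Step p ℓ Lv := sZE.inf hLvE hLvZ
    have sℓu : Step p ℓ Z := by
      have := sLvE.inf hZE hZLv
      rwa [inf_comm] at this
    have hNLv : c₁ ∉ Lv := by
      intro e
      refine hgc (h.s1.le ?_)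
      obtain ⟨z, hz, hze⟩ := (hgA.mem_image hZE).1 e
      have hN : ∀ n ∈ N₁, g' n ∈ Z := fun n hn => by
        obtain ⟨k, rfl⟩ := hcgen n hn
        rw [hg'A.pow (h1E hc1), ← hze, hl z (hZE hz)]
        exact pow_mem hz k
      obtain ⟨-, hinv⟩ := hclaim g' hg' hN
      haveI := finite_sub h.h1
      obtain ⟨n, hn, hne⟩ := hg'A.exists_preimage h1E hinv hc1
      rw [← hne, hr n (h1E hn)]
      exact hn
    have hv := hg.comp (hu.comp hg')
    have hv0 : ∀ y ∈ E, y⁻¹ * (g ∘ cj x ∘ g') y ∈ hgA.image N₁ := fun y hy =>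
      hgA.conj_layer hg'A huA hl le_rfl h1E hu1 y (by rwa [hgA.image_top])
    have hv1 : ∀ y ∈ E, y⁻¹ * (g ∘ cj x ∘ g') y ∈ Lv := fun y hy => hgA.image_mono h.s1.le (hv0 y hy)
    have hbot := hgA.image_eq_self (bot_le (a := E)) (bot_invariant hgA)
    have hv2 : ∀ y ∈ Lv, y⁻¹ * (g ∘ cj x ∘ g') y ∈ (⊥ : Subgroup Ω) := fun y hy => by
      have := hgA.conj_layer hg'A huA hl hZE bot_le hu2 y hy
      rwa [hbot] at this
    have hfixu : ∀ z ∈ ℓ, cj x z ∈ ℓ := fun z hz => by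
      rw [← inv_mul_eq_one.1 (Subgroup.mem_bot.1 (hu2 z hz.1))]; exact hz
    have hfixv : ∀ z ∈ ℓ, (g ∘ cj x ∘ g') z ∈ ℓ := fun z hz => by
      rw [← inv_mul_eq_one.1 (Subgroup.mem_bot.1 (hv2 z hz.2))]; exact hz
    have P : Plane p E ℓ Z Lv :=
      ⟨sℓu, sZE, sℓv, sLvE, fun e => hLvZ e.ge, hEN.trans (hZi inf_le_left)⟩
    have hune : ∃ y ∈ E, y⁻¹ * cj x y ∉ ℓ :=
      ⟨d⁻¹, inv_mem hd, fun e => hNLv (by rw [inv_mul_cj, inv_inv] at e; exact e.2)⟩
    have hdvx : (g d⁻¹)⁻¹ * (g ∘ cj x ∘ g') (g d⁻¹) = g c₁ := by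
      simp only [Function.comp_apply]
      rw [hl _ (inv_mem hd), ← hgA.inv (inv_mem hd), ← hgA.mul _ (inv_mem (inv_mem hd)) _ (huA.mem _ (inv_mem hd)),
        inv_mul_cj, inv_inv]
    have hvne : ∃ y ∈ E, y⁻¹ * (g ∘ cj x ∘ g') y ∉ ℓ :=
      ⟨g d⁻¹, hgA.mem _ (inv_mem hd), fun e => hgc (by rw [hdvx] at e; exact e.1)⟩
    obtain ⟨⟨T, hTw, hTu, hTv⟩, f, hf, hfZ⟩ := P.exists_torus huA hv.isAut hfixu hfixv
      (fun y hy => h.s1.le (hu1 y hy)) (fun y hy => bot_le (a := ℓ) (hu2 y hy)) hune hv1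
      (fun y hy => bot_le (a := ℓ) (hv2 y hy)) hvne (inv_ne_zero w.ne_zero)
    rw [inv_inv] at hTv
    have hT := hTw.faut hu hv
    -- `W = N₁⟨g c⟩`
    set W := N₁ ⊔ Subgroup.zpowers (g c₁) with hWdef
    have hWE : W ≤ E := sup_le h1E (Subgroup.zpowers_le.2 hgcE)
    have hgN : hgA.image N₁ ≤ W := fun y hy => by
      obtain ⟨n, hn, rfl⟩ := (hgA.mem_image h1E).1 hy
      obtain ⟨k, rfl⟩ := hcgen n hn
      rw [hgA.pow (h1E hc1)]
      exact Subgroup.mem_sup_right (pow_mem (Subgroup.mem_zpowers _) k)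
    have hTW : ∀ y ∈ W, T y ∈ W := hTw.maps
      (fun y hy => by
        rw [show cj x y = y * (y⁻¹ * cj x y) by group]
        exact mul_mem hy (Subgroup.mem_sup_left (hu1 y (hWE hy))))
      (fun y hy => by
        rw [show (g ∘ cj x ∘ g') y = y * (y⁻¹ * (g ∘ cj x ∘ g') y) by group]
        exact mul_mem hy (hgN (hv0 y (hWE hy))))
    have hWZ : ∀ z ∈ W, z ∈ Z → z ∈ N₁ := by
      intro z hz hzZ
      by_contra hz1
      have hEW : E ≤ W := sZE.le_of_mem (h.s1.le_of_mem le_sup_left hzZ hz1 hz) hgcE hgc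
        (Subgroup.mem_sup_right (Subgroup.mem_zpowers _))
      haveI := finite_sub h.h1
      obtain ⟨hWf, hWle⟩ := card_sup_zpowers_le hp.out.pos (hZi h.s1.le (hEN hgcE))
        (show g c₁ ^ p ∈ N₁ by rw [hexp _ hgcE]; exact one_mem _)
      haveI := hWf
      have := (Subgroup.card_le_of_le hEW).trans hWle
      rw [hcard, h.s0.card, Subgroup.card_bot, mul_one, ← sq] at this
      exact absurd ((Nat.pow_le_pow_iff_right hp1).1 this) (by norm_num)
    have hℓN : ∀ z ∈ ℓ, z ∈ N₁ → z = 1 := by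
      intro z hz hzN
      by_contra hz1
      exact hNLv (h.s0.le_of_mem bot_le hzN (by rwa [Subgroup.mem_bot]) hz.2 hc1)
    have hTZ : ∀ z ∈ Z, T z ∈ Z := fun z hz => hTu.mem sℓu.le hz
    have hTN : ∀ n ∈ N₁, T n ∈ N₁ := fun n hn =>
      hWZ _ (hTW n (Subgroup.mem_sup_left hn)) (hTZ n (h.s1.le hn))
    obtain ⟨t, ht, he⟩ := hlad.extend hS c.hF hess.2.1 hT (preserves_three hT.isAut hTZ hTN)
    obtain ⟨y, hy, hyℓ⟩ := sℓv.exists_not_mem
    obtain ⟨z, hz, hz1⟩ : ∃ z ∈ ℓ, z ≠ 1 := by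
      have hc : 1 < Nat.card ℓ := by
        have e1 := sℓu.card
        rw [hZcard, sq] at e1
        rw [← Nat.eq_of_mul_eq_mul_left hp.out.pos e1]; exact hp1
      haveI := sℓu.finB
      exact ℓ.bot_or_exists_ne_one.resolve_left fun e => by
        rw [e, Subgroup.card_bot] at hc; exact lt_irrefl _ hc
    refine ⟨t, ht, ?_, ?_, ?_, ?_, f, hf, fun z hz => hfZ _ (hgA.apply_mem_image hZE hz)⟩
    · exact (Sc.of_mem sZE hT.isAut le_rfl hTZ (hLvE hy) (fun e => hyℓ (P.mem_bot e hy))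
        (sℓu.le (hTv y hy))).congr fun v hv => he v hv
    · refine (Sc.of_mem h.s1 hT.isAut hZE hTN hz.1 (fun e => hz1 (hℓN z hz e)) ?_).congr
        fun v hv => he v (hZE hv)
      have hTz := hTw.layer (bot_le (a := ℓ)) (fun v hv => hu2 v hv.1) (fun v hv => hv2 v hv.2) z hz
      rw [Subgroup.mem_bot] at hTz
      rw [ZMod.val_one, pow_one, hTz]
      exact one_mem _
    · intro n hn
      rw [he n (h1E hn), Subgroup.mem_bot]
      exact hℓN _ (hTu n (h.s1.le hn)) (mul_mem (inv_mem (pow_mem hn _)) (hTN n hn))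
    · rw [he _ hgcE]
      refine (inv_mul_eq_one.1 (hℓN _ (hTv _ hgcLv) (hWZ _ ?_ (hTv _ hgcLv).1))).symm
      have hgW : g c₁ ∈ W := Subgroup.mem_sup_right (Subgroup.mem_zpowers _)
      exact mul_mem (inv_mem (pow_mem hgW _)) (hTW _ hgW)
  -- some element moves `N₁` out of `Z`
  obtain ⟨g₀, hg₀, hg₀c⟩ : ∃ g, FAut F E g ∧ g ⁅d, x⁆ ∉ Z := by
    by_contra hcon
    push Not at hcon
    refine false_of_invariant_ladder hS c.hF hess hlad fun t ht => ?_
    have h1 := hclaim t ht fun n hn => by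
      obtain ⟨k, rfl⟩ := hcgen n hn
      rw [ht.isAut.pow (h1E hc1)]
      exact pow_mem (hcon t ht) k
    exact preserves_three ht.isAut h1.1 h1.2
  obtain ⟨g₀', hg₀', hl₀, hr₀⟩ := hg₀.exists_inv
  obtain ⟨t, ht, htE, htZ, htN, -, -⟩ := htorus g₀ g₀' hg₀ hg₀' hl₀ hr₀ hg₀c
  have hp3fix : p = 3 ∧ Fixed S p := by
    by_cases hA : ∀ y ∈ A, t y ∈ A
    swap
    · push Not at hA
      obtain ⟨y, hy, hty⟩ := hA
      exact h.fixed_of_moved c w hdN hdA hs hsN hds ht hy hty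
    obtain ⟨η, hη0, hη⟩ := exists_sc h.sZ ht.isAut h.sA.le hA fun z hz => h.Z_invariant ht.isAut hz
    have hδ : Sc t N A a := Sc.of_mem h.sA ht.isAut le_rfl hA hdN hdA (h.sZ.le (htE d hd))
    have hν : a⁻¹ = a * η := h.sc_N₁ ht.isAut hδ hη htN
    obtain ⟨T, hT, he⟩ := h.extend c ht hA
    have h2 := h.sq_eq_one_and_fixed c hT.isAut (hδ.congr he) (hη.congr fun y hy => he y (h.sA.le hy))
      (htZ.congr fun z hz => he z (h.hZN hz)) w.ne_zero w.ne_one (fun e => w.five ?_) hdN hdA hs hsN hds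
    · exact ⟨w.two h2.1, h2.2 (w.two h2.1)⟩
    · calc a ^ 5 = a * a * a * a * a := by ring
        _ = a * a * a * a * (η * η) := by rw [e]
        _ = (a * η) * (a * η) * (a * a) := by ring
        _ = 1 := by
          rw [← hν]
          field_simp [w.ne_zero]
  refine ⟨hp3fix.1, hp3fix.2, fun χ hχ hbig => ?_⟩
  have hbigN : ∀ t, FAut F N t → Pres χ N t := fun t ht =>
    hbig N t (by rw [hcard, hNcard]; exact Nat.pow_lt_pow_right hp1 (by norm_num)) ht
  have hext : ∀ g, FAut F E g → g ⁅d, x⁆ ∈ Z → Pres χ E g := fun g hg hgc => by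
    have h1 := hclaim g hg fun n hn => by
      obtain ⟨k, rfl⟩ := hcgen n hn
      rw [hg.isAut.pow (h1E hc1)]
      exact pow_mem hgc k
    obtain ⟨t, ht, he⟩ := hlad.extend hS c.hF hess.2.1 hg (preserves_three hg.isAut h1.1 h1.2)
    exact Pres.of_ext hEN he (hbigN t ht)
  intro g hg
  by_cases hgc : g ⁅d, x⁆ ∈ Z
  · exact hext g hg hgc
  obtain ⟨g', hg', hl, hr⟩ := hg.exists_inv
  obtain ⟨t, ht, -, -, -, htgc, f, hf, hfZ⟩ := htorus g g' hg hg' hl hr hgc
  have hgcS := hES (hg.isAut.mem _ (h1E hc1))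
  have hgc0 : χ (g ⁅d, x⁆) = 0 :=
    hχ.eq_zero_of_scalar w.ne_one hgcS S.one_mem hχ.one (by rw [mul_one]; exact htgc)
      (hbigN t ht _ (hEN (hg.isAut.mem _ (h1E hc1))))
  have hv := hg.comp (hu.comp hg')
  have pv : Pres χ E (g ∘ cj x ∘ g') := hχ.pres_of_layer hES hv.isAut fun y hy => by
    have hy' := hg'.isAut.mem y hy
    obtain ⟨k, hk⟩ := hcgen _ (hu1 _ hy')
    have e : y⁻¹ * (g ∘ cj x ∘ g') y = g ((g' y)⁻¹ * cj x (g' y)) := by
      rw [hg.isAut.mul _ (inv_mem hy') _ (huA.mem _ hy'), hg.isAut.inv hy', hr y hy]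
      rfl
    rw [e, hk, hg.isAut.pow (h1E hc1), hχ.pow hgcS, hgc0, mul_zero]
  have pf := Pres.word hf huA hv.isAut (hχ.pres_cj hES (hNS hxN)) pv
  exact Pres.of_comp hg.isAut pf (hext _ ((hf.faut hu hv).comp hg) (hfZ _ (h.s1.le hc1)))

/-- An essential subgroup of order `p ^ 3`. -/
theorem case_three (c : Ctx F p) (w : Weight p a) {E : Subgroup Ω} (hess : F.IsEssential p E)
    (hcard : Nat.card E = p ^ 3) : p = 3 ∧ Fixed S p ∧ Good F p E := by
  have hES := hess.2.1.1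
  have hS := c.hS
  haveI := finite_sub hES
  by_cases hab : ∀ x ∈ E, ∀ y ∈ E, Commute x y
  · by_cases hexp : ∀ x ∈ E, x ^ p = 1
    · exact case_elementary c w hess hcard hab hexp
    · exfalso
      push Not at hexp
      obtain ⟨x, hx, hxp⟩ := hexp
      letI : CommGroup E :=
        { (inferInstance : Group E) with mul_comm := fun x y => Subtype.ext (hab x x.2 y y.2).eq }
      obtain ⟨Z, M, hZn, hMn, hZM, hZ, hM, hZi, hMi⟩ := S5186.chain_abelian (p := p) (H := ↥E) hcard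
        ⟨⟨x, hx⟩, fun e => hxp (congrArg Subtype.val e)⟩
      exact FusionEssential.SeriesNotEssential.not_essential_of_chain_three hS c.hF hess hcard hZn hMn hZM hZ hM
        hZi hMi
  · exfalso
    push Not at hab
    obtain ⟨Z, h⟩ := exists_cube hS hES hcard hab
    obtain ⟨L, sL, sR, hn⟩ := h.exists_line hS
    refine false_of_invariant_ladder hS c.hF hess
      (ladder_three sR sL h.sZ inf_le_right hn (h.normalizer_le_Z hS)) fun t ht =>
      preserves_three ht.isAut (fun x hx => ?_) fun x hx => h.Z_invariant hS ht.isAut hx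
    by_contra hx'
    exact h.false_of_moved c w hess.1 sL sR hn ht hx hx'

end Cfsg.Agent.Lib.FS.OrderFive
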