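import Cfsg.Agent.Lib.FusionSystem.OrderFive.Chr

/-!
# Essential subgroups of order at most `p ^ 2`
-/

set_option autoImplicit false
set_option linter.style.haveILetI false
set_option linter.unusedSectionVars false

namespace Cfsg.Agent.Lib.FS.OrderFive

open Cfsg Cfsg.FusionSystem Cfsg.Agent.Lib Cfsg.Agent.Lib.FS
open scoped commutatorElement

variable {Ω : Type*} [Group Ω] {S : Subgroup Ω} {p : ℕ} {F : FusionSystem S} [hp : Fact p.Prime] [Finite S]
  {a : ZMod p}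

/-- Two proper terms above `⊥`. -/
def ch2 (R A : Subgroup Ω) : ℕ → Subgroup Ω
  | 0 => R
  | 1 => A
  | _ => ⊥

theorem ladder_two {K R A : Subgroup Ω} (h₁ : Step p A R) (h₂ : Step p ⊥ A)
    (nR : K ≤ Subgroup.normalizer (R : Set Ω)) (nA : K ≤ Subgroup.normalizer (A : Set Ω)) :
    Ladder p K R (ch2 R A) 2 := by
  refine ⟨rfl, rfl, fun k hk => ?_, fun k hk => ?_⟩
  · match k, hk with
    | 0, _ => exact h₁
    | 1, _ => exact h₂
  · match k, hk with
    | 0, _ => exact nR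
    | 1, _ => exact nA
    | 2, _ => exact le_normalizer_bot K

theorem preserves_two {R A : Subgroup Ω} {t : Ω → Ω} (ht : IsAut R t) (hA : ∀ x ∈ A, t x ∈ A) :
    ∀ k ≤ 2, ∀ x ∈ ch2 R A k, t x ∈ ch2 R A k := by
  intro k hk x hx
  match k, hk with
  | 0, _ => exact ht.mem x hx
  | 1, _ => exact hA x hx
  | 2, _ => exact bot_invariant ht x hx

/-- An overgroup of a centric subgroup is centric. -/
theorem centric_of_le {E N : Subgroup Ω} (hE : F.IsCentric E) (hEN : E ≤ N) (hN : N ≤ S) : F.IsCentric N := by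
  refine ⟨hN, fun Q hQ => ?_⟩
  obtain ⟨φ, hφ, rfl⟩ := hQ
  obtain ⟨ψ, hψ, e⟩ := exists_restrict hφ hEN
  have hle : ψ.range ≤ φ.range := by
    rintro _ ⟨x, rfl⟩
    exact ⟨Subgroup.inclusion hEN x, (e x).symm⟩
  exact ((centralizerIn_anti hle).trans (hE.2 _ ⟨ψ, hψ, rfl⟩)).trans hle

/-- An essential subgroup has order at least `p ^ 2`. -/
theorem two_le_card (c : Ctx F p) {E : Subgroup Ω} (hess : F.IsEssential p E) {k : ℕ}
    (hcard : Nat.card E = p ^ k) : 2 ≤ k := by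
  have hES := hess.2.1.1
  haveI := finite_sub hES
  have hC := hess.1.2 E (isConj_refl F hES)
  by_contra hk
  rcases (show k = 0 ∨ k = 1 by omega) with rfl | rfl
  · rw [pow_zero, Subgroup.card_eq_one] at hcard
    subst hcard
    have hle : S ≤ ⊥ := fun x hx => hC ⟨hx, Subgroup.mem_centralizer_iff.2 fun w hw => by
      rw [SetLike.mem_coe, Subgroup.mem_bot] at hw; rw [hw, one_mul, mul_one]⟩
    have := c.card
    rw [le_bot_iff.1 hle, Subgroup.card_bot] at this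
    exact absurd this (Nat.one_lt_pow (by norm_num) hp.out.one_lt).ne
  · rw [pow_one] at hcard
    refine false_of_invariant_ladder c.hS c.hF hess
      (L := fun k => if k = 0 then E else ⊥) (m := 1) ⟨rfl, rfl, fun k hk => ?_, fun k hk => ?_⟩ ?_
    · obtain rfl : k = 0 := by omega
      exact ⟨bot_le, le_normalizer_bot E, by rw [if_pos rfl, if_neg (by omega), Subgroup.card_bot, mul_one, hcard],
        by rw [if_pos rfl]; infer_instance⟩
    · rcases (show k = 0 ∨ k = 1 by omega) with rfl | rfl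
      · exact inf_le_right
      · exact le_normalizer_bot _
    · intro t ht k hk x hx
      rcases (show k = 0 ∨ k = 1 by omega) with rfl | rfl
      · exact ht.isAut.mem x hx
      · exact bot_invariant ht.isAut x hx

/-- An essential subgroup of order `p ^ 2`. -/
theorem case_two (c : Ctx F p) (w : Weight p a) {E : Subgroup Ω} (hess : F.IsEssential p E)
    (hcard : Nat.card E = p ^ 2) : p = 3 ∧ Fixed S p ∧ Good F p E := by
  have hES := hess.2.1.1
  have hS := c.hS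
  have hp1 := hp.out.one_lt
  haveI := finite_sub hES
  have hC := hess.1.2 E (isConj_refl F hES)
  have hEab : ∀ x ∈ E, ∀ y ∈ E, Commute x y := fun x hx y hy =>
    congrArg Subtype.val (IsPGroup.commutative_of_card_eq_prime_sq hcard ⟨x, hx⟩ ⟨y, hy⟩)
  -- the centre of `S`
  have hlt : (⊥ : Subgroup Ω) < centralizerIn S S := by
    refine bot_lt_iff_ne_bot.2 fun e => ?_
    haveI : Nontrivial S :=
      Finite.one_lt_card_iff_nontrivial.1 (by rw [c.card]; exact Nat.one_lt_pow (by norm_num) hp1)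
    obtain ⟨⟨z, hz⟩, hz1⟩ := @exists_ne _ hS.center_nontrivial 1
    refine hz1 (Subtype.ext (Subtype.ext (Subgroup.mem_bot.1 (show (z : Ω) ∈ (⊥ : Subgroup Ω) from ?_))))
    rw [← e]
    exact ⟨z.2, Subgroup.mem_centralizer_iff.2 fun v hv =>
      congrArg Subtype.val (Subgroup.mem_center_iff.1 hz ⟨v, hv⟩)⟩
  obtain ⟨Z, sZ, hZle, nZ⟩ := exists_step_between (p := p) hS inf_le_left hlt (le_normalizer_bot S)
    (le_normalizer_of fun g hg x hx => by
      rw [(centralizerIn_commute hx hg).eq, mul_inv_cancel_right]; exact hx)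
  have hZc : ∀ z ∈ Z, ∀ x ∈ S, Commute z x := fun z hz x hx => (centralizerIn_commute (hZle hz) hx).symm
  have hZS : Z ≤ S := hZle.trans inf_le_left
  have hZE : Z ≤ E := fun z hz => hC ⟨hZS hz, Subgroup.mem_centralizer_iff.2 fun v hv => (hZc z hz v (hES hv)).symm⟩
  have hZcard : Nat.card Z = p := by rw [sZ.card, Subgroup.card_bot, mul_one]
  have sZE : Step p Z E := ⟨hZE, hES.trans nZ, by rw [hcard, hZcard, sq], inferInstance⟩
  obtain ⟨d, hd, hdZ⟩ := sZE.exists_not_mem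
  set N := normalizerIn S E with hNdef
  have hNS : N ≤ S := normalizerIn_le E
  have hEN : E ≤ N := le_normalizerIn hES
  haveI : Finite N := finite_sub hNS
  have hnE : N ≤ Subgroup.normalizer (E : Set Ω) := inf_le_right
  have hcZ : ∀ g ∈ N, ⁅d, g⁆ ∈ Z := fun g hg => step_comm hS sZE hg.1 hg.2 (nZ hg.1) hd
  have hmem : ∀ g ∈ N, Commute d g → g ∈ E := fun g hg hdg => hC ⟨hg.1, Subgroup.mem_centralizer_iff.2 fun x hx =>
    sZE.commute_all (fun z hz => hZc z hz g hg.1) hd hdZ hdg hx⟩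
  obtain ⟨⟨g₀, hg₀⟩, hg₀E⟩ := Resistant67.exists_normalizer_not_mem hS c.hF hess
  have hc0 : ⁅d, g₀⁆ ∈ Z := hcZ g₀ hg₀
  have hc01 : ⁅d, g₀⁆ ∉ (⊥ : Subgroup Ω) := fun e => hg₀E (hmem g₀ hg₀ (commute_of_comm e))
  have hdg : Commute g₀ ⁅d, g₀⁆ := (hZc _ hc0 g₀ hg₀.1).symm
  have sEN : Step p E N := by
    have hgp : g₀ ^ p ∈ E := hmem _ (pow_mem hg₀ p) (commutatorElement_eq_one_iff_commute.1 (by
      rw [comm_pow_right hdg]; exact Subgroup.mem_bot.1 (sZ.pow_mem hc0)))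
    have hgen : N ≤ E ⊔ Subgroup.zpowers g₀ := by
      intro g hg
      obtain ⟨n, b, hb, hn⟩ := sZ.exists_eq hc0 hc01 (hcZ g hg)
      rw [Subgroup.mem_bot] at hb
      rw [hb, mul_one, ← comm_pow_right hdg] at hn
      have hg' : (g₀ ^ n)⁻¹ * g ∈ E := by
        refine hmem _ (mul_mem (inv_mem (pow_mem hg₀ n)) hg) ?_
        have h1 : g * d⁻¹ * g⁻¹ = g₀ ^ n * d⁻¹ * (g₀ ^ n)⁻¹ := by
          simp only [commutatorElement_def, mul_assoc] at hn
          simpa [mul_assoc] using mul_left_cancel hn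
        refine Commute.inv_left_iff.1 ?_
        show d⁻¹ * ((g₀ ^ n)⁻¹ * g) = (g₀ ^ n)⁻¹ * g * d⁻¹
        calc d⁻¹ * ((g₀ ^ n)⁻¹ * g) = (g₀ ^ n)⁻¹ * (g₀ ^ n * d⁻¹ * (g₀ ^ n)⁻¹) * g := by group
          _ = (g₀ ^ n)⁻¹ * g * d⁻¹ := by rw [← h1]; group
      have := mul_mem (Subgroup.mem_sup_right (pow_mem (Subgroup.mem_zpowers g₀) n) : g₀ ^ n ∈ E ⊔ Subgroup.zpowers g₀)
        (Subgroup.mem_sup_left hg')
      rwa [mul_inv_cancel_left] at this
    obtain ⟨hfin, hle⟩ := card_sup_zpowers_le hp.out.pos (hnE hg₀) hgp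
    haveI := hfin
    exact step_of_lt (lt_of_le_of_ne hEN fun e => hg₀E ((SetLike.ext_iff.1 e g₀).2 hg₀)) hnE
      ((Subgroup.card_le_of_le hgen).trans hle) (isPGroup_of_le hS hNS)
  have hcube : Cube p S N Z := ⟨hNS, by rw [sEN.card, hcard]; ring, sZ, hZE.trans hEN,
    fun z hz x hx => hZc z hz x (hNS hx), d, hEN hd, g₀, hg₀, fun e => hc01 (comm_eq_one e)⟩
  have hNc : F.IsCentric N := centric_of_le hess.1 hEN hNS
  have hlad : Ladder p N E (ch2 E Z) 2 := ladder_two sZE sZ hnE (hNS.trans nZ)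
  -- an automorphism of `N` for every element moving `Z`
  have htorus : ∀ g, FAut F E g → ∀ x ∈ Z, g x ∉ Z → ∃ t, FAut F N t ∧ Sc t Z (⊥ : Subgroup Ω) a⁻¹ ∧
      ∃ y ∈ E, y ∉ Z ∧ t y = y ^ a.val := by
    intro g hg x hx hgx
    obtain ⟨g', hg', hl, -⟩ := hg.exists_inv
    have hgA := hg.isAut
    have hu := FAut.conj (F := F) hES hg₀
    have huA := hu.isAut
    have hv := hg.comp (hu.comp hg')
    have hu1 : ∀ y ∈ E, y⁻¹ * cj g₀ y ∈ Z := fun y hy => by
      rw [inv_mul_cj]; exact step_comm hS sZE hg₀.1 hg₀.2 (nZ hg₀.1) (inv_mem hy)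
    have hu2 : ∀ y ∈ Z, y⁻¹ * cj g₀ y ∈ (⊥ : Subgroup Ω) := fun y hy => by
      rw [inv_mul_cj]; exact comm_eq_one (hZc _ (inv_mem hy) _ hg₀.1)
    have hune : ∃ y ∈ E, y⁻¹ * cj g₀ y ∉ (⊥ : Subgroup Ω) :=
      ⟨d⁻¹, inv_mem hd, by rwa [inv_mul_cj, inv_inv]⟩
    have hbot := hgA.image_eq_self (bot_le (a := E)) (bot_invariant hgA)
    have hLv := hgA.step_image hZE sZ
    have hvR := hgA.step_image le_rfl sZE
    rw [hbot] at hLv
    rw [hgA.image_top] at hvR
    have P : Plane p E ⊥ Z (hgA.image Z) :=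
      ⟨sZ, sZE, hLv, hvR, fun e => hgx (e.symm ▸ hgA.apply_mem_image hZE hx), le_normalizer_bot E⟩
    have hv1 : ∀ y ∈ E, y⁻¹ * (g ∘ cj g₀ ∘ g') y ∈ hgA.image Z := fun y hy =>
      hgA.conj_layer hg'.isAut huA hl le_rfl hZE hu1 y (by rwa [hgA.image_top])
    have hv2 : ∀ y ∈ hgA.image Z, y⁻¹ * (g ∘ cj g₀ ∘ g') y ∈ (⊥ : Subgroup Ω) := fun y hy => by
      have := hgA.conj_layer hg'.isAut huA hl hZE bot_le hu2 y hy
      rwa [hbot] at this
    have hvne : ∃ y ∈ E, y⁻¹ * (g ∘ cj g₀ ∘ g') y ∉ (⊥ : Subgroup Ω) := by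
      obtain ⟨y, hy, hne⟩ := hune
      refine ⟨g y, hgA.mem y hy, fun e => hne ?_⟩
      rw [Subgroup.mem_bot] at e ⊢
      simp only [Function.comp_apply] at e
      rw [hl y hy, inv_mul_eq_one] at e
      rw [inv_mul_eq_one]
      exact hgA.inj _ hy _ (huA.mem y hy) e
    obtain ⟨⟨T, hTw, hTu, hTv⟩, -⟩ := P.exists_torus huA hv.isAut (bot_invariant huA) (bot_invariant hv.isAut)
      hu1 hu2 hune hv1 hv2 hvne (inv_ne_zero w.ne_zero)
    rw [inv_inv] at hTv
    have hT := hTw.faut hu hv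
    obtain ⟨t, ht, he⟩ := hlad.extend hS c.hF hess.2.1 hT
      (preserves_two hT.isAut fun z hz => hTu.mem bot_le hz)
    obtain ⟨y, hy, hy1⟩ := hLv.exists_not_mem
    have hyE := hgA.image_le Z hy
    exact ⟨t, ht, hTu.congr fun z hz => he z (hZE hz), y, hyE, fun e => hy1 (P.mem_bot e hy),
      (he y hyE).trans (hTv.eq_pow hy)⟩
  obtain ⟨g₁, hg₁, x₁, hx₁, hgx₁⟩ : ∃ g, FAut F E g ∧ ∃ x ∈ Z, g x ∉ Z := by
    by_contra hcon
    push Not at hcon
    exact false_of_invariant_ladder hS c.hF hess hlad fun t ht => preserves_two ht.isAut (hcon t ht)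
  obtain ⟨t, ht, htZ, y, hy, hyZ, hty⟩ := htorus g₁ hg₁ x₁ hx₁ hgx₁
  obtain ⟨L, sL, sR, hnL⟩ := hcube.exists_line hS
  have hEL : ¬ E ≤ L := by
    intro e
    haveI := sR.finB
    have hLE : E = L := Subgroup.eq_of_le_of_card_ge e (by
      rw [sL.card, hZcard, hcard, sq])
    have h4 := hcube.card_normalizer hS c.card (hNc.2 N (isConj_refl F hNS))
    have hle : normalizerIn S N ≤ N := le_inf (normalizerIn_le N) (hLE ▸ hnL)
    have := Subgroup.card_le_of_le hle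
    rw [h4, hcube.card] at this
    exact absurd ((Nat.pow_le_pow_iff_right hp1).1 this) (by norm_num)
  have hyL : y ∉ L := fun e => hEL (sZE.le_of_mem sL.le hy hyZ e)
  have htA := ht.isAut
  have hLt : ∀ x ∈ L, t x ∈ L := fun x hx => by
    by_contra hx'
    exact hcube.false_of_moved c w hNc sL sR hnL ht hx hx'
  have hta : Sc t N L a := by
    refine Sc.of_mem sR htA le_rfl hLt (hEN hy) hyL ?_
    rw [hty, inv_mul_cancel]
    exact one_mem _
  obtain ⟨b, hb0, htb⟩ := exists_sc sL htA sR.le hLt fun z hz => htZ.mem bot_le hz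
  obtain ⟨l, hl, hlZ⟩ := sL.exists_not_mem
  have hab : a⁻¹ = a * b := by
    refine Sc.eq_mul_of_comm htA sR sL sZ le_rfl sR.le (le_normalizer_bot N) ?_ ?_ ?_ ?_ ?_ hta htb htZ
      (hEN hy) hl fun e => hcube.not_commute sL sR (hEN hy) hyL hl hlZ (commute_of_comm e)
    · exact fun x hx z hz => comm_eq_one (hcube.L_comm sL sR x hx z hz)
    · exact fun x hx z hz => comm_eq_one (hZc z hz x (hNS hx)).symm
    · exact fun x hx z hz => comm_mem_symm (hcube.comm_mem_Z sL sR hS hx hz)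
    · exact fun z hz x hx => comm_eq_one (hZc z hz x (hNS hx))
    · exact fun z hz x hx => comm_eq_one (hZc z hz x (hNS (sR.le hx)))
  obtain ⟨hb4, hfix⟩ := hcube.climb c hNc sL sR hnL ht w.ne_zero hb0 hta htb
  have hp3 : p = 3 := w.six (by
    calc a ^ 6 = a * (a * a ^ 4) := by ring
      _ = 1 := by rw [← hb4, ← hab, mul_inv_cancel₀ w.ne_zero])
  refine ⟨hp3, hfix hp3, fun χ hχ hbig => ?_⟩
  have hbigN : ∀ t, FAut F N t → Pres χ N t := fun t ht =>
    hbig N t (by rw [hcard, hcube.card]; exact Nat.pow_lt_pow_right hp1 (by norm_num)) ht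
  intro g hg
  by_cases hgZ : ∀ x ∈ Z, g x ∈ Z
  · obtain ⟨t', ht', he⟩ := hlad.extend hS c.hF hess.2.1 hg (preserves_two hg.isAut hgZ)
    exact Pres.of_ext hEN he (hbigN t' ht')
  push Not at hgZ
  obtain ⟨x, hx, hgx⟩ := hgZ
  obtain ⟨t', ht', htZ', y', hy', hyZ', hty'⟩ := htorus g hg x hx hgx
  have hpres := hbigN t' ht'
  have hZ0 : ∀ z ∈ Z, χ z = 0 := fun z hz =>
    hχ.eq_zero_of_scalar w.inv_ne_one (hZS hz) S.one_mem hχ.one (by rw [mul_one]; exact htZ'.eq_pow hz)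
      (hpres z (hEN (hZE hz)))
  have hy0 : χ y' = 0 :=
    hχ.eq_zero_of_scalar w.ne_one (hES hy') S.one_mem hχ.one (by rw [mul_one]; exact hty') (hpres y' (hEN hy'))
  have hE0 : ∀ v ∈ E, χ v = 0 := fun v hv => by
    obtain ⟨n, z, hz, rfl⟩ := sZE.exists_eq hy' hyZ' hv
    rw [hχ _ (S.pow_mem (hES hy') n) _ (hZS hz), hχ.pow (hES hy'), hy0, hZ0 z hz, mul_zero, add_zero]
  intro v hv
  rw [hE0 v hv, hE0 _ (hg.isAut.mem v hv)]

end Cfsg.Agent.Lib.FS.OrderFive
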