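import Cfsg.Agent.Lib.FusionSystem.OrderFive.Moved

/-!
# Additive functions on `S` preserved by automorphisms
-/

set_option autoImplicit false
set_option linter.style.haveILetI false
set_option linter.unusedSectionVars false

namespace Cfsg.Agent.Lib.FS.OrderFive

open Cfsg Cfsg.FusionSystem Cfsg.Agent.Lib Cfsg.Agent.Lib.FS
open scoped commutatorElement

variable {Ω : Type*} [Group Ω] {S : Subgroup Ω} {p : ℕ} {F : FusionSystem S}

/-- An additive function on `S`. -/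
def Chr (S : Subgroup Ω) (χ : Ω → ZMod p) : Prop := ∀ x ∈ S, ∀ y ∈ S, χ (x * y) = χ x + χ y

/-- `t` preserves `χ` on `R`. -/
def Pres (χ : Ω → ZMod p) (R : Subgroup Ω) (t : Ω → Ω) : Prop := ∀ x ∈ R, χ (t x) = χ x

/-- Every additive function preserved on all larger subgroups is preserved on `E`. -/
def Good (F : FusionSystem S) (p : ℕ) (E : Subgroup Ω) : Prop :=
  ∀ χ : Ω → ZMod p, Chr S χ →
    (∀ (R : Subgroup Ω) (t : Ω → Ω), Nat.card E < Nat.card R → FAut F R t → Pres χ R t) →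
      ∀ t : Ω → Ω, FAut F E t → Pres χ E t

namespace Chr

variable {χ : Ω → ZMod p} (h : Chr S χ)

include h

theorem one : χ 1 = 0 := by
  have := h 1 S.one_mem 1 S.one_mem
  rw [one_mul, left_eq_add] at this
  exact this

theorem inv {x : Ω} (hx : x ∈ S) : χ x⁻¹ = -χ x := by
  have := h x hx x⁻¹ (S.inv_mem hx)
  rw [mul_inv_cancel, h.one] at this
  exact (neg_eq_of_add_eq_zero_right this.symm).symm

theorem pow {x : Ω} (hx : x ∈ S) : ∀ n : ℕ, χ (x ^ n) = n * χ x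
  | 0 => by rw [pow_zero, h.one, Nat.cast_zero, zero_mul]
  | n + 1 => by rw [pow_succ, h _ (S.pow_mem hx n) _ hx, pow hx n]; push_cast; ring

theorem conj {x g : Ω} (hx : x ∈ S) (hg : g ∈ S) : χ (g * x * g⁻¹) = χ x := by
  rw [h _ (S.mul_mem hg hx) _ (S.inv_mem hg), h _ hg _ hx, h.inv hg]; ring

theorem comm {x y : Ω} (hx : x ∈ S) (hy : y ∈ S) : χ ⁅x, y⁆ = 0 := by
  rw [commutatorElement_def, h _ (S.mul_mem (S.mul_mem hx hy) (S.inv_mem hx)) _ (S.inv_mem hy), h.conj hy hx,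
    h.inv hy, add_neg_cancel]

/-- The zeros of `χ ∘ t` in `R`. -/
def kerMap {R : Subgroup Ω} {t : Ω → Ω} (hR : R ≤ S) (ht : IsAut R t) : Subgroup Ω where
  carrier := {x | x ∈ R ∧ χ (t x) = 0}
  one_mem' := ⟨one_mem R, by rw [ht.one, h.one]⟩
  mul_mem' := fun {x y} hx hy => ⟨mul_mem hx.1 hy.1, by
    rw [ht.mul _ hx.1 _ hy.1, h _ (hR (ht.mem _ hx.1)) _ (hR (ht.mem _ hy.1)), hx.2, hy.2, add_zero]⟩
  inv_mem' := fun {x} hx => ⟨inv_mem hx.1, by
    rw [ht.inv hx.1, h.inv (hR (ht.mem _ hx.1)), hx.2, neg_zero]⟩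

theorem mem_kerMap {R : Subgroup Ω} {t : Ω → Ω} (hR : R ≤ S) (ht : IsAut R t) {x : Ω} :
    x ∈ h.kerMap hR ht ↔ x ∈ R ∧ χ (t x) = 0 :=
  Iff.rfl

theorem comSub_eq_zero {A B : Subgroup Ω} (hA : A ≤ S) (hB : B ≤ S) {x : Ω} (hx : x ∈ comSub A B) : χ x = 0 := by
  have hle : comSub A B ≤ h.kerMap le_rfl (isAut_id S) := comSub_le fun a ha b hb => by
    refine ⟨?_, h.comm (hA ha) (hB hb)⟩
    rw [commutatorElement_def]
    exact S.mul_mem (S.mul_mem (S.mul_mem (hA ha) (hB hb)) (S.inv_mem (hA ha))) (S.inv_mem (hB hb))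
  exact (hle hx).2

/-- A preserved element with a scalar different from `1` is a zero. -/
theorem eq_zero_of_scalar [Fact p.Prime] {k : ZMod p} (hk : k ≠ 1) {x b : Ω} (hx : x ∈ S) (hb : b ∈ S)
    (hb0 : χ b = 0) {t : Ω → Ω} (ht : t x = x ^ k.val * b) (hpres : χ (t x) = χ x) : χ x = 0 := by
  rw [ht, h _ (S.pow_mem hx _) _ hb, h.pow hx, hb0, add_zero, ZMod.natCast_zmod_val] at hpres
  have h2 : (k - 1) * χ x = 0 := by linear_combination hpres
  exact (mul_eq_zero.1 h2).resolve_left (sub_ne_zero.2 hk)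

theorem pres_cj {R : Subgroup Ω} (hR : R ≤ S) {g : Ω} (hg : g ∈ S) : Pres χ R (cj g) := fun x hx =>
  h.conj (hR hx) hg

theorem pres_of_layer {R : Subgroup Ω} (hR : R ≤ S) {t : Ω → Ω} (ht : IsAut R t)
    (hl : ∀ x ∈ R, χ (x⁻¹ * t x) = 0) : Pres χ R t := fun x hx => by
  have h1 := hl x hx
  rw [h _ (S.inv_mem (hR hx)) _ (hR (ht.mem x hx)), h.inv (hR hx)] at h1
  linear_combination h1

end Chr

theorem Pres.word {χ : Ω → ZMod p} {R : Subgroup Ω} {u v f : Ω → Ω} (hf : Word u v f) (hu : IsAut R u)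
    (hv : IsAut R v) (pu : Pres χ R u) (pv : Pres χ R v) : Pres χ R f := by
  induction hf with
  | one => exact fun x _ => rfl
  | left => exact pu
  | right => exact pv
  | @comp f g hf hg i₁ i₂ =>
    intro x hx
    rw [Function.comp_apply, i₁ _ ((hg.isAut hu hv).mem x hx), i₂ x hx]

/-- An automorphism preserved after composing with a preserved one is preserved. -/
theorem Pres.of_comp {χ : Ω → ZMod p} {R : Subgroup Ω} {f t : Ω → Ω} (ht : IsAut R t) (pf : Pres χ R f)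
    (pft : Pres χ R (f ∘ t)) : Pres χ R t := fun x hx =>
  (pf _ (ht.mem x hx)).symm.trans (pft x hx)

/-- An automorphism with an extension to a larger subgroup is preserved. -/
theorem Pres.of_ext {χ : Ω → ZMod p} {E R : Subgroup Ω} {t t' : Ω → Ω} (hER : E ≤ R) (he : ∀ x ∈ E, t' x = t x)
    (h : Pres χ R t') : Pres χ E t := fun x hx => by
  rw [← he x hx]; exact h x (hER hx)

end Cfsg.Agent.Lib.FS.OrderFive
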