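import Cfsg.Agent.Lib.FusionSystem.OrderFive.Cube

/-!
# Climbing from a centric nonabelian subgroup of order `p ^ 3` to `S`
-/

set_option autoImplicit false
set_option linter.style.haveILetI false
set_option linter.unusedSectionVars false

namespace Cfsg.Agent.Lib.FS.OrderFive

open Cfsg Cfsg.FusionSystem Cfsg.Agent.Lib Cfsg.Agent.Lib.FS
open scoped commutatorElement

variable {Ω : Type*} [Group Ω] {S : Subgroup Ω} {p : ℕ} {F : FusionSystem S} [hp : Fact p.Prime] [Finite S]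

/-- An automorphism preserving a line of a centric nonabelian subgroup of order `p ^ 3`, with scalars `a` on
`R / L` and `b` on `L / Z`, has `b = a ^ 4`; for `p = 3` an element is then fixed. -/
theorem Cube.climb {R Z L : Subgroup Ω} (h : Cube p S R Z) (c : Ctx F p) (hc : F.IsCentric R)
    (sL : Step p Z L) (sR : Step p L R) (hn : normalizerIn S R ≤ Subgroup.normalizer (L : Set Ω))
    {t : Ω → Ω} (ht : FAut F R t) {a b : ZMod p} (ha : a ≠ 0) (hb : b ≠ 0) (hta : Sc t R L a)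
    (htb : Sc t L Z b) : b = a ^ 4 ∧ (p = 3 → Fixed S p) := by
  have hS := c.hS
  have hp1 := hp.out.one_lt
  have hC := hc.2 R (isConj_refl F h.le)
  have htA := ht.isAut
  have hRf := h.isFullyNormalized hS c.card hc
  have sRN := h.step_normalizer hS c.card hC
  set N := normalizerIn S R with hNdef
  have hNS : N ≤ S := normalizerIn_le R
  haveI := finite_sub h.le
  haveI : Finite N := finite_sub hNS
  have hLR := sR.le
  have hLS := hLR.trans h.le
  have hZS := h.zR.trans h.le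
  haveI : Finite L := finite_sub hLS
  have hZn : N ≤ Subgroup.normalizer (Z : Set Ω) := h.normalizer_le_Z hS
  have hRN : R ≤ N := sRN.le
  have hLi : ∀ x ∈ L, t x ∈ L := fun x hx => htb.mem sL.le hx
  have hZi : ∀ x ∈ Z, t x ∈ Z := fun x hx => h.Z_invariant hS htA hx
  have hnR : N ≤ Subgroup.normalizer (R : Set Ω) := inf_le_right
  obtain ⟨e, he, heL⟩ := sR.exists_not_mem
  obtain ⟨l, hl, hlZ⟩ := sL.exists_not_mem
  have heN := hRN he
  have hlR := hLR hl
  have hlN := hRN hlR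
  have hc0 : ⁅e, l⁆ ∈ Z := comm_mem_symm (h.comm_mem_Z sL sR hS he hl)
  have hc01 : ⁅e, l⁆ ∉ (⊥ : Subgroup Ω) := fun e' => h.not_commute sL sR he heL hl hlZ (commute_of_comm e')
  have hLab := h.L_comm sL sR
  -- the scalar on `Z`
  obtain ⟨ν, -, hν⟩ := exists_sc h.sZ htA h.zR hZi (bot_invariant htA)
  have hνab : ν = a * b := by
    refine Sc.eq_mul_of_comm htA sR sL h.sZ le_rfl hLR (le_normalizer_bot R) ?_ ?_ ?_ ?_ ?_ hta htb hν he hl hc01
    · exact fun x hx y hy => comm_eq_one (hLab x hx y hy)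
    · exact fun x hx y hy => comm_eq_one (h.central y hy x hx).symm
    · exact fun x hx y hy => comm_mem_symm (h.comm_mem_Z sL sR hS hx hy)
    · exact fun z hz x hx => comm_eq_one (h.central z hz x hx)
    · exact fun z hz x hx => comm_eq_one (h.central z hz x (hLR hx))
  -- extend to `N`
  obtain ⟨t₁, ht₁, he₁⟩ := (ladder_three sR sL h.sZ hnR hn hZn).extend hS c.hF hRf ht
    (preserves_three htA hLi hZi)
  have ht₁A := ht₁.isAut
  -- `M = C_N(L)`
  set M := centralizerIn N L with hMdef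
  have hMN : M ≤ N := inf_le_left
  have hMS := hMN.trans hNS
  haveI : Finite M := finite_sub hMS
  have hMn : N ≤ Subgroup.normalizer (M : Set Ω) := le_normalizer_of fun g hg x hx =>
    centralizerIn_invariant (isAut_cj (Subgroup.le_normalizer hg)) (hLR.trans hRN)
      (fun w hw => conj_mem_of_le hn hg hw) hx
  have hLM : L ≤ M := fun x hx =>
    ⟨hRN (hLR hx), Subgroup.mem_centralizer_iff.2 fun w hw => hLab w hw x hx⟩
  have heM : e ∉ M := fun e' => h.not_commute sL sR he heL hl hlZ (centralizerIn_commute e' hl).symm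
  have hZc : ∀ z ∈ Z, ∀ g ∈ N, Commute z g := fun z hz g hg => h.comm_Z hS hz hg
  have hcomL : ∀ g ∈ N, ∀ w ∈ L, ⁅g, w⁆ ∈ Z := fun g hg w hw =>
    comm_mem_symm (step_comm hS sL (hNS hg) (hn hg) (hZn hg) hw)
  have hNgen : N ≤ M ⊔ Subgroup.zpowers e := by
    intro g hg
    obtain ⟨n, w, hw, hn'⟩ := h.sZ.exists_eq hc0 hc01 (hcomL g hg l hl)
    rw [Subgroup.mem_bot] at hw
    rw [hw, mul_one, ← PGroups.commutatorElement_pow_left_of_central e l (h.central _ hc0 e he).symm] at hn'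
    have hg' : (e ^ n)⁻¹ * g ∈ N := mul_mem (inv_mem (pow_mem heN n)) hg
    have hcl : Commute l ((e ^ n)⁻¹ * g) := by
      have h1 : g * l * g⁻¹ = e ^ n * l * (e ^ n)⁻¹ := by
        simp only [commutatorElement_def] at hn'
        exact mul_right_cancel hn'
      show l * ((e ^ n)⁻¹ * g) = (e ^ n)⁻¹ * g * l
      calc l * ((e ^ n)⁻¹ * g) = (e ^ n)⁻¹ * (e ^ n * l * (e ^ n)⁻¹) * g := by group
        _ = (e ^ n)⁻¹ * g * l := by rw [← h1]; group
    have hM' : (e ^ n)⁻¹ * g ∈ M := ⟨hg', Subgroup.mem_centralizer_iff.2 fun w hw =>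
      sL.commute_all (fun z hz => hZc z hz _ hg') hl hlZ hcl hw⟩
    have := mul_mem (Subgroup.mem_sup_right (pow_mem (Subgroup.mem_zpowers e) n) : e ^ n ∈ M ⊔ Subgroup.zpowers e)
      (Subgroup.mem_sup_left hM')
    rwa [mul_inv_cancel_left] at this
  have sMN : Step p M N := by
    obtain ⟨hfin, hle⟩ := card_sup_zpowers_le hp.out.pos (hMn heN) (hLM (sR.pow_mem he))
    haveI := hfin
    exact step_of_lt (lt_of_le_of_ne hMN fun e' => heM (e' ▸ heN)) hMn
      ((Subgroup.card_le_of_le hNgen).trans hle) (isPGroup_of_le hS hNS)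
  have hMc : Nat.card M = p ^ 3 := by
    have h1 := sMN.card
    rw [sRN.card, h.card] at h1
    exact (Nat.eq_of_mul_eq_mul_left hp.out.pos h1).symm
  have sLM : Step p L M := by
    refine ⟨hLM, hMN.trans hn, ?_, inferInstance⟩
    rw [hMc, sL.card, h.card_Z]; ring
  have hMab : ∀ x ∈ M, ∀ y ∈ M, Commute x y := fun x hx y hy =>
    sLM.commute_of_central (fun w hw x hx => centralizerIn_commute hx hw) hx hy
  have hinf : ∀ x ∈ M, x ∈ R → x ∈ L := fun x hx hxR => by_contra fun hxL =>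
    h.not_commute sL sR hxR hxL hl hlZ (centralizerIn_commute hx hl).symm
  obtain ⟨m, hm, hmL⟩ := sLM.exists_not_mem
  have hmN := hMN hm
  have hem : ⁅e, m⁆ ∈ L := hinf _ (comm_mem_right hMn heN hm) (comm_mem_left hnR hmN he)
  have hemZ : ⁅e, m⁆ ∉ Z := fun e' => hmL (hinf m hm (h.mem_of_trivial sL sR hS hC hmN fun x hx =>
    comm_mem_symm (sR.comm_mem_all ((le_normalizerIn h.le).trans hZn) (hZn hmN)
      (fun w hw => comm_mem_symm (hcomL m hmN w hw)) he heL e' hx)))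
  -- the characteristic subgroups of `N`
  have hNN : ∀ x ∈ N, ∀ y ∈ N, ⁅x, y⁆ ∈ L := fun x hx y hy =>
    hinf _ (sMN.comm_mem hx hy) (sRN.comm_mem hx hy)
  have hLeq : comSub N N = L := by
    refine le_antisymm (comSub_le hNN) (sL.le_of_mem ?_ hem hemZ (mem_comSub heN hmN))
    exact h.sZ.le_of_mem bot_le hc0 hc01 (mem_comSub heN hlN)
  have hLinv : ∀ {u : Ω → Ω}, IsAut N u → ∀ x ∈ L, u x ∈ L := fun hu x hx => by
    rw [← hLeq] at hx ⊢
    exact hu.comSub_mem le_rfl le_rfl hu.mem hu.mem hx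
  have hMinv : ∀ {u : Ω → Ω}, IsAut N u → ∀ x ∈ M, u x ∈ M := fun hu x hx =>
    centralizerIn_invariant hu (hLR.trans hRN) (hLinv hu) hx
  have hZinv : ∀ {u : Ω → Ω}, IsAut N u → ∀ x ∈ Z, u x ∈ Z := fun {u} hu x hx => by
    refine h.center_mem hS (hLR (hLinv hu x (sL.le hx))) fun y hy => ?_
    obtain ⟨y', hy', rfl⟩ := hu.exists_preimage le_rfl hu.mem (hRN hy)
    rw [commute_iff_eq, ← hu.mul _ (hRN (h.zR hx)) _ hy', ← hu.mul _ hy' _ (hRN (h.zR hx)),
      (hZc x hx y' hy').eq]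
  have hN4 : Nat.card N = p ^ 4 := h.card_normalizer hS c.card hC
  have hNS' : N < S := lt_of_le_of_ne hNS fun e' => by
    rw [e', c.card] at hN4
    exact absurd (Nat.pow_right_injective hp.out.two_le hN4) (by norm_num)
  have hNn : S ≤ Subgroup.normalizer (N : Set Ω) := by
    have h1 := FusionP3.Induction.lt_normalizerIn hS hNS'
    haveI : Finite (normalizerIn S N) := finite_sub (normalizerIn_le N)
    rw [← inf_eq_left]
    refine Subgroup.eq_of_le_of_card_ge inf_le_left ?_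
    rw [c.card]
    obtain ⟨k, hk⟩ := IsPGroup.iff_card.1 (isPGroup_of_le hS (normalizerIn_le (S := S) N))
    have h2 : Nat.card N < Nat.card (normalizerIn S N) := lt_of_le_of_ne (Subgroup.card_le_of_le h1.le)
      fun e' => h1.ne (Subgroup.eq_of_le_of_card_ge h1.le e'.ge)
    rw [hN4, hk] at h2
    show p ^ 5 ≤ Nat.card (normalizerIn S N)
    rw [hk]
    exact Nat.pow_le_pow_right hp.out.pos ((Nat.pow_lt_pow_iff_right hp1).1 h2)
  have sNS : Step p N S := ⟨hNS, hNn, by rw [c.card, hN4]; ring, inferInstance⟩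
  have hnL : S ≤ Subgroup.normalizer (L : Set Ω) :=
    le_normalizer_of fun g hg x hx => hLinv (isAut_cj (hNn hg)) x hx
  have hnM : S ≤ Subgroup.normalizer (M : Set Ω) :=
    le_normalizer_of fun g hg x hx => hMinv (isAut_cj (hNn hg)) x hx
  have hnZ : S ≤ Subgroup.normalizer (Z : Set Ω) :=
    le_normalizer_of fun g hg x hx => hZinv (isAut_cj (hNn hg)) x hx
  have hZS' : ∀ z ∈ Z, ∀ g ∈ S, Commute z g := fun z hz g hg =>
    commute_of_comm (step_comm hS h.sZ hg (hnZ hg) (le_normalizer_bot S hg) hz)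
  -- extend to `S`
  have hNS_eq : normalizerIn S N = S := normalizerIn_of_le_normalizer hNn
  obtain ⟨t₂, ht₂, he₂⟩ := (ladder_four sMN sLM sL h.sZ inf_le_right (inf_le_left.trans hnM)
    (inf_le_left.trans hnL) (inf_le_left.trans hnZ)).extend hS c.hF
    (fullyNormalized_of_le_normalizer hNS hNn) ht₁ (preserves_four ht₁A (hMinv ht₁A) (hLinv ht₁A) (hZinv ht₁A))
  rw [hNS_eq] at ht₂
  have ht₂A := ht₂.isAut
  have hN₂ : IsAut N t₂ := ht₁A.congr he₂
  have het : ∀ x ∈ R, t₂ x = t x := fun x hx => (he₂ x (hRN hx)).trans (he₁ x hx)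
  -- `s`
  obtain ⟨s₀, hs₀, hs₀N⟩ := sNS.exists_not_mem
  have hls₀ : ⁅l, s₀⁆ ∈ Z := step_comm hS sL hs₀ (hnL hs₀) (hnZ hs₀) hl
  have hle : ⁅l, e⁆ ∈ Z := comm_mem_symm hc0
  obtain ⟨n, w, hw, hn'⟩ := h.sZ.exists_eq hle (fun e' => hc01 (comm_mem_symm e')) hls₀
  rw [Subgroup.mem_bot] at hw
  rw [hw, mul_one] at hn'
  set s := s₀ * e ^ ((p - 1) * n) with hsdef
  have hs : s ∈ S := mul_mem hs₀ (pow_mem (h.le he) _)
  have hsN : s ∉ N := fun e' => hs₀N (by
    have := mul_mem e' (inv_mem (pow_mem heN ((p - 1) * n)))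
    rwa [hsdef, mul_inv_cancel_right] at this)
  have hls : Commute l s := by
    rw [← commutatorElement_eq_one_iff_commute, hsdef, comm_mul_right,
      comm_pow_right (h.central _ hle e he).symm, ((hZS' _ hle _ hs₀).pow_left _).symm.eq,
      mul_inv_cancel_right, hn', ← pow_add, show n + (p - 1) * n = p * n by
        rw [Nat.sub_mul, one_mul, Nat.add_sub_cancel' (Nat.le_mul_of_pos_left n hp.out.pos)],
      pow_mul, Subgroup.mem_bot.1 (h.sZ.pow_mem hle), one_pow]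
  have hLs : ∀ x ∈ L, Commute x s := fun x hx =>
    sL.commute_all (fun z hz => hZS' z hz s hs) hl hlZ hls hx
  -- `C_S(M) = M`
  have hCM : ∀ g ∈ S, (∀ x ∈ M, Commute x g) → g ∈ M := by
    intro g hg hgc
    by_contra hgM
    have hle' : M ⊔ Subgroup.zpowers g ≤ S := sup_le hMS (Subgroup.zpowers_le.2 hg)
    have hab := commute_sup_zpowers hMab hgc
    have hlt : M ⊔ Subgroup.zpowers g < S := lt_of_le_of_ne hle' fun he' => by
      obtain ⟨x, hx, y, hy, hne⟩ := h.nonab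
      exact hne (hab x (he' ▸ h.le hx) y (he' ▸ h.le hy))
    exact c.noAb _ hle' (card_eq_pow_four hS c.card (lt_of_le_of_ne le_sup_left fun he' =>
      hgM (he' ▸ Subgroup.mem_sup_right (Subgroup.mem_zpowers g))) hlt hMc) hab
  -- `P = C_S(L)`
  set P := centralizerIn S L with hPdef
  have hPS : P ≤ S := inf_le_left
  haveI : Finite P := finite_sub hPS
  have hMP : M ≤ P := fun x hx => ⟨hMS hx, hx.2⟩
  have hsP : s ∈ P := ⟨hs, Subgroup.mem_centralizer_iff.2 hLs⟩
  have hPN : ∀ x ∈ P, x ∈ N → x ∈ M := fun x hx hxN => ⟨hxN, hx.2⟩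
  have hPeq : P ≤ M ⊔ Subgroup.zpowers s := by
    intro g hg
    obtain ⟨i, y, hy, rfl⟩ := sNS.exists_eq hs hsN hg.1
    have hyP : y ∈ P := by
      have := mul_mem (inv_mem (pow_mem hsP i)) hg
      rwa [inv_mul_cancel_left] at this
    exact mul_mem (Subgroup.mem_sup_right (pow_mem (Subgroup.mem_zpowers s) i))
      (Subgroup.mem_sup_left (hPN y hyP hy))
  have sMP : Step p M P := by
    obtain ⟨hfin, hle'⟩ := card_sup_zpowers_le hp.out.pos (hnM hs) (hPN _ (pow_mem hsP p) (sNS.pow_mem hs))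
    haveI := hfin
    exact step_of_lt (lt_of_le_of_ne hMP fun e' => hsN (hMN (e' ▸ hsP))) (hPS.trans hnM)
      ((Subgroup.card_le_of_le hPeq).trans hle') (isPGroup_of_le hS hPS)
  have hLP : ∀ x ∈ L, ∀ g ∈ P, Commute x g := fun x hx g hg => centralizerIn_commute hg hx
  have hSL : ∀ g ∈ S, ∀ x ∈ L, ⁅x, g⁆ ∈ Z := fun g hg x hx => step_comm hS sL hg (hnL hg) (hnZ hg) hx
  have hSM : ∀ g ∈ S, ∀ x ∈ M, ⁅x, g⁆ ∈ L := fun g hg x hx => step_comm hS sLM hg (hnM hg) (hnL hg) hx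
  -- `⁅m, s⁆` generates `Z`
  set μ₀ := ⁅e, s⁆ with hμ₀def
  have hμ₀ : μ₀ ∈ M := step_comm hS sMN hs (hNn hs) (hnM hs) heN
  set w₁ := ⁅m, s⁆ with hw₁def
  have hw₁L : w₁ ∈ L := hSM s hs m hm
  have hw₁ : w₁ ∈ Z := by
    refine h.center_mem hS (hLR hw₁L) fun y hy => ?_
    refine (sR.commute_all (fun x hx => hLab x hx w₁ hw₁L) he heL ?_ hy).symm
    set l' := m⁻¹ * (e * m * e⁻¹) with hl'
    have hl'L : l' ∈ L := by
      rw [hl', show m⁻¹ * (e * m * e⁻¹) = m⁻¹ * ⁅e, m⁆ * m by rw [commutatorElement_def]; group,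
        mul_assoc, (hMab _ (hLM hem) _ hm).eq, inv_mul_cancel_left]
      exact hem
    have e1 : e * w₁ * e⁻¹ = w₁ := by
      calc e * w₁ * e⁻¹ = ⁅m * l', μ₀ * s⁆ := by
            rw [hw₁def, hl', hμ₀def]; simp only [commutatorElement_def]; group
        _ = w₁ := by
          rw [comm_mul_left, commutatorElement_eq_one_iff_commute.2
            ((hMab _ (hLM hl'L) _ hμ₀).mul_right (hLs l' hl'L)), mul_one, mul_inv_cancel, one_mul,
            comm_mul_right, commutatorElement_eq_one_iff_commute.2 (hMab m hm μ₀ hμ₀), one_mul,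
            (hMab _ hμ₀ _ (hLM hw₁L)).eq, mul_inv_cancel_right]
    exact mul_inv_eq_iff_eq_mul.1 e1
  have hw₁1 : w₁ ∉ (⊥ : Subgroup Ω) := fun e' => hsN (hMN (hCM s hs fun x hx =>
    sLM.commute_all hLs hm hmL (commute_of_comm e') hx))
  have hMPZ : ∀ x ∈ M, ∀ g ∈ P, ⁅x, g⁆ ∈ Z := by
    intro x hx g hg
    refine sLM.comm_mem_all (hMS.trans hnZ) (hnZ (hPS hg)) (fun y hy => hSL g (hPS hg) y hy) hm hmL ?_ hx
    refine comm_mem_symm (sMP.comm_mem_all (hPS.trans hnZ) (hnZ (hMS hm))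
      (fun y hy => ?_) hsP (fun e' => hsN (hMN e')) (comm_mem_symm hw₁) hg)
    rw [commutatorElement_eq_one_iff_commute.2 (hMab y hy m hm)]
    exact one_mem _
  -- the scalars on the upper layers
  obtain ⟨σ, -, hσ⟩ := exists_sc sNS ht₂A le_rfl ht₂A.mem hN₂.mem
  have hL₂ : ∀ x ∈ L, t₂ x ∈ L := hLinv hN₂
  have hP₂ : ∀ x ∈ P, t₂ x ∈ P := fun x hx => centralizerIn_invariant ht₂A hLS hL₂ hx
  have hσP : Sc t₂ P M σ := fun x hx =>
    hPN _ (mul_mem (inv_mem (pow_mem hx _)) (hP₂ x hx)) (hσ x (hPS hx))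
  have haN : Sc t₂ N M a := by
    refine Sc.of_mem sMN hN₂ le_rfl (hMinv hN₂) heN heM ?_
    rw [het e he]
    exact hLM (hta e he)
  have htb₂ : Sc t₂ L Z b := htb.congr fun x hx => het x (hLR hx)
  obtain ⟨μ, hμ0, hμ⟩ := exists_sc sLM hN₂ hMN (hMinv hN₂) hL₂
  have hbμ : b = a * μ := by
    refine Sc.eq_mul_of_comm hN₂ sMN sLM sL le_rfl hMN hZn ?_ ?_ (fun x hx y hy => hNN x hx y (hMN hy))
      ?_ ?_ haN hμ htb₂ heN hm hemZ
    · exact fun x hx y hy => by rw [commutatorElement_eq_one_iff_commute.2 (hMab x hx y hy)]; exact one_mem _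
    · exact fun x hx y hy => hcomL x hx y hy
    · exact fun z hz x hx => comm_mem_symm (hcomL x hx z hz)
    · exact fun z hz x hx => comm_mem_symm (hcomL x (hMN hx) z hz)
  have hν₂ : Sc t₂ Z ⊥ ν := hν.congr fun x hx => het x (h.zR hx)
  have hνμσ : ν = μ * σ := by
    refine Sc.eq_mul_of_comm ht₂A sLM sMP h.sZ hMS hPS (le_normalizer_bot S) ?_ ?_ hMPZ ?_ ?_ hμ hσP hν₂
      hm hsP hw₁1
    · exact fun x hx g hg => comm_eq_one (hLP x hx g hg)
    · exact fun x hx y hy => comm_eq_one (hMab x hx y hy)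
    · exact fun z hz x hx => comm_eq_one (hZS' z hz x (hMS hx))
    · exact fun z hz x hx => comm_eq_one (hZS' z hz x (hPS hx))
  have hesL : μ₀ ∉ L := by
    intro e'
    refine hsN ⟨hs, (le_normalizer_of_comm (K := Subgroup.zpowers s) (C := R) fun g hg x hx => ?_)
      (Subgroup.mem_zpowers s)⟩
    have hgs : g ∈ S := (Subgroup.zpowers_le.2 hs) hg
    refine hLR ?_
    obtain ⟨k, rfl⟩ := Subgroup.mem_zpowers_iff.1 hg
    refine comm_mem_symm (sR.comm_mem_all (h.le.trans hnL) (hnL hgs) (fun y hy => sL.le (hSL _ hgs y hy)) he heL ?_ hx)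
    rw [comm_mem_iff (hnL (h.le he)) (hnL hgs)]
    have h1 : Commute (cls L e) (cls L s) := (comm_mem_iff (hnL (h.le he)) (hnL hs)).1 e'
    have h2 : cls L (s ^ k) = cls L s ^ k := by
      rw [cls_eq (hnL hgs), cls_eq (hnL hs), ← map_zpow]; rfl
    rw [h2]
    exact h1.zpow_right k
  have hμσ : μ = a * σ := by
    refine Sc.eq_mul_of_comm ht₂A sMN sMP sLM hNS hPS hnL ?_ ?_
      (fun x hx g hg => step_comm hS sMN (hPS hg) (hNn (hPS hg)) (hnM (hPS hg)) hx) ?_ ?_ haN hσP hμ heN hsP hesL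
    · exact fun x hx g hg => sL.le (hMPZ x hx g hg)
    · exact fun x hx y hy => hNN x hx y (hMN hy)
    · exact fun z hz x hx => hNN z (hMN hz) x hx
    · exact fun z hz x hx => sL.le (hMPZ z hz x hx)
  have hσa : σ = a ^ 2 := by
    refine mul_left_cancel₀ hμ0 ?_
    calc μ * σ = a * b := hνμσ.symm.trans hνab
      _ = μ * a ^ 2 := by rw [hbμ]; ring
  refine ⟨by rw [hbμ, hμσ, hσa]; ring, fun hp3 => ⟨N, s, sNS, hs, hsN, fun u hu => ?_⟩⟩
  -- every automorphism of `S`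
  have hPn : S ≤ Subgroup.normalizer (P : Set Ω) := le_normalizer_of fun g hg x hx =>
    centralizerIn_invariant (isAut_cj (Subgroup.le_normalizer hg)) hLS (fun y hy => conj_mem_of_le hnL hg hy) hx
  have sPS : Step p P S := by
    refine ⟨hPS, hPn, ?_, inferInstance⟩
    rw [c.card, sMP.card, hMc]; ring
  have hMeq : comSub S S = M := by
    refine le_antisymm (comSub_le fun x hx y hy => hPN _ (sPS.comm_mem hx hy) (sNS.comm_mem hx hy))
      (sLM.le_of_mem ?_ hμ₀ hesL (mem_comSub (h.le he) hs))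
    refine sL.le_of_mem ?_ hem hemZ (mem_comSub (h.le he) (hMS hm))
    exact h.sZ.le_of_mem bot_le hc0 hc01 (mem_comSub (h.le he) (h.le hlR))
  have hMu : ∀ x ∈ M, u x ∈ M := fun x hx => by
    rw [← hMeq] at hx ⊢
    exact hu.comSub_mem le_rfl le_rfl hu.mem hu.mem hx
  have hLeq' : comSub M S = L := by
    refine le_antisymm (comSub_le fun x hx g hg => hSM g hg x hx)
      (sL.le_of_mem ?_ (comm_mem_symm hem : ⁅m, e⁆ ∈ L) (fun e' => hemZ (comm_mem_symm e'))
        (mem_comSub hm (h.le he)))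
    exact h.sZ.le_of_mem bot_le hw₁ hw₁1 (mem_comSub hm hs)
  have hLu : ∀ x ∈ L, u x ∈ L := fun x hx => by
    rw [← hLeq'] at hx ⊢
    exact hu.comSub_mem hMS le_rfl hMu hu.mem hx
  have hZu : ∀ x ∈ Z, u x ∈ Z := fun x hx => by
    refine h.center_mem hS (hLR (hLu x (sL.le hx))) fun y hy => ?_
    obtain ⟨y', hy', rfl⟩ := hu.exists_preimage le_rfl hu.mem (h.le hy)
    rw [commute_iff_eq, ← hu.mul _ (hZS hx) _ hy', ← hu.mul _ hy' _ (hZS hx), (hZS' x hx y' hy').eq]
  have hPu : ∀ x ∈ P, u x ∈ P := fun x hx => centralizerIn_invariant hu hLS hLu hx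
  obtain ⟨δ, hδ0, hδ⟩ := exists_sc sPS hu le_rfl hu.mem hPu
  obtain ⟨σ', hσ'0, hσ'⟩ := exists_sc sMP hu hPS hPu hMu
  obtain ⟨μ', -, hμ'⟩ := exists_sc sLM hu hMS hMu hLu
  obtain ⟨b', -, hb'⟩ := exists_sc sL hu hLS hLu hZu
  obtain ⟨ν', -, hν'⟩ := exists_sc h.sZ hu hZS hZu (bot_invariant hu)
  have hPP : ∀ x ∈ P, ∀ y ∈ P, ⁅x, y⁆ ∈ Z := by
    intro x hx y hy
    refine sMP.comm_mem_all (hPS.trans hnZ) (hnZ (hPS hy)) (fun z hz => hMPZ z hz y hy) hsP
      (fun e' => hsN (hMN e')) ?_ hx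
    refine comm_mem_symm (sMP.comm_mem_all (hPS.trans hnZ) (hnZ hs) (fun z hz => hMPZ z hz s hsP) hsP
      (fun e' => hsN (hMN e')) ?_ hy)
    rw [commutatorElement_self]; exact one_mem _
  have heP : e ∈ S := h.le he
  have r1 : μ' = δ * σ' := by
    refine Sc.eq_mul_of_comm hu sPS sMP sLM le_rfl hPS hnL ?_ ?_ ?_ ?_ ?_ hδ hσ' hμ' heP hsP hesL
    · exact fun x hx y hy => sL.le (hPP x hx y hy)
    · exact fun x hx y hy => comm_mem_symm (hSM x hx y hy)
    · exact fun x hx y hy => hMeq ▸ mem_comSub hx (hPS hy)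
    · exact fun z hz x hx => hSM x hx z hz
    · exact fun z hz x hx => hSM x (hPS hx) z hz
  have r2 : b' = δ * μ' := by
    refine Sc.eq_mul_of_comm hu sPS sLM sL le_rfl hMS hnZ ?_ ?_ ?_ ?_ ?_ hδ hμ' hb' heP hm hemZ
    · exact fun x hx y hy => comm_mem_symm (hMPZ y hy x hx)
    · exact fun x hx y hy => comm_mem_symm (hSL x hx y hy)
    · exact fun x hx y hy => comm_mem_symm (hSM x hx y hy)
    · exact fun z hz x hx => hSL x hx z hz
    · exact fun z hz x hx => hSL x (hMS hx) z hz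
  have r3 : ν' = δ * b' := by
    refine Sc.eq_mul_of_comm hu sPS sL h.sZ le_rfl hLS (le_normalizer_bot S) ?_ ?_ ?_ ?_ ?_ hδ hb' hν' heP hl hc01
    · exact fun x hx y hy => comm_eq_one (hLP y hy x hx).symm
    · exact fun x hx y hy => comm_eq_one (hZS' y hy x hx).symm
    · exact fun x hx y hy => comm_mem_symm (hSL x hx y hy)
    · exact fun z hz x hx => comm_eq_one (hZS' z hz x hx)
    · exact fun z hz x hx => comm_eq_one (hZS' z hz x (hLS hx))
  have r4 : ν' = μ' * σ' := by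
    refine Sc.eq_mul_of_comm hu sLM sMP h.sZ hMS hPS (le_normalizer_bot S) ?_ ?_ hMPZ ?_ ?_ hμ' hσ' hν'
      hm hsP hw₁1
    · exact fun x hx g hg => comm_eq_one (hLP x hx g hg)
    · exact fun x hx y hy => comm_eq_one (hMab x hx y hy)
    · exact fun z hz x hx => comm_eq_one (hZS' z hz x (hMS hx))
    · exact fun z hz x hx => comm_eq_one (hZS' z hz x (hPS hx))
  have hσ1 : σ' = 1 := by
    have h1 : δ * σ' * σ' = δ * σ' * δ ^ 2 := by rw [← r1, ← r4, r3, r2, r1]; ring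
    rw [mul_left_cancel₀ (mul_ne_zero hδ0 hσ'0) h1, show 2 = p - 1 by omega]
    exact ZMod.pow_card_sub_one_eq_one hδ0
  subst hσ1
  exact hMN (hσ'.trivial_of_one hsP)

end Cfsg.Agent.Lib.FS.OrderFive
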