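import Cfsg.Agent.Lib.FusionSystem.OrderFive.Setting

/-!
# A centric nonabelian subgroup of order `p ^ 3`: its normaliser
-/

set_option autoImplicit false
set_option linter.style.haveILetI false
set_option linter.unusedSectionVars false

namespace Cfsg.Agent.Lib.FS.OrderFive

open Cfsg Cfsg.FusionSystem Cfsg.Agent.Lib Cfsg.Agent.Lib.FS
open scoped commutatorElement

variable {Ω : Type*} [Group Ω] {S : Subgroup Ω} {p : ℕ} {F : FusionSystem S}

theorem centralizerIn_invariant {K X : Subgroup Ω} [Finite X] {t : Ω → Ω} (ht : IsAut K t) (hX : X ≤ K)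
    (hXi : ∀ x ∈ X, t x ∈ X) {g : Ω} (hg : g ∈ centralizerIn K X) : t g ∈ centralizerIn K X := by
  refine ⟨ht.mem g hg.1, Subgroup.mem_centralizer_iff.2 fun w hw => ?_⟩
  obtain ⟨w', hw', rfl⟩ := ht.exists_preimage hX hXi hw
  rw [← ht.mul _ (hX hw') _ hg.1, ← ht.mul _ hg.1 _ (hX hw'), Subgroup.mem_centralizer_iff.1 hg.2 w' hw']

theorem centralizerIn_commute {K X : Subgroup Ω} {g x : Ω} (hg : g ∈ centralizerIn K X) (hx : x ∈ X) :
    Commute x g :=
  Subgroup.mem_centralizer_iff.1 hg.2 x hx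

theorem comm_eq_one {x y : Ω} (h : Commute x y) : ⁅x, y⁆ ∈ (⊥ : Subgroup Ω) :=
  Subgroup.mem_bot.2 (commutatorElement_eq_one_iff_commute.2 h)

theorem commute_of_comm {x y : Ω} (h : ⁅x, y⁆ ∈ (⊥ : Subgroup Ω)) : Commute x y :=
  commutatorElement_eq_one_iff_commute.1 (Subgroup.mem_bot.1 h)

theorem bot_invariant {K : Subgroup Ω} {t : Ω → Ω} (ht : IsAut K t) :
    ∀ x ∈ (⊥ : Subgroup Ω), t x ∈ (⊥ : Subgroup Ω) := fun x hx => by
  rw [Subgroup.mem_bot] at hx ⊢
  rw [hx, ht.one]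

/-- A nonabelian subgroup of order `p ^ 3` with its centre. -/
structure Cube (p : ℕ) (S R Z : Subgroup Ω) : Prop where
  le : R ≤ S
  card : Nat.card R = p ^ 3
  sZ : Step p ⊥ Z
  zR : Z ≤ R
  central : ∀ z ∈ Z, ∀ x ∈ R, Commute z x
  nonab : ∃ x ∈ R, ∃ y ∈ R, ¬ Commute x y

/-- A nonabelian subgroup of order `p ^ 3` has a centre of order `p`. -/
theorem exists_cube [hp : Fact p.Prime] [Finite S] (hS : IsPGroup p S) {R : Subgroup Ω} (hR : R ≤ S)
    (hc : Nat.card R = p ^ 3) (hne : ∃ x ∈ R, ∃ y ∈ R, ¬ Commute x y) : ∃ Z, Cube p S R Z := by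
  haveI := finite_sub hR
  have hlt : (⊥ : Subgroup Ω) < centralizerIn R R := by
    refine bot_lt_iff_ne_bot.2 fun e => ?_
    haveI : Nontrivial R :=
      Finite.one_lt_card_iff_nontrivial.1 (by rw [hc]; exact Nat.one_lt_pow three_ne_zero hp.out.one_lt)
    obtain ⟨⟨z, hz⟩, hz1⟩ := @exists_ne _ (isPGroup_of_le hS hR).center_nontrivial 1
    refine hz1 (Subtype.ext (Subtype.ext (Subgroup.mem_bot.1 (show (z : Ω) ∈ (⊥ : Subgroup Ω) from ?_))))
    rw [← e]
    exact ⟨z.2, Subgroup.mem_centralizer_iff.2 fun w hw =>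
      congrArg Subtype.val (Subgroup.mem_center_iff.1 hz ⟨w, hw⟩)⟩
  obtain ⟨Z, hs, hZ, -⟩ := exists_step_between (p := p) (isPGroup_of_le hS hR) inf_le_left hlt (le_normalizer_bot R)
    (le_normalizer_of fun g hg x hx => by
      rw [(centralizerIn_commute hx hg).eq, mul_inv_cancel_right]
      exact hx)
  exact ⟨Z, hR, hc, hs, hZ.trans inf_le_left, fun z hz x hx => (centralizerIn_commute (hZ hz) hx).symm, hne⟩

namespace Cube

variable [hp : Fact p.Prime] [Finite S] {R Z : Subgroup Ω} (h : Cube p S R Z)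

include h

theorem card_Z : Nat.card Z = p := by rw [h.sZ.card, Subgroup.card_bot, mul_one]

theorem center_mem (hS : IsPGroup p S) {x : Ω} (hx : x ∈ R) (hc : ∀ y ∈ R, Commute x y) : x ∈ Z := by
  by_contra hxZ
  haveI := finite_sub h.le
  set U := Z ⊔ Subgroup.zpowers x with hU
  have hUR : U ≤ R := sup_le h.zR (Subgroup.zpowers_le.2 hx)
  have hUc : ∀ u ∈ U, ∀ r ∈ R, Commute u r := by
    intro u hu r hr
    have : U ≤ Subgroup.centralizer {r} := sup_le (fun z hz => Subgroup.mem_centralizer_singleton_iff.2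
      (h.central z hz r hr).eq) (Subgroup.zpowers_le.2 (Subgroup.mem_centralizer_singleton_iff.2 (hc r hr).eq))
    exact Subgroup.mem_centralizer_singleton_iff.1 (this hu)
  have hN : R ≤ Subgroup.normalizer (U : Set Ω) := le_normalizer_of fun g hg w hw => by
    rw [← (hUc w hw g hg).eq, mul_inv_cancel_right]
    exact hw
  haveI : Finite U := finite_sub (hUR.trans h.le)
  have hlt : Z < U := lt_of_le_of_ne le_sup_left fun e =>
    hxZ (e ▸ Subgroup.mem_sup_right (Subgroup.mem_zpowers x))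
  have hU2 : p ^ 2 ≤ Nat.card U := by
    obtain ⟨k, hk⟩ := IsPGroup.iff_card.1 (isPGroup_of_le hS (hUR.trans h.le))
    have h1 : Nat.card Z < Nat.card U := lt_of_le_of_ne (Subgroup.card_le_of_le hlt.le)
      fun e => hlt.ne (Subgroup.eq_of_le_of_card_ge hlt.le e.ge)
    rw [h.card_Z, hk] at h1
    rw [hk]
    refine Nat.pow_le_pow_right hp.out.pos ?_
    by_contra hk2
    have : k = 0 ∨ k = 1 := by omega
    rcases this with rfl | rfl
    · rw [pow_zero] at h1; exact absurd h1 (by have := hp.out.one_lt; omega)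
    · rw [pow_one] at h1; exact lt_irrefl _ h1
  obtain ⟨x', hx', y', hy', hne⟩ := h.nonab
  rcases eq_or_lt_of_le hUR with e | hlt'
  · exact hne (hUc x' (e ▸ hx') y' hy')
  · have hs : Step p U R := step_of_lt hlt' hN (by
      rw [h.card, pow_succ']; exact Nat.mul_le_mul_left _ hU2) (isPGroup_of_le hS h.le)
    exact hne (hs.commute_of_central hUc hx' hy')

theorem Z_invariant (hS : IsPGroup p S) {t : Ω → Ω} (ht : IsAut R t) {z : Ω} (hz : z ∈ Z) : t z ∈ Z := by
  haveI := finite_sub h.le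
  refine h.center_mem hS (ht.mem z (h.zR hz)) fun y hy => ?_
  obtain ⟨y', hy', rfl⟩ := ht.exists_preimage le_rfl ht.mem hy
  rw [commute_iff_eq, ← ht.mul _ (h.zR hz) _ hy', ← ht.mul _ hy' _ (h.zR hz), (h.central z hz y' hy').eq]

theorem normalizer_le_Z (hS : IsPGroup p S) : normalizerIn S R ≤ Subgroup.normalizer (Z : Set Ω) :=
  le_normalizer_of fun _ hg _ hz => h.Z_invariant hS (isAut_cj hg.2) hz

theorem comm_Z (hS : IsPGroup p S) {z g : Ω} (hz : z ∈ Z) (hg : g ∈ normalizerIn S R) : Commute z g :=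
  commute_of_comm (step_comm hS h.sZ hg.1 (h.normalizer_le_Z hS hg) (le_normalizer_bot S hg.1) hz)

section line

variable {L : Subgroup Ω} (sL : Step p Z L) (sR : Step p L R)

include sL sR

theorem L_comm : ∀ a ∈ L, ∀ b ∈ L, Commute a b := fun _ ha _ hb =>
  sL.commute_of_central (fun z hz a ha => h.central z hz a (sR.le ha)) ha hb

theorem not_commute {e l : Ω} (he : e ∈ R) (heL : e ∉ L) (hl : l ∈ L) (hlZ : l ∉ Z) : ¬ Commute e l := by
  intro hel
  have hLe : ∀ w ∈ L, Commute w e := fun w hw =>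
    sL.commute_all (fun z hz => h.central z hz e he) hl hlZ hel.symm hw
  have hLc : ∀ w ∈ L, ∀ x ∈ R, Commute w x := fun w hw x hx =>
    (sR.commute_all (fun b hb => h.L_comm sL sR b hb w hw) he heL (hLe w hw).symm hx).symm
  obtain ⟨x, hx, y, hy, hne⟩ := h.nonab
  exact hne (sR.commute_of_central hLc hx hy)

theorem comm_mem_Z (hS : IsPGroup p S) {x l : Ω} (hx : x ∈ R) (hl : l ∈ L) : ⁅l, x⁆ ∈ Z :=
  step_comm hS sL (h.le hx) (sR.norm hx) (h.normalizer_le_Z hS (le_normalizerIn h.le hx)) hl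

/-- Elements acting trivially on `R / Z` are inner. -/
theorem exists_inner (hS : IsPGroup p S) {g : Ω} (hg : g ∈ normalizerIn S R) (htr : ∀ x ∈ R, ⁅g, x⁆ ∈ Z) :
    ∃ w ∈ R, ∀ x ∈ R, Commute x (w⁻¹ * g) := by
  obtain ⟨e, he, heL⟩ := sR.exists_not_mem
  obtain ⟨l, hl, hlZ⟩ := sL.exists_not_mem
  have hlR := sR.le hl
  set c := ⁅e, l⁆ with hcdef
  have hc : c ∈ Z := comm_mem_symm (h.comm_mem_Z sL sR hS he hl)
  have hc1 : c ∉ (⊥ : Subgroup Ω) := fun e' => h.not_commute sL sR he heL hl hlZ (commute_of_comm e')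
  obtain ⟨i, b, hb, hi⟩ := h.sZ.exists_eq hc hc1 (htr e he)
  obtain ⟨j, b', hb', hj⟩ := h.sZ.exists_eq hc hc1 (htr l hlR)
  rw [Subgroup.mem_bot] at hb hb'
  rw [hb, mul_one] at hi
  rw [hb', mul_one] at hj
  have hcp : c ^ p = 1 := Subgroup.mem_bot.1 (h.sZ.pow_mem hc)
  set w := e ^ j * l ^ ((p - 1) * i) with hwdef
  have hw : w ∈ R := mul_mem (pow_mem he _) (pow_mem hlR _)
  have hle' : Commute l ⁅l, e⁆ := (h.central _ (h.comm_mem_Z sL sR hS he hl) l hlR).symm
  have hwe : ⁅w, e⁆ = ⁅g, e⁆ := by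
    have h1 : ⁅l, e⁆ = c⁻¹ := (commutatorElement_inv e l).symm
    rw [hwdef, comm_mul_left, commutatorElement_eq_one_iff_commute.2 ((Commute.refl e).pow_left j), mul_one,
      PGroups.commutatorElement_pow_left_of_central l e hle', h1, hi, inv_pow,
      ((h.central c hc (e ^ j) (pow_mem he j)).pow_left _).inv_left.symm.eq, mul_inv_cancel_right,
      inv_eq_iff_mul_eq_one, ← pow_add, show (p - 1) * i + i = p * i by
        rw [Nat.sub_mul, one_mul, Nat.sub_add_cancel (Nat.le_mul_of_pos_left i hp.out.pos)],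
      pow_mul, hcp, one_pow]
  have hwl : ⁅w, l⁆ = ⁅g, l⁆ := by
    rw [hwdef, comm_mul_left, commutatorElement_eq_one_iff_commute.2 ((Commute.refl l).pow_left _), mul_one,
      mul_inv_cancel, one_mul, PGroups.commutatorElement_pow_left_of_central e l
        (h.central c hc e he).symm, hj]
  have hcomm : ∀ x, ⁅w, x⁆ = ⁅g, x⁆ → Commute x (w⁻¹ * g) := fun x hx => by
    have h1 : w * x * w⁻¹ = g * x * g⁻¹ := by
      simp only [commutatorElement_def] at hx
      exact mul_right_cancel hx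
    show x * (w⁻¹ * g) = w⁻¹ * g * x
    calc x * (w⁻¹ * g) = w⁻¹ * (w * x * w⁻¹) * g := by group
      _ = w⁻¹ * g * x := by rw [h1]; group
  have hwg : w⁻¹ * g ∈ normalizerIn S R := mul_mem (inv_mem (le_normalizerIn h.le hw)) hg
  have hZc : ∀ z ∈ Z, Commute z (w⁻¹ * g) := fun z hz => h.comm_Z hS hz hwg
  have hLc : ∀ a ∈ L, Commute a (w⁻¹ * g) := fun a ha => sL.commute_all hZc hl hlZ (hcomm l hwl) ha
  exact ⟨w, hw, fun x hx => sR.commute_all hLc he heL (hcomm e hwe) hx⟩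

theorem mem_of_trivial (hS : IsPGroup p S) (hC : centralizerIn S R ≤ R) {g : Ω} (hg : g ∈ normalizerIn S R)
    (htr : ∀ x ∈ R, ⁅g, x⁆ ∈ Z) : g ∈ R := by
  obtain ⟨w, hw, hwc⟩ := h.exists_inner sL sR hS hg htr
  have := mul_mem hw (hC ⟨S.mul_mem (S.inv_mem (h.le hw)) hg.1, Subgroup.mem_centralizer_iff.2 fun x hx => hwc x hx⟩)
  rwa [mul_inv_cancel_left] at this

end line

theorem ne_base (hcard : Nat.card S = p ^ 5) : R < S := lt_of_le_of_ne h.le fun e => by
  have := h.card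
  rw [e, hcard] at this
  exact absurd (Nat.pow_right_injective hp.out.two_le this) (by norm_num)

theorem exists_line (hS : IsPGroup p S) :
    ∃ L, Step p Z L ∧ Step p L R ∧ normalizerIn S R ≤ Subgroup.normalizer (L : Set Ω) := by
  haveI := finite_sub h.le
  haveI : Finite (normalizerIn S R) := finite_sub (normalizerIn_le R)
  have hlt : Z < R := lt_of_le_of_ne h.zR fun e => by
    have := h.card
    rw [← e, h.card_Z] at this
    nth_rewrite 1 [← pow_one p] at this
    exact absurd (Nat.pow_right_injective hp.out.two_le this) (by norm_num)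
  obtain ⟨L, hs, hLR, hn⟩ := exists_step_between (p := p) (isPGroup_of_le hS (normalizerIn_le R))
    (le_normalizerIn h.le) hlt (h.normalizer_le_Z hS) inf_le_right
  refine ⟨L, hs, step_of_lt (lt_of_le_of_ne hLR fun e => ?_) ((le_normalizerIn h.le).trans hn) ?_
    (isPGroup_of_le hS h.le), hn⟩
  · have := hs.card
    rw [e, h.card, h.card_Z, ← sq] at this
    exact absurd (Nat.pow_right_injective hp.out.two_le this) (by norm_num)
  · rw [h.card, hs.card, h.card_Z]; exact (by ring : p ^ 3 = p * (p * p)).le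

/-- The normaliser of a self-centralising such subgroup has order `p ^ 4`. -/
theorem step_normalizer (hS : IsPGroup p S) (hcard : Nat.card S = p ^ 5) (hC : centralizerIn S R ≤ R) :
    Step p R (normalizerIn S R) := by
  obtain ⟨L, sL, sR, hn⟩ := h.exists_line hS
  obtain ⟨e, he, heL⟩ := sR.exists_not_mem
  haveI := finite_sub h.le
  haveI : Finite (normalizerIn S R) := finite_sub (normalizerIn_le R)
  set N := normalizerIn S R with hNdef
  have hRN : R < N := FusionP3.Induction.lt_normalizerIn hS (h.ne_base hcard)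
  have heN := le_normalizerIn h.le he
  have hZn := h.normalizer_le_Z hS
  have hcommL : ∀ g ∈ N, ⁅g, e⁆ ∈ L := fun g hg =>
    comm_mem_symm (step_comm hS sR hg.1 hg.2 (hn hg) he)
  have hLZ : ∀ g ∈ N, ∀ a ∈ L, ⁅g, a⁆ ∈ Z := fun g hg a ha =>
    comm_mem_symm (step_comm hS sL hg.1 (hn hg) (hZn hg) ha)
  have hmem : ∀ g ∈ N, ⁅g, e⁆ ∈ Z → g ∈ R := fun g hg hge => h.mem_of_trivial sL sR hS hC hg fun x hx =>
    comm_mem_symm (sR.comm_mem_all ((le_normalizerIn h.le).trans hZn) (hZn hg)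
      (fun a ha => comm_mem_symm (hLZ g hg a ha)) he heL (comm_mem_symm hge) hx)
  obtain ⟨m, hm, hmR⟩ := SetLike.exists_of_lt hRN
  have hme : ⁅m, e⁆ ∉ Z := fun e' => hmR (hmem m hm e')
  -- the class of `⁅g, e⁆` is multiplicative
  have hmul : ∀ a ∈ N, ∀ b ∈ N, cls Z ⁅a * b, e⁆ = cls Z ⁅b, e⁆ * cls Z ⁅a, e⁆ := fun a ha b hb => by
    have h1 : a * ⁅b, e⁆ * a⁻¹ = ⁅a, ⁅b, e⁆⁆ * ⁅b, e⁆ := by rw [commutatorElement_def a]; group
    rw [comm_mul_left, h1, cls_mul (Subgroup.mul_mem _ (hZn ?_) (hZn ?_)) (hZn ?_), cls_mul (hZn ?_) (hZn ?_),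
      cls_of_mem (hLZ a ha _ (hcommL b hb)), one_mul]
    all_goals first
      | exact le_normalizerIn h.le (sR.le (hcommL _ ‹_›))
      | exact le_normalizerIn h.le (h.zR (hLZ a ha _ (hcommL b hb)))
  have hpow : ∀ n : ℕ, cls Z ⁅m ^ n, e⁆ = cls Z ⁅m, e⁆ ^ n := by
    intro n
    induction n with
    | zero => rw [pow_zero, pow_zero, commutatorElement_one_left, cls_one]
    | succ n ih => rw [pow_succ, hmul _ (pow_mem hm n) _ hm, ih, ← pow_succ']
  have hmp : m ^ p ∈ R := hmem _ (pow_mem hm p) (by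
    rw [← cls_eq_one (hZn (le_normalizerIn h.le (sR.le (hcommL _ (pow_mem hm p))))), hpow]
    exact sL.cls_pow_p (hcommL m hm))
  have hgen : N ≤ R ⊔ Subgroup.zpowers m := by
    intro g hg
    obtain ⟨n, hn'⟩ := sL.exists_pow (hcommL m hm) hme (hcommL g hg)
    have hg' : (m ^ n)⁻¹ * g ∈ N := mul_mem (inv_mem (pow_mem hm n)) hg
    have h1 := hmul _ (pow_mem hm n) _ hg'
    rw [mul_inv_cancel_left, hn', hpow, right_eq_mul, cls_eq_one
      (hZn (le_normalizerIn h.le (sR.le (hcommL _ hg'))))] at h1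
    have := Subgroup.mul_mem_sup (hmem _ hg' h1) (Subgroup.pow_mem _ (Subgroup.mem_zpowers m) n)
    rw [show g = m ^ n * ((m ^ n)⁻¹ * g) by group]
    exact mul_mem (Subgroup.mem_sup_right (pow_mem (Subgroup.mem_zpowers m) n))
      (Subgroup.mem_sup_left (hmem _ hg' h1))
  obtain ⟨hfin, hle⟩ := card_sup_zpowers_le hp.out.pos hm.2 hmp
  haveI := hfin
  exact step_of_lt hRN inf_le_right ((Subgroup.card_le_of_le hgen).trans hle)
    (isPGroup_of_le hS (normalizerIn_le R))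

theorem card_normalizer (hS : IsPGroup p S) (hcard : Nat.card S = p ^ 5) (hC : centralizerIn S R ≤ R) :
    Nat.card (normalizerIn S R) = p ^ 4 := by
  rw [(h.step_normalizer hS hcard hC).card, h.card]; ring

theorem isFullyNormalized (hS : IsPGroup p S) (hcard : Nat.card S = p ^ 5) (hc : F.IsCentric R) :
    F.IsFullyNormalized R := by
  refine ⟨h.le, fun Q hQ => ?_⟩
  obtain ⟨φ, hφ, rfl⟩ := hQ
  have hQc : Nat.card φ.range = p ^ 3 := by rw [card_range hφ, h.card]
  obtain ⟨x, hx, y, hy, hne⟩ := h.nonab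
  obtain ⟨Z', hZ'⟩ := exists_cube hS (range_le_base hφ) hQc
    ⟨φ ⟨x, hx⟩, ⟨_, rfl⟩, φ ⟨y, hy⟩, ⟨_, rfl⟩, fun e => hne (by
      rw [commute_iff_eq, ← map_mul, ← map_mul] at e
      exact congrArg Subtype.val (F.injective_of_mem hφ e))⟩
  rw [hZ'.card_normalizer hS hcard (hc.2 _ ⟨φ, hφ, rfl⟩),
    h.card_normalizer hS hcard (hc.2 _ (isConj_refl F h.le))]

end Cube

end Cfsg.Agent.Lib.FS.OrderFive
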