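import Cfsg.Agent.Lib.FusionSystem.OrderFive.Setting

/-!
# A normal nonabelian subgroup of order `p ^ 4` with centre of order `p ^ 2`

If an automorphism of `S` has suitable scalars on the chain `N > A > Z > N₁ > 1`, then either `S` has an
abelian subgroup of index `p` or `p = 3` and some element is fixed by all automorphisms modulo a subgroup of
index `p`.
-/

set_option autoImplicit false
set_option linter.style.haveILetI false
set_option linter.unusedSectionVars false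

namespace Cfsg.Agent.Lib.FS.OrderFive

open Cfsg Cfsg.FusionSystem Cfsg.Agent.Lib Cfsg.Agent.Lib.FS
open scoped commutatorElement

variable {Ω : Type*} [Group Ω] {S : Subgroup Ω} {p : ℕ} {F : FusionSystem S}

/-- The chain `N > A > Z > N₁ > 1`. -/
structure Four (p : ℕ) (S N A Z N₁ : Subgroup Ω) : Prop where
  sN : Step p N S
  sA : Step p A N
  sZ : Step p Z A
  s1 : Step p N₁ Z
  s0 : Step p ⊥ N₁
  nA : S ≤ Subgroup.normalizer (A : Set Ω)
  nZ : S ≤ Subgroup.normalizer (Z : Set Ω)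
  n1 : S ≤ Subgroup.normalizer (N₁ : Set Ω)
  central : ∀ z ∈ Z, ∀ x ∈ N, Commute z x
  comm : ∀ x ∈ N, ∀ y ∈ N, ⁅x, y⁆ ∈ N₁
  nonab : ∃ x ∈ N, ∃ y ∈ N, ¬ Commute x y

namespace Four

variable [hp : Fact p.Prime] {N A Z N₁ : Subgroup Ω} (h : Four p S N A Z N₁)

include h

theorem hA : A ≤ S := h.sA.le.trans h.sN.le
theorem hZ : Z ≤ S := h.sZ.le.trans h.hA
theorem h1 : N₁ ≤ S := h.s1.le.trans h.hZ
theorem hZN : Z ≤ N := h.sZ.le.trans h.sA.le
theorem h1A : N₁ ≤ A := h.s1.le.trans h.sZ.le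

theorem A_comm : ∀ x ∈ A, ∀ y ∈ A, Commute x y := fun _ hx _ hy =>
  h.sZ.commute_of_central (fun z hz a ha => h.central z hz a (h.sA.le ha)) hx hy

theorem not_commute {d y : Ω} (hd : d ∈ N) (hdA : d ∉ A) (hy : y ∈ A) (hyZ : y ∉ Z) : ¬ Commute d y := by
  intro hc
  have hdA' : ∀ a ∈ A, Commute a d := fun a ha =>
    h.sZ.commute_all (fun z hz => h.central z hz d hd) hy hyZ hc.symm ha
  have hcen : ∀ a ∈ A, ∀ x ∈ N, Commute a x := fun a ha x hx =>
    (h.sA.commute_all (fun b hb => h.A_comm b hb a ha) hd hdA (hdA' a ha).symm hx).symm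
  obtain ⟨x, hx, x', hx', hne⟩ := h.nonab
  exact hne (h.sA.commute_of_central hcen hx hx')

theorem comm_one (hS : IsPGroup p S) {x g : Ω} (hx : x ∈ N₁) (hg : g ∈ S) : Commute x g :=
  commutatorElement_eq_one_iff_commute.1 (Subgroup.mem_bot.1
    (step_comm hS h.s0 hg (h.n1 hg) (le_normalizer_bot S hg) hx))

theorem comm_pow_p {x y : Ω} (hx : x ∈ N) (hy : y ∈ N) : ⁅x, y⁆ ^ p = 1 :=
  Subgroup.mem_bot.1 (h.s0.pow_mem (h.comm x hx y hy))

theorem center_mem {x : Ω} (hx : x ∈ N) (hc : ∀ y ∈ N, Commute x y) : x ∈ Z := by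
  obtain ⟨d, hd, hdA⟩ := h.sA.exists_not_mem
  obtain ⟨y, hy, hyZ⟩ := h.sZ.exists_not_mem
  have hyN := h.sA.le hy
  have hne : ⁅d, y⁆ ≠ 1 := fun e => h.not_commute hd hdA hy hyZ (commutatorElement_eq_one_iff_commute.1 e)
  have hcd : Commute d ⁅d, y⁆ := (h.central _ (h.s1.le (h.comm d hd y hyN)) d hd).symm
  have hcy : Commute y ⁅d, y⁆ := (h.central _ (h.s1.le (h.comm d hd y hyN)) y hyN).symm
  obtain ⟨k, a, ha, rfl⟩ := h.sA.exists_eq hd hdA hx
  have h1 : p ∣ k := by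
    refine dvd_of_pow_eq_one (h.comm_pow_p hd hyN) hne ?_
    rw [← PGroups.commutatorElement_pow_left_of_central d y hcd]
    have h2 := hc y hyN
    have e : Commute (d ^ k) y := by
      have := h2.mul_left ((h.A_comm a ha y hy).inv_left)
      rwa [mul_inv_cancel_right] at this
    exact commutatorElement_eq_one_iff_commute.2 e
  have hxA : d ^ k * a ∈ A := mul_mem (h.sA.pow_mem_of_dvd hd h1) ha
  obtain ⟨m, z, hz, e⟩ := h.sZ.exists_eq hy hyZ hxA
  rw [e] at hc ⊢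
  refine mul_mem (h.sZ.pow_mem_of_dvd hy (dvd_of_pow_eq_one (h.comm_pow_p hd hyN) hne ?_)) hz
  rw [← comm_pow_right hcy, commutatorElement_eq_one_iff_commute]
  have := (hc d hd).mul_left ((h.central z hz d hd).inv_left)
  rw [mul_inv_cancel_right] at this
  exact this.symm

theorem Z_invariant {t : Ω → Ω} [Finite S] (ht : IsAut N t) {z : Ω} (hz : z ∈ Z) : t z ∈ Z := by
  haveI := finite_sub (S := S) h.sN.le
  refine h.center_mem (ht.mem z (h.hZN hz)) fun y hy => ?_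
  obtain ⟨y', hy', rfl⟩ := ht.exists_preimage le_rfl ht.mem hy
  rw [commute_iff_eq, ← ht.mul _ (h.hZN hz) _ hy', ← ht.mul _ hy' _ (h.hZN hz), (h.central z hz y' hy').eq]

theorem comSub_eq : comSub N N = N₁ := by
  obtain ⟨d, hd, hdA⟩ := h.sA.exists_not_mem
  obtain ⟨y, hy, hyZ⟩ := h.sZ.exists_not_mem
  refine le_antisymm (comSub_le h.comm) (h.s0.le_of_mem bot_le (h.comm d hd y (h.sA.le hy)) ?_
    (mem_comSub hd (h.sA.le hy)))
  rw [Subgroup.mem_bot]
  exact fun e => h.not_commute hd hdA hy hyZ (commutatorElement_eq_one_iff_commute.1 e)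

theorem N₁_invariant {t : Ω → Ω} (ht : IsAut N t) {z : Ω} (hz : z ∈ N₁) : t z ∈ N₁ := by
  rw [← h.comSub_eq] at hz ⊢
  exact ht.comSub_mem le_rfl le_rfl ht.mem ht.mem hz

theorem ladder : Ladder p (normalizerIn S N) N (ch4 N A Z N₁) 4 :=
  ladder_four h.sA h.sZ h.s1 h.s0 inf_le_right (inf_le_left.trans h.nA) (inf_le_left.trans h.nZ)
    (inf_le_left.trans h.n1)

/-- An automorphism of `N` preserving `A` extends to `S`. -/
theorem extend [Finite S] (c : Ctx F p) {t : Ω → Ω} (ht : FAut F N t) (hA : ∀ x ∈ A, t x ∈ A) :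
    ∃ t', FAut F S t' ∧ ∀ x ∈ N, t' x = t x := by
  have := h.ladder.extend c.hS c.hF (fullyNormalized_of_le_normalizer h.sN.le h.sN.norm) ht
    (preserves_four ht.isAut hA (fun x hx => h.Z_invariant ht.isAut hx) fun x hx => h.N₁_invariant ht.isAut hx)
  rwa [normalizerIn_of_le_normalizer h.sN.norm] at this

/-- The scalar on `N₁` is the product of those on `N / A` and `A / Z`. -/
theorem sc_N₁ {t : Ω → Ω} (ht : IsAut N t) {δ η ν : ZMod p} (hδ : Sc t N A δ) (hη : Sc t A Z η)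
    (hν : Sc t N₁ ⊥ ν) : ν = δ * η := by
  obtain ⟨d, hd, hdA⟩ := h.sA.exists_not_mem
  obtain ⟨y, hy, hyZ⟩ := h.sZ.exists_not_mem
  refine Sc.eq_mul_of_comm ht h.sA h.sZ h.s0 le_rfl h.sA.le (le_normalizer_bot N) ?_ ?_
    (fun x hx y hy => h.comm x hx y (h.sA.le hy)) ?_ ?_ hδ hη hν hd hy ?_
  · exact fun x hx y hy => Subgroup.mem_bot.2 (commutatorElement_eq_one_iff_commute.2 (h.A_comm x hx y hy))
  · exact fun x hx y hy => Subgroup.mem_bot.2 (commutatorElement_eq_one_iff_commute.2 (h.central y hy x hx).symm)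
  · exact fun z hz x hx => Subgroup.mem_bot.2 (commutatorElement_eq_one_iff_commute.2 (h.central z (h.s1.le hz) x hx))
  · exact fun z hz x hx => Subgroup.mem_bot.2
      (commutatorElement_eq_one_iff_commute.2 (h.central z (h.s1.le hz) x (h.sA.le hx)))
  · exact fun e => h.not_commute hd hdA hy hyZ (commutatorElement_eq_one_iff_commute.1 (Subgroup.mem_bot.1 e))

variable [Finite S]

/-- `[A, S] ≤ Z` and `[Z, S] ≤ N₁`. -/
theorem comm_A (hS : IsPGroup p S) {x g : Ω} (hx : x ∈ A) (hg : g ∈ S) : ⁅x, g⁆ ∈ Z :=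
  step_comm hS h.sZ hg (h.nA hg) (h.nZ hg) hx

theorem comm_Z (hS : IsPGroup p S) {x g : Ω} (hx : x ∈ Z) (hg : g ∈ S) : ⁅x, g⁆ ∈ N₁ :=
  step_comm hS h.s1 hg (h.nZ hg) (h.n1 hg) hx

/-- With the scalar `η σ ≠ 1` on the commutators of `A / Z` and `S / N`, `[A, S] ≤ N₁`. -/
theorem comm_A_le (hS : IsPGroup p S) {T : Ω → Ω} (hT : IsAut S T) {δ η : ZMod p}
    (hδ : Sc T N A δ) (hη : Sc T A Z η) (hone : Sc T Z N₁ (1 : ZMod p)) (hδ0 : δ ≠ 0) (hne : η * η ≠ δ)
    {d s : Ω} (hd : d ∈ N) (hs : s ∈ S) (hds : ⁅d, s⁆ ∉ Z) {σ : ZMod p} (hσ : Sc T S N σ) :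
    η = δ * σ ∧ ∀ x ∈ A, ∀ g ∈ S, ⁅x, g⁆ ∈ N₁ := by
  have hAi : ∀ x ∈ A, T x ∈ A := fun x hx => hη.mem h.sZ.le hx
  have hη' : η = δ * σ := by
    refine Sc.eq_mul_of_comm hT h.sA h.sN h.sZ h.sN.le le_rfl h.nZ (fun x hx g hg => h.comm_A hS hx hg)
      (fun x hx g hg => h.s1.le (h.comm x hx g hg))
      (fun x hx g hg => step_comm hS h.sA hg (h.sN.norm hg) (h.nA hg) hx) ?_ ?_ hδ hσ hη hd hs hds
    · exact fun z hz x hx => h.s1.le (h.comm z (h.sA.le hz) x hx)
    · exact fun z hz g hg => h.comm_A hS hz hg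
  refine ⟨hη', fun x hx g hg => ?_⟩
  refine Sc.comm_mem_of_ne hT h.sZ h.sN h.s1 h.hA le_rfl h.n1 (fun z hz g hg => h.comm_Z hS hz hg)
    (fun x hx y hy => h.comm x (h.sA.le hx) y hy) (fun x hx g hg => h.comm_A hS hx hg)
    (fun z hz x hx => h.comm z (h.hZN hz) x (h.sA.le hx)) (fun z hz g hg => h.comm_Z hS hz hg) hη hσ hone
    (fun e => hne ?_) hx hg
  calc η * η = η * (δ * σ) := by rw [← hη']
    _ = δ * (η * σ) := by ring
    _ = δ := by rw [← e, mul_one]

/-- Either `S` has an abelian subgroup of index `p`, or `δ ^ 2 = 1` and, for `p = 3`, an element is fixed. -/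
theorem sq_eq_one_and_fixed (c : Ctx F p) {T : Ω → Ω} (hT : IsAut S T) {δ η : ZMod p}
    (hδ : Sc T N A δ) (hη : Sc T A Z η) (hone : Sc T Z N₁ (1 : ZMod p)) (hδ0 : δ ≠ 0) (hδ1 : δ ≠ 1)
    (hne : η * η ≠ δ) {d s : Ω} (hd : d ∈ N) (hdA : d ∉ A) (hs : s ∈ S) (hsN : s ∉ N) (hds : ⁅d, s⁆ ∉ Z) :
    δ ^ 2 = 1 ∧ (p = 3 → Fixed S p) := by
  have hS := c.hS
  have hp1 := hp.out.one_lt
  have hNi : ∀ x ∈ N, T x ∈ N := fun x hx => hδ.mem h.sA.le hx
  obtain ⟨σ, hσ0, hσ⟩ := exists_sc h.sN hT le_rfl hT.mem hNi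
  obtain ⟨hη', hAS⟩ := h.comm_A_le hS hT hδ hη hone hδ0 hne hd hs hds hσ
  have hdS := h.sN.le hd
  have hN₁i : ∀ x ∈ N₁, T x ∈ N₁ := fun x hx => h.N₁_invariant (hT.restrict h.sN.le hNi) hx
  obtain ⟨ν, -, hν⟩ := exists_sc h.s0 hT h.h1 hN₁i (fun x hx => by
    rw [Subgroup.mem_bot] at hx ⊢; rw [hx, hT.one])
  have hν' : ν = δ * η := h.sc_N₁ (hT.restrict h.sN.le hNi) hδ hη hν
  -- the elements `y` and `s'`
  set y := ⁅d, s⁆ with hydef
  have hy : y ∈ A := step_comm hS h.sA hs (h.sN.norm hs) (h.nA hs) hd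
  have hyN := h.sA.le hy
  have hyS := h.hA hy
  have hyd : ⁅y, d⁆ ∈ N₁ := h.comm y hyN d hd
  have hyd1 : ⁅y, d⁆ ≠ 1 := fun e => h.not_commute hd hdA hy hds (commutatorElement_eq_one_iff_commute.1 e).symm
  have hdy : ¬ Commute d y := h.not_commute hd hdA hy hds
  obtain ⟨n, b, hb, hn⟩ := h.s0.exists_eq hyd (by rwa [Subgroup.mem_bot]) (hAS y hy s hs)
  rw [Subgroup.mem_bot] at hb
  rw [hb, mul_one] at hn
  set s' := s * d ^ ((p - 1) * n) with hs'def
  have hs' : s' ∈ S := mul_mem hs (pow_mem hdS _)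
  have hs'N : s' ∉ N := fun e => hsN (by
    have := mul_mem e (inv_mem (pow_mem hd ((p - 1) * n)))
    rwa [hs'def, mul_inv_cancel_right] at this)
  have hds' : ⁅d, s'⁆ = y := by
    rw [hs'def, comm_mul_right, commutatorElement_eq_one_iff_commute.2 ((Commute.refl d).pow_right _),
      mul_one, mul_inv_cancel, mul_one]
  have hys' : Commute y s' := by
    rw [← commutatorElement_eq_one_iff_commute, hs'def, comm_mul_right,
      comm_pow_right (h.central _ (h.s1.le hyd) d hd).symm, (((h.comm_one hS hyd hs).pow_left _).symm).eq,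
      mul_inv_cancel_right, hn, ← pow_add, show n + (p - 1) * n = p * n by
        rw [Nat.sub_mul, one_mul, Nat.add_sub_cancel' (Nat.le_mul_of_pos_left n hp.out.pos)],
      pow_mul, h.comm_pow_p hyN hd, one_pow]
  obtain ⟨z, hz, hz1⟩ := h.s1.exists_not_mem
  have hzS := h.hZ hz
  have hzs : ⁅z, s'⁆ ∈ N₁ := h.comm_Z hS hz hs'
  have hN₁s : ∀ x ∈ N₁, Commute x s' := fun x hx => h.comm_one hS hx hs'
  -- `z` and `s'` do not commute
  have hzs1 : ⁅z, s'⁆ ≠ 1 := by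
    intro e
    have hZs : ∀ x ∈ Z, Commute x s' := fun x hx =>
      h.s1.commute_all hN₁s hz hz1 (commutatorElement_eq_one_iff_commute.1 e) hx
    have hAs : ∀ x ∈ A, Commute x s' := fun x hx => h.sZ.commute_all hZs hy hds hys' hx
    have hab := commute_sup_zpowers h.A_comm hAs
    have hle : A ⊔ Subgroup.zpowers s' ≤ S := sup_le h.hA (Subgroup.zpowers_le.2 hs')
    have hlt : A ⊔ Subgroup.zpowers s' < S := lt_of_le_of_ne hle fun he => by
      obtain ⟨x, hx, x', hx', hne⟩ := h.nonab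
      exact hne (hab x (he ▸ h.sN.le hx) x' (he ▸ h.sN.le hx'))
    have hlt' : A < A ⊔ Subgroup.zpowers s' := lt_of_le_of_ne le_sup_left fun he =>
      hs'N (h.sA.le (he ▸ Subgroup.mem_sup_right (Subgroup.mem_zpowers s')))
    refine c.noAb _ hle (card_eq_pow_four hS c.card hlt' hlt ?_) hab
    rw [h.sZ.card, h.s1.card, h.s0.card, Subgroup.card_bot]; ring
  -- the scalars agree
  have hνσ : ν = 1 * σ := by
    refine Sc.eq_mul_of_comm hT h.s1 h.sN h.s0 h.hZ le_rfl (le_normalizer_bot S) ?_ ?_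
      (fun x hx g hg => h.comm_Z hS hx hg) ?_ ?_ hone hσ hν hz hs' (by rwa [Subgroup.mem_bot])
    · exact fun x hx g hg => Subgroup.mem_bot.2 (commutatorElement_eq_one_iff_commute.2 (h.comm_one hS hx hg))
    · exact fun x hx g hg => Subgroup.mem_bot.2 (commutatorElement_eq_one_iff_commute.2 (h.central x hx g hg))
    · exact fun x hx g hg => Subgroup.mem_bot.2
        (commutatorElement_eq_one_iff_commute.2 (h.comm_one hS hx (h.hZ hg)))
    · exact fun x hx g hg => Subgroup.mem_bot.2 (commutatorElement_eq_one_iff_commute.2 (h.comm_one hS hx hg))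
  have hsq : δ ^ 2 = 1 := by
    refine mul_right_cancel₀ hσ0 ?_
    calc δ ^ 2 * σ = δ * (δ * σ) := by ring
      _ = ν := by rw [← hη', hν']
      _ = 1 * σ := hνσ
  refine ⟨hsq, fun hp3 => ?_⟩
  -- the group modulo `N₁`
  have hN1 := h.n1
  set Y := cls N₁ y
  set D := cls N₁ d
  set S' := cls N₁ s'
  have hYc : ∀ g ∈ S, Commute Y (cls N₁ g) := fun g hg => (comm_mem_iff (hN1 hyS) (hN1 hg)).1 (hAS y hy g hg)
  have hYDS : ⁅D, S'⁆ = Y := by rw [← cls_comm (hN1 hdS) (hN1 hs'), hds']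
  have hdpZ : d ^ p ∈ Z := by
    obtain ⟨m, w, hw, e⟩ := h.sZ.exists_eq hy hds (h.sA.pow_mem hd)
    rw [e]
    refine mul_mem (h.sZ.pow_mem_of_dvd hy (dvd_of_pow_eq_one (h.comm_pow_p hyN hd) hyd1 ?_)) hw
    have hc : Commute (y ^ m) d := by
      have := ((Commute.refl d).pow_left p).mul_left ((h.central w hw d hd).inv_left)
      rwa [e, mul_inv_cancel_right] at this
    rw [← PGroups.commutatorElement_pow_left_of_central y d (h.central _ (h.s1.le hyd) y hyN).symm]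
    exact commutatorElement_eq_one_iff_commute.2 hc
  have hypN₁ : y ^ p ∈ N₁ := by
    rw [← cls_eq_one (hN1 (pow_mem hyS p)), cls_pow (hN1 hyS)]
    calc Y ^ p = ⁅D, S'⁆ ^ p := by rw [hYDS]
      _ = ⁅D ^ p, S'⁆ := (PGroups.commutatorElement_pow_left_of_central D S'
          (by rw [hYDS]; exact (hYc d hdS).symm) p).symm
      _ = cls N₁ ⁅d ^ p, s'⁆ := by rw [cls_comm (hN1 (pow_mem hdS p)) (hN1 hs'), cls_pow (hN1 hdS)]
      _ = 1 := cls_of_mem (h.comm_Z hS hdpZ hs')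
  have hexpA : ∀ a ∈ A, cls N₁ a ^ p = 1 := by
    intro a ha
    obtain ⟨m, w, hw, rfl⟩ := h.sZ.exists_eq hy hds ha
    have hwS := h.hZ hw
    rw [cls_mul (hN1 (pow_mem hyS m)) (hN1 hwS), cls_pow (hN1 hyS), ((hYc w hwS).pow_left m).mul_pow,
      h.s1.cls_pow_p hw, mul_one, ← pow_mul, mul_comm, pow_mul, ← cls_pow (hN1 hyS), cls_of_mem hypN₁, one_pow]
  have hdp : d ^ p ∈ N₁ := by
    obtain ⟨a', ha', ea⟩ := hδ.eq_mul hd
    have e1 : cls N₁ (T (d ^ p)) = D ^ p := by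
      rw [hone.cls_apply h.s1.norm hdpZ, ZMod.val_one, pow_one, cls_pow (hN1 hdS)]
    have hcda : Commute D (cls N₁ a') :=
      (comm_mem_iff (hN1 hdS) (hN1 (h.hA ha'))).1 (h.comm d hd a' (h.sA.le ha'))
    rw [hT.pow hdS, ea, cls_pow (hN1 (mul_mem (pow_mem hdS _) (h.hA ha'))),
      cls_mul (hN1 (pow_mem hdS _)) (hN1 (h.hA ha')), cls_pow (hN1 hdS), (hcda.pow_left _).mul_pow,
      hexpA a' ha', mul_one, ← pow_mul, mul_comm, pow_mul] at e1
    by_contra hne'
    have hDne : D ^ p ≠ 1 := fun e => hne' ((cls_eq_one (hN1 (pow_mem hdS p))).1 (by rw [cls_pow (hN1 hdS)]; exact e))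
    have hord : orderOf (D ^ p) = p := orderOf_eq_prime
      (by rw [← cls_pow (hN1 hdS), h.s1.cls_pow_p hdpZ]) hDne
    conv_rhs at e1 => rw [← pow_one (D ^ p)]
    rw [pow_eq_pow_iff_modEq, hord] at e1
    refine hδ1 ?_
    have := (ZMod.natCast_eq_natCast_iff δ.val 1 p).2 e1
    rwa [ZMod.natCast_zmod_val, Nat.cast_one] at this
  -- `J = N₁⟨y⟩`
  set J := N₁ ⊔ Subgroup.zpowers y
  have hJA : J ≤ A := sup_le h.h1A (Subgroup.zpowers_le.2 hy)
  have h1J : N₁ ≤ J := le_sup_left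
  have hyJ : y ∈ J := Subgroup.mem_sup_right (Subgroup.mem_zpowers y)
  have hJS : S ≤ Subgroup.normalizer (J : Set Ω) :=
    le_normalizer_of_comm fun g hg x hx => h1J (comm_mem_symm (hAS x (hJA hx) g hg))
  haveI := finite_sub h.h1
  have hy1 : y ∉ N₁ := fun e => hds (h.s1.le e)
  haveI : Finite A := finite_sub h.hA
  haveI : Finite J := finite_sub (hJA.trans h.hA)
  obtain ⟨-, hJle⟩ := card_sup_zpowers_le hp.out.pos (hN1 hyS) hypN₁
  have sJ : Step p N₁ J := step_of_lt (lt_of_le_of_ne h1J fun e => hy1 (e ▸ hyJ)) ((hJA.trans h.hA).trans hN1)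
    hJle (isPGroup_of_le hS (hJA.trans h.hA))
  have hgen : S ≤ Subgroup.closure ((A : Set Ω) ∪ {d, s'}) := by
    have hAc : A ≤ Subgroup.closure ((A : Set Ω) ∪ {d, s'}) := fun x hx => Subgroup.subset_closure (Or.inl hx)
    refine h.sN.le_of_mem (h.sA.le_of_mem hAc hd hdA (Subgroup.subset_closure (Or.inr ?_))) hs' hs'N
      (Subgroup.subset_closure (Or.inr ?_)) <;> simp
  have hSJ : ∀ x ∈ S, ∀ g ∈ S, ⁅x, g⁆ ∈ J := by
    intro x hx g hg
    refine comm_mem_of_closure (fun w hw => hJS ?_) ?_ (hgen hx) (hgen hg)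
    · rcases hw with hw | hw
      · exact h.hA hw
      · rcases hw with rfl | rfl
        · exact hdS
        · exact hs'
    · rintro w hw w' hw'
      have hmemS : ∀ v ∈ ((A : Set Ω) ∪ {d, s'}), v ∈ S := by
        rintro v (hv | rfl | rfl)
        · exact h.hA hv
        · exact hdS
        · exact hs'
      rcases hw with hwA | hw
      · exact h1J (hAS w hwA w' (hmemS w' hw'))
      rcases hw' with hw'A | hw'
      · exact h1J (comm_mem_symm (hAS w' hw'A w (hmemS w (Or.inr hw))))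
      rcases hw with rfl | rfl <;> rcases hw' with rfl | rfl
      · rw [commutatorElement_self]; exact one_mem _
      · rw [hds']; exact hyJ
      · exact comm_mem_symm (by rw [hds']; exact hyJ)
      · rw [commutatorElement_self]; exact one_mem _
  have hs'p : s' ^ p ∈ J := by
    have hsp : s' ^ p ∈ N := h.sN.pow_mem hs'
    obtain ⟨k, a, ha, e⟩ := h.sA.exists_eq hd hdA hsp
    have hYne : Y ≠ 1 := fun e' => hy1 ((cls_eq_one (hN1 hyS)).1 e')
    have hYp : Y ^ p = 1 := by rw [← cls_pow (hN1 hyS), cls_of_mem hypN₁]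
    have hk : p ∣ k := by
      refine dvd_of_pow_eq_one hYp hYne ?_
      rw [← hYDS, ← PGroups.commutatorElement_pow_left_of_central D S' (by rw [hYDS]; exact (hYc d hdS).symm),
        commutatorElement_eq_one_iff_commute, ← cls_pow (hN1 hdS)]
      have h1 : Commute (cls N₁ (d ^ k * a)) S' := by
        rw [← e, cls_pow (hN1 hs')]; exact (Commute.refl S').pow_left p
      have h2 : Commute (cls N₁ a) S' := (comm_mem_iff (hN1 (h.hA ha)) (hN1 hs')).1 (hAS a ha s' hs')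
      rw [cls_mul (hN1 (pow_mem hdS k)) (hN1 (h.hA ha))] at h1
      have := h1.mul_left h2.inv_left
      rwa [mul_inv_cancel_right] at this
    have hspA : s' ^ p ∈ A := by rw [e]; exact mul_mem (h.sA.pow_mem_of_dvd hd hk) ha
    obtain ⟨i, w, hw, e'⟩ := h.sZ.exists_eq hy hds hspA
    obtain ⟨j, n', hn', rfl⟩ := h.s1.exists_eq hz hz1 hw
    have hj : p ∣ j := by
      refine dvd_of_pow_eq_one (Subgroup.mem_bot.1 (h.s0.pow_mem hzs)) hzs1 ?_
      rw [← PGroups.commutatorElement_pow_left_of_central z s' (h.comm_one hS hzs hzS).symm,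
        commutatorElement_eq_one_iff_commute]
      have h1 : Commute (y ^ i * (z ^ j * n')) s' := by rw [← e']; exact (Commute.refl s').pow_left p
      have h2 := ((hys'.pow_left i).inv_left.mul_left h1).mul_left (hN₁s n' hn').inv_left
      rwa [inv_mul_cancel_left, mul_inv_cancel_right] at h2
    rw [e']
    exact mul_mem (pow_mem hyJ i) (h1J (mul_mem (h.s1.pow_mem_of_dvd hz hj) hn'))
  -- the subgroup `K₀`
  set J₁ := J ⊔ Subgroup.zpowers d
  set K₀ := J₁ ⊔ Subgroup.zpowers s'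
  have hJ₁S : J₁ ≤ S := sup_le (hJA.trans h.hA) (Subgroup.zpowers_le.2 hdS)
  have hK₀S : K₀ ≤ S := sup_le hJ₁S (Subgroup.zpowers_le.2 hs')
  have hnorm : ∀ {C : Subgroup Ω}, J ≤ C → C ≤ S → S ≤ Subgroup.normalizer (C : Set Ω) := fun hJC hCS =>
    le_normalizer_of_comm fun g hg x hx => hJC (hSJ g hg x (hCS hx))
  obtain ⟨hJ₁fin, hJ₁le⟩ := card_sup_zpowers_le hp.out.pos (hJS hdS) (h1J hdp)
  haveI : Finite ↥J₁ := hJ₁fin
  obtain ⟨hK₀fin, hK₀le⟩ := card_sup_zpowers_le hp.out.pos (hnorm le_sup_left hJ₁S hs') (show s' ^ p ∈ J₁ from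
    Subgroup.mem_sup_left hs'p)
  haveI : Finite ↥K₀ := hK₀fin
  have hJcard : Nat.card J = p ^ 2 := by rw [sJ.card, h.s0.card, Subgroup.card_bot]; ring
  have hK₀4 : Nat.card K₀ ≤ p ^ 4 := by
    refine hK₀le.trans ?_
    calc p * Nat.card J₁ ≤ p * (p * Nat.card J) := Nat.mul_le_mul_left _ hJ₁le
      _ = p ^ 4 := by rw [hJcard]; ring
  have h1K : N₁ ≤ K₀ := h1J.trans (le_sup_left.trans le_sup_left)
  have hzK : z ∉ K₀ := fun e => by
    have hZK : Z ≤ K₀ := h.s1.le_of_mem h1K hz hz1 e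
    have hAK : A ≤ K₀ := h.sZ.le_of_mem hZK hy hds (Subgroup.mem_sup_left (Subgroup.mem_sup_left hyJ))
    have hNK : N ≤ K₀ := h.sA.le_of_mem hAK hd hdA
      (Subgroup.mem_sup_left (Subgroup.mem_sup_right (Subgroup.mem_zpowers d)))
    have hSK : S ≤ K₀ := h.sN.le_of_mem hNK hs' hs'N (Subgroup.mem_sup_right (Subgroup.mem_zpowers s'))
    have := (Subgroup.card_le_of_le hSK).trans hK₀4
    rw [c.card] at this
    exact absurd ((Nat.pow_le_pow_iff_right hp1).1 this) (by norm_num)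
  have sK : Step p K₀ S := by
    refine step_of_lt (lt_of_le_of_ne hK₀S fun e => hzK (e ▸ hzS)) (hnorm (le_sup_left.trans le_sup_left) hK₀S) ?_ hS
    obtain ⟨hfin, hle⟩ := card_sup_zpowers_le hp.out.pos (hnorm (le_sup_left.trans le_sup_left) hK₀S hzS)
      (h1K (h.s1.pow_mem hz))
    refine le_trans ?_ hle
    haveI := hfin
    refine Subgroup.card_le_of_le (h.sN.le_of_mem ?_ hs' hs'N
      (Subgroup.mem_sup_left (Subgroup.mem_sup_right (Subgroup.mem_zpowers s'))))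
    refine h.sA.le_of_mem ?_ hd hdA
      (Subgroup.mem_sup_left (Subgroup.mem_sup_left (Subgroup.mem_sup_right (Subgroup.mem_zpowers d))))
    refine h.sZ.le_of_mem ?_ hy hds (Subgroup.mem_sup_left (Subgroup.mem_sup_left (Subgroup.mem_sup_left hyJ)))
    exact h.s1.le_of_mem (h1K.trans le_sup_left) hz hz1 (Subgroup.mem_sup_right (Subgroup.mem_zpowers z))
  refine ⟨K₀, z, sK, hzS, hzK, fun t ht => ?_⟩
  -- the characteristic series `S > M > A > J > N₁`
  have hJeq : comSub S S = J := by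
    refine le_antisymm (comSub_le hSJ) ?_
    have h1 : N₁ ≤ comSub S S :=
      h.s0.le_of_mem bot_le hzs (by rwa [Subgroup.mem_bot]) (mem_comSub hzS hs')
    exact sJ.le_of_mem h1 hyJ hy1 (hydef ▸ mem_comSub hdS hs)
  have hJi : ∀ x ∈ J, t x ∈ J := fun x hx => by
    rw [← hJeq] at hx ⊢
    exact ht.comSub_mem le_rfl le_rfl ht.mem ht.mem hx
  have hN₁eq : comSub J S = N₁ := by
    refine le_antisymm (comSub_le fun x hx g hg => hAS x (hJA hx) g hg) ?_
    exact h.s0.le_of_mem bot_le hyd (by rwa [Subgroup.mem_bot]) (mem_comSub hyJ hdS)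
  have hN₁i' : ∀ x ∈ N₁, t x ∈ N₁ := fun x hx => by
    rw [← hN₁eq] at hx ⊢
    exact ht.comSub_mem (hJA.trans h.hA) le_rfl hJi ht.mem hx
  set M := centralizerIn S J with hMdef
  have hMmem : ∀ g, g ∈ M ↔ g ∈ S ∧ ∀ x ∈ J, Commute x g := fun g =>
    ⟨fun hg => ⟨hg.1, fun x hx => Subgroup.mem_centralizer_iff.1 hg.2 x hx⟩,
      fun hg => ⟨hg.1, Subgroup.mem_centralizer_iff.2 fun x hx => hg.2 x hx⟩⟩
  have hAM : A ≤ M := fun x hx => (hMmem x).2 ⟨h.hA hx, fun w hw => h.A_comm w (hJA hw) x hx⟩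
  have hs'M : s' ∈ M := (hMmem s').2 ⟨hs', fun w hw => sJ.commute_all hN₁s hyJ hy1 hys' hw⟩
  have hMS : M ≤ S := inf_le_left
  have hdecomp : ∀ g ∈ S, ∃ i j : ℕ, ∃ a ∈ A, g = s' ^ i * (d ^ j * a) := fun g hg => by
    obtain ⟨i, b, hb, rfl⟩ := h.sN.exists_eq hs' hs'N hg
    obtain ⟨j, a, ha, rfl⟩ := h.sA.exists_eq hd hdA hb
    exact ⟨i, j, a, ha, rfl⟩
  have hM_eq : M ≤ A ⊔ Subgroup.zpowers s' := by
    intro g hg
    obtain ⟨i, j, a, ha, rfl⟩ := hdecomp g ((hMmem g).1 hg).1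
    have h1 := ((hMmem _).1 hg).2 y hyJ
    have h2 : Commute y (d ^ j) := by
      have := ((hys'.pow_right i).inv_right.mul_right h1).mul_right (h.A_comm y hy a ha).inv_right
      rwa [inv_mul_cancel_left, mul_inv_cancel_right] at this
    have hj : p ∣ j := by
      refine dvd_of_pow_eq_one (h.comm_pow_p hyN hd) hyd1 ?_
      rw [← comm_pow_right (h.central _ (h.s1.le hyd) d hd).symm]
      exact commutatorElement_eq_one_iff_commute.2 h2
    exact mul_mem (Subgroup.mem_sup_right (pow_mem (Subgroup.mem_zpowers s') i))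
      (Subgroup.mem_sup_left (mul_mem (h.sA.pow_mem_of_dvd hd hj) ha))
  have hMsup : M = A ⊔ Subgroup.zpowers s' :=
    le_antisymm hM_eq (sup_le hAM (Subgroup.zpowers_le.2 hs'M))
  haveI : Finite M := finite_sub hMS
  have sM : Step p A M := by
    refine step_of_lt (lt_of_le_of_ne hAM fun e => hs'N (h.sA.le (e ▸ hs'M))) (hMS.trans h.nA) ?_
      (isPGroup_of_le hS hMS)
    rw [hMsup]
    exact (card_sup_zpowers_le hp.out.pos (h.nA hs') (hJA hs'p)).2
  have sS : Step p M S := by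
    refine ⟨hMS, hnorm (hJA.trans hAM) hMS, ?_, inferInstance⟩
    rw [c.card, sM.card, h.sZ.card, h.s1.card, h.s0.card, Subgroup.card_bot]; ring
  have hMi : ∀ x ∈ M, t x ∈ M := fun x hx => by
    refine (hMmem _).2 ⟨ht.mem x (hMS hx), fun w hw => ?_⟩
    obtain ⟨w', hw', rfl⟩ := ht.exists_preimage (hJA.trans h.hA) hJi hw
    rw [commute_iff_eq, ← ht.mul _ (h.hA (hJA hw')) _ (hMS hx), ← ht.mul _ (hMS hx) _ (h.hA (hJA hw')),
      (((hMmem x).1 hx).2 w' hw').eq]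
  have hAchar : ∀ g ∈ M, (∀ x ∈ S, ⁅g, x⁆ ∈ N₁) → g ∈ A := by
    intro g hg hc
    obtain ⟨i, a, ha, rfl⟩ := sM.exists_eq hs'M (fun e => hs'N (h.sA.le e)) hg
    have hYne : Y ≠ 1 := fun e' => hy1 ((cls_eq_one (hN1 hyS)).1 e')
    refine mul_mem (sM.pow_mem_of_dvd hs'M (dvd_of_pow_eq_one ?_ hYne ?_)) ha
    · rw [← cls_pow (hN1 hyS), cls_of_mem hypN₁]
    · have h1 : Commute (cls N₁ (s' ^ i * a)) D :=
        (comm_mem_iff (hN1 (hMS hg)) (hN1 hdS)).1 (hc d hdS)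
      have h2 : Commute (cls N₁ a) D := (comm_mem_iff (hN1 (h.hA ha)) (hN1 hdS)).1 (hAS a ha d hdS)
      rw [cls_mul (hN1 (pow_mem hs' i)) (hN1 (h.hA ha)), cls_pow (hN1 hs')] at h1
      have h3 := h1.mul_left h2.inv_left
      rw [mul_inv_cancel_right] at h3
      have hcS : Commute S' ⁅D, S'⁆ := by rw [hYDS]; exact (hYc s' hs').symm
      rw [← hYDS, ← comm_pow_right hcS]
      exact commutatorElement_eq_one_iff_commute.2 h3.symm
  have hAi : ∀ x ∈ A, t x ∈ A := fun x hx => by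
    refine hAchar _ (hMi x (hAM hx)) fun w hw => ?_
    haveI : Finite S := inferInstance
    obtain ⟨w', hw', rfl⟩ := ht.exists_preimage le_rfl ht.mem hw
    rw [← ht.comm (h.hA hx) hw']
    exact hN₁i' _ (hAS x hx w' hw')
  have sAJ : Step p J A := by
    refine step_of_lt (lt_of_le_of_ne hJA fun e => hzK ((le_sup_left.trans le_sup_left : J ≤ K₀) (e ▸ h.sZ.le hz : z ∈ J)))
      (h.hA.trans hJS) ?_ (isPGroup_of_le hS h.hA)
    obtain ⟨hfin, hle⟩ := card_sup_zpowers_le hp.out.pos (hJS hzS) (h1J (h.s1.pow_mem hz))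
    refine le_trans ?_ hle
    haveI := hfin
    refine Subgroup.card_le_of_le (h.sZ.le_of_mem ?_ hy hds (Subgroup.mem_sup_left hyJ))
    exact h.s1.le_of_mem (h1J.trans le_sup_left) hz hz1 (Subgroup.mem_sup_right (Subgroup.mem_zpowers z))
  have hboti : ∀ x ∈ (⊥ : Subgroup Ω), t x ∈ (⊥ : Subgroup Ω) := fun x hx => by
    rw [Subgroup.mem_bot] at hx ⊢; rw [hx, ht.one]
  obtain ⟨δ', hδ'0, hδ'⟩ := exists_sc sS ht le_rfl ht.mem hMi
  obtain ⟨σ', hσ'0, hσ'⟩ := exists_sc sM ht hMS hMi hAi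
  obtain ⟨lam, -, hlam⟩ := exists_sc sAJ ht h.hA hAi hJi
  obtain ⟨η', -, hη''⟩ := exists_sc sJ ht (hJA.trans h.hA) hJi hN₁i'
  obtain ⟨ν', -, hν''⟩ := exists_sc h.s0 ht h.h1 hN₁i' hboti
  have e1 : η' = δ' * σ' := by
    refine Sc.eq_mul_of_comm ht sS sM sJ le_rfl hMS hN1 ?_ (fun x hx a ha => comm_mem_symm (hAS a ha x hx))
      (fun x hx m hm => hSJ x hx m (hMS hm)) (fun w hw x hx => hAS w (hJA hw) x hx)
      (fun w hw x hx => hAS w (hJA hw) x (hMS hx)) hδ' hσ' hη'' hdS hs'M (by rw [hds']; exact hy1)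
    intro x hx m hm
    refine sM.comm_mem_all (hMS.trans hN1) (hN1 (hMS hx)) (fun a ha => hAS a ha x (hMS hx)) hs'M
      (fun e => hs'N (h.sA.le e)) ?_ hm |> comm_mem_symm
    obtain ⟨i, a, ha, rfl⟩ := sM.exists_eq hs'M (fun e => hs'N (h.sA.le e)) hx
    rw [comm_mul_right, commutatorElement_eq_one_iff_commute.2 ((Commute.refl s').pow_right i), one_mul]
    exact conj_mem_of_le hN1 (pow_mem hs' i) (comm_mem_symm (hAS a ha s' hs'))
  have e2 : ν' = δ' * η' := by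
    refine Sc.eq_mul_of_comm ht sS sJ h.s0 le_rfl (hJA.trans h.hA) (le_normalizer_bot S) ?_ ?_
      (fun x hx w hw => comm_mem_symm (hAS w (hJA hw) x hx)) ?_ ?_ hδ' hη'' hν'' hdS hyJ ?_
    · exact fun x hx w hw => Subgroup.mem_bot.2
        (commutatorElement_eq_one_iff_commute.2 (((hMmem x).1 hx).2 w hw).symm)
    · exact fun x hx w hw => Subgroup.mem_bot.2
        (commutatorElement_eq_one_iff_commute.2 (h.comm_one hS hw hx).symm)
    · exact fun w hw x hx => Subgroup.mem_bot.2 (commutatorElement_eq_one_iff_commute.2 (h.comm_one hS hw hx))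
    · exact fun w hw x hx => Subgroup.mem_bot.2
        (commutatorElement_eq_one_iff_commute.2 (h.comm_one hS hw (h.hA (hJA hx))))
    · exact fun e => hdy (commutatorElement_eq_one_iff_commute.1 (Subgroup.mem_bot.1 e))
  have e3 : ν' = lam * σ' := by
    refine Sc.eq_mul_of_comm ht sAJ sM h.s0 h.hA hMS (le_normalizer_bot S) ?_ ?_
      (fun x hx m hm => hAS x hx m (hMS hm)) ?_ ?_ hlam hσ' hν'' (h.sZ.le hz) hs'M
      (by rwa [Subgroup.mem_bot])
    · exact fun x hx m hm => Subgroup.mem_bot.2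
        (commutatorElement_eq_one_iff_commute.2 (((hMmem m).1 hm).2 x hx))
    · exact fun x hx a ha => Subgroup.mem_bot.2 (commutatorElement_eq_one_iff_commute.2 (h.A_comm x hx a ha))
    · exact fun w hw x hx => Subgroup.mem_bot.2
        (commutatorElement_eq_one_iff_commute.2 (h.comm_one hS hw (h.hA hx)))
    · exact fun w hw x hx => Subgroup.mem_bot.2
        (commutatorElement_eq_one_iff_commute.2 (h.comm_one hS hw (hMS hx)))
  have hlam1 : lam = 1 := by
    have hall : ∀ k : ZMod p, k ≠ 0 → k ^ 2 = 1 := fun k hk => by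
      rw [show 2 = p - 1 by omega]; exact ZMod.pow_card_sub_one_eq_one hk
    refine mul_right_cancel₀ hσ'0 ?_
    calc lam * σ' = δ' * (δ' * σ') := by rw [← e3, e2, e1]
      _ = δ' ^ 2 * σ' := by ring
      _ = 1 * σ' := by rw [hall δ' hδ'0]
  subst hlam1
  exact (le_sup_left.trans le_sup_left : J ≤ K₀) (hlam.trivial_of_one (h.sZ.le hz))

end Four

end Cfsg.Agent.Lib.FS.OrderFive
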