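import Mathlib
import Cfsg.Agent.Lib.PGroups.Omega
import Cfsg.Agent.Lib.PGroups.MaxAbelian

/-!
# Steps of order `p` between subgroups

Elementary tools for sections of order `p`: classes modulo a subgroup, decomposition and orders.
-/

set_option autoImplicit false
set_option linter.style.haveILetI false
set_option linter.unusedSectionVars false

namespace Cfsg.Agent.Lib.FS.OrderFive

open scoped commutatorElement

variable {G : Type*} [Group G] {p : ℕ}

/-- The normaliser of `D` modulo `D`. -/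
abbrev Nq (D : Subgroup G) : Type _ :=
  ↥(Subgroup.normalizer (D : Set G)) ⧸ D.subgroupOf (Subgroup.normalizer (D : Set G))

open Classical in
/-- The class of `x` modulo `D`. -/
noncomputable def cls (D : Subgroup G) (x : G) : Nq D :=
  if h : x ∈ Subgroup.normalizer (D : Set G) then QuotientGroup.mk ⟨x, h⟩ else 1

/-- `cls D` as a homomorphism on the normaliser. -/
def clsHom (D : Subgroup G) : ↥(Subgroup.normalizer (D : Set G)) →* Nq D := QuotientGroup.mk' _

theorem cls_eq {D : Subgroup G} {x : G} (hx : x ∈ Subgroup.normalizer (D : Set G)) :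
    cls D x = clsHom D ⟨x, hx⟩ := by
  rw [cls, dif_pos hx]; rfl

theorem cls_mul {D : Subgroup G} {x y : G} (hx : x ∈ Subgroup.normalizer (D : Set G))
    (hy : y ∈ Subgroup.normalizer (D : Set G)) : cls D (x * y) = cls D x * cls D y := by
  rw [cls_eq hx, cls_eq hy, cls_eq (mul_mem hx hy), ← map_mul]; rfl

theorem cls_one (D : Subgroup G) : cls D (1 : G) = 1 := by
  rw [cls_eq (one_mem _)]; exact map_one _

theorem cls_inv {D : Subgroup G} {x : G} (hx : x ∈ Subgroup.normalizer (D : Set G)) :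
    cls D x⁻¹ = (cls D x)⁻¹ := by
  rw [cls_eq hx, cls_eq (inv_mem hx), ← map_inv]; rfl

theorem cls_pow {D : Subgroup G} {x : G} (hx : x ∈ Subgroup.normalizer (D : Set G)) (n : ℕ) :
    cls D (x ^ n) = cls D x ^ n := by
  rw [cls_eq hx, cls_eq (pow_mem hx n), ← map_pow]; rfl

theorem cls_comm {D : Subgroup G} {x y : G} (hx : x ∈ Subgroup.normalizer (D : Set G))
    (hy : y ∈ Subgroup.normalizer (D : Set G)) : cls D ⁅x, y⁆ = ⁅cls D x, cls D y⁆ := by
  simp only [commutatorElement_def]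
  rw [cls_mul (mul_mem (mul_mem hx hy) (inv_mem hx)) (inv_mem hy),
    cls_mul (mul_mem hx hy) (inv_mem hx), cls_mul hx hy, cls_inv hx, cls_inv hy]

theorem cls_eq_one {D : Subgroup G} {x : G} (hx : x ∈ Subgroup.normalizer (D : Set G)) :
    cls D x = 1 ↔ x ∈ D := by
  rw [cls_eq hx]
  exact (QuotientGroup.eq_one_iff _).trans Subgroup.mem_subgroupOf

theorem cls_of_mem {D : Subgroup G} {x : G} (hx : x ∈ D) : cls D x = 1 :=
  (cls_eq_one (Subgroup.le_normalizer hx)).2 hx

theorem cls_eq_cls {D : Subgroup G} {x y : G} (hx : x ∈ Subgroup.normalizer (D : Set G))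
    (hy : y ∈ Subgroup.normalizer (D : Set G)) : cls D x = cls D y ↔ x⁻¹ * y ∈ D := by
  rw [← cls_eq_one (mul_mem (inv_mem hx) hy), cls_mul (inv_mem hx) hy, cls_inv hx, inv_mul_eq_one]

theorem cls_mul_right {D : Subgroup G} {x d : G} (hx : x ∈ Subgroup.normalizer (D : Set G))
    (hd : d ∈ D) : cls D (x * d) = cls D x := by
  rw [cls_mul hx (Subgroup.le_normalizer hd), cls_of_mem hd, mul_one]

theorem comm_mem_iff {D : Subgroup G} {x y : G} (hx : x ∈ Subgroup.normalizer (D : Set G))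
    (hy : y ∈ Subgroup.normalizer (D : Set G)) : ⁅x, y⁆ ∈ D ↔ Commute (cls D x) (cls D y) := by
  rw [← cls_eq_one (D := D), cls_comm hx hy, commutatorElement_eq_one_iff_commute]
  rw [commutatorElement_def]
  exact mul_mem (mul_mem (mul_mem hx hy) (inv_mem hx)) (inv_mem hy)

theorem comm_mem_symm {D : Subgroup G} {x y : G} (h : ⁅x, y⁆ ∈ D) : ⁅y, x⁆ ∈ D := by
  rw [← commutatorElement_inv]; exact inv_mem h

/-- A subgroup is normalised by a group stabilising it. -/
theorem le_normalizer_of {K C : Subgroup G} (h : ∀ g ∈ K, ∀ x ∈ C, g * x * g⁻¹ ∈ C) :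
    K ≤ Subgroup.normalizer (C : Set G) := by
  intro g hg
  rw [Subgroup.mem_normalizer_iff]
  refine fun x => ⟨h g hg x, fun hx => ?_⟩
  have := h g⁻¹ (inv_mem hg) _ hx
  rwa [show g⁻¹ * (g * x * g⁻¹) * g⁻¹⁻¹ = x by group] at this

theorem conj_mem_of_le {K C : Subgroup G} (h : K ≤ Subgroup.normalizer (C : Set G)) {g x : G}
    (hg : g ∈ K) (hx : x ∈ C) : g * x * g⁻¹ ∈ C :=
  ((Subgroup.mem_normalizer_iff.1 (h hg)) x).1 hx

theorem comm_mem_right {K C : Subgroup G} (h : K ≤ Subgroup.normalizer (C : Set G)) {g x : G}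
    (hg : g ∈ K) (hx : x ∈ C) : ⁅g, x⁆ ∈ C := by
  rw [commutatorElement_def]
  exact mul_mem (conj_mem_of_le h hg hx) (inv_mem hx)

theorem comm_mem_left {K C : Subgroup G} (h : K ≤ Subgroup.normalizer (C : Set G)) {g x : G}
    (hg : g ∈ K) (hx : x ∈ C) : ⁅x, g⁆ ∈ C :=
  comm_mem_symm (comm_mem_right h hg hx)

/-- Commutators in a generated subgroup, modulo a normalised subgroup. -/
theorem comm_mem_of_closure {D : Subgroup G} {X : Set G}
    (hX : ∀ x ∈ X, x ∈ Subgroup.normalizer (D : Set G)) (h : ∀ x ∈ X, ∀ y ∈ X, ⁅x, y⁆ ∈ D) {x y : G}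
    (hx : x ∈ Subgroup.closure X) (hy : y ∈ Subgroup.closure X) : ⁅x, y⁆ ∈ D := by
  have hN : Subgroup.closure X ≤ Subgroup.normalizer (D : Set G) := (Subgroup.closure_le _).2 hX
  rw [comm_mem_iff (hN hx) (hN hy)]
  induction hx, hy using Subgroup.closure_induction₂ with
  | mem a b ha hb => exact (comm_mem_iff (hX a ha) (hX b hb)).1 (h a ha b hb)
  | one_left a _ => rw [cls_one]; exact Commute.one_left _
  | one_right a _ => rw [cls_one]; exact Commute.one_right _
  | mul_left a b c ha hb _ h₁ h₂ => rw [cls_mul (hN ha) (hN hb)]; exact h₁.mul_left h₂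
  | mul_right a b c hb hc _ h₁ h₂ => rw [cls_mul (hN hb) (hN hc)]; exact h₁.mul_right h₂
  | inv_left a b ha _ h₁ => rw [cls_inv (hN ha)]; exact h₁.inv_left
  | inv_right a b _ hb h₁ => rw [cls_inv (hN hb)]; exact h₁.inv_right

/-- Adjoining an element with `p`-th power inside multiplies the order by at most `p`. -/
theorem card_sup_zpowers_le {B : Subgroup G} [Finite B] (hp0 : 0 < p) {y : G}
    (hy : y ∈ Subgroup.normalizer (B : Set G)) (hyp : y ^ p ∈ B) :
    Finite ↥(B ⊔ Subgroup.zpowers y) ∧ Nat.card ↥(B ⊔ Subgroup.zpowers y) ≤ p * Nat.card B := by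
  set U := B ⊔ Subgroup.zpowers y
  have hU : U ≤ Subgroup.normalizer (B : Set G) :=
    sup_le Subgroup.le_normalizer (Subgroup.zpowers_le.2 hy)
  let f : U →* Nq B := (clsHom B).comp (Subgroup.inclusion hU)
  have hf : ∀ u : U, f u = cls B u := fun u => (cls_eq (hU u.2)).symm
  have hξ : cls B y ^ p = 1 := by rw [← cls_pow hy]; exact cls_of_mem hyp
  have hrange : f.range ≤ Subgroup.zpowers (cls B y) := by
    rintro _ ⟨⟨u, hu⟩, rfl⟩
    rw [hf]
    show cls B u ∈ _
    rw [cls_eq (hU hu)]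
    have : U ≤ ((Subgroup.zpowers (cls B y)).comap (clsHom B)).map
        (Subgroup.normalizer (B : Set G)).subtype := by
      refine sup_le ?_ (Subgroup.zpowers_le.2 ?_)
      · intro b hb
        refine ⟨⟨b, Subgroup.le_normalizer hb⟩, ?_, rfl⟩
        show clsHom B _ ∈ Subgroup.zpowers _
        rw [← cls_eq, cls_of_mem hb]; exact one_mem _
      · refine ⟨⟨y, hy⟩, ?_, rfl⟩
        show clsHom B _ ∈ Subgroup.zpowers _
        rw [← cls_eq]; exact Subgroup.mem_zpowers _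
    obtain ⟨⟨_, _⟩, h, rfl⟩ := this hu
    exact h
  have hker : f.ker = B.subgroupOf U := by
    ext u
    rw [MonoidHom.mem_ker, hf, cls_eq_one (hU u.2), Subgroup.mem_subgroupOf]
  haveI : Finite (Subgroup.zpowers (cls B y)) :=
    finite_zpowers.2 (isOfFinOrder_iff_pow_eq_one.2 ⟨p, hp0, hξ⟩)
  haveI : Finite f.range := Finite.of_injective _ (Subgroup.inclusion_injective hrange)
  have hc : Nat.card U = Nat.card B * Nat.card f.range := by
    rw [← f.ker.card_mul_index, Subgroup.index_ker, hker,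
      Nat.card_congr (Subgroup.subgroupOfEquivOfLe (le_sup_left : B ≤ U)).toEquiv]
  refine ⟨Nat.finite_of_card_ne_zero ?_, ?_⟩
  · rw [hc]; exact (Nat.mul_pos Nat.card_pos Nat.card_pos).ne'
  · rw [hc, mul_comm p]
    refine Nat.mul_le_mul_left _ ((Subgroup.card_le_of_le hrange).trans ?_)
    rw [Nat.card_zpowers]
    exact orderOf_le_of_pow_eq_one hp0 hξ

/-- `B` is normal of index `p` in `A`. -/
structure Step (p : ℕ) (B A : Subgroup G) : Prop where
  le : B ≤ A
  norm : A ≤ Subgroup.normalizer (B : Set G)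
  card : Nat.card A = p * Nat.card B
  fin : Finite A

namespace Step

variable [hp : Fact p.Prime] {A B : Subgroup G} (h : Step p B A)

include h

theorem finB : Finite B :=
  haveI := h.fin
  Finite.of_injective _ (Subgroup.inclusion_injective h.le)

theorem exists_not_mem : ∃ x ∈ A, x ∉ B := by
  haveI := h.fin
  haveI := h.finB
  refine SetLike.exists_of_lt (lt_of_le_of_ne h.le fun e => ?_)
  have hc := h.card
  rw [e] at hc
  have h2 := hp.out.two_le
  have : 0 < Nat.card A := Nat.card_pos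
  nlinarith

theorem lt : B < A := by
  obtain ⟨x, hx, hxB⟩ := h.exists_not_mem
  exact lt_of_le_of_ne h.le fun e => hxB (e ▸ hx)

theorem cls_card : ∃ f : A →* Nq B, (∀ a : A, f a = cls B a) ∧ Nat.card f.range = p := by
  haveI := h.fin
  haveI := h.finB
  refine ⟨(clsHom B).comp (Subgroup.inclusion h.norm), fun a => (cls_eq (h.norm a.2)).symm, ?_⟩
  set f := (clsHom B).comp (Subgroup.inclusion h.norm)
  have hker : f.ker = B.subgroupOf A := by
    ext a
    rw [MonoidHom.mem_ker, show f a = cls B a from (cls_eq (h.norm a.2)).symm, cls_eq_one (h.norm a.2),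
      Subgroup.mem_subgroupOf]
  have e := f.ker.card_mul_index
  rw [Subgroup.index_ker, hker, Nat.card_congr (Subgroup.subgroupOfEquivOfLe h.le).toEquiv, h.card,
    mul_comm p] at e
  exact Nat.eq_of_mul_eq_mul_left Nat.card_pos e

theorem cls_pow_p {a : G} (ha : a ∈ A) : cls B a ^ p = 1 := by
  obtain ⟨f, hf, hc⟩ := h.cls_card
  haveI : Finite f.range := Nat.finite_of_card_ne_zero (by rw [hc]; exact hp.out.ne_zero)
  have := pow_card_eq_one' (x := (⟨f ⟨a, ha⟩, ⟨_, rfl⟩⟩ : f.range))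
  rw [hc] at this
  have := congrArg Subtype.val this
  rw [Subgroup.coe_pow, Subgroup.coe_one] at this
  change f ⟨a, ha⟩ ^ p = 1 at this
  rwa [hf] at this

theorem pow_mem {a : G} (ha : a ∈ A) : a ^ p ∈ B := by
  rw [← cls_eq_one (Subgroup.pow_mem _ (h.norm ha) p), cls_pow (h.norm ha)]
  exact h.cls_pow_p ha

theorem cls_ne_one {x : G} (hx : x ∈ A) (hxB : x ∉ B) : cls B x ≠ 1 :=
  fun e => hxB ((cls_eq_one (h.norm hx)).1 e)

theorem exists_pow {x a : G} (hx : x ∈ A) (hxB : x ∉ B) (ha : a ∈ A) :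
    ∃ n : ℕ, cls B a = cls B x ^ n := by
  obtain ⟨f, hf, hc⟩ := h.cls_card
  have hne : (⟨f ⟨x, hx⟩, ⟨_, rfl⟩⟩ : f.range) ≠ 1 := fun e =>
    h.cls_ne_one hx hxB ((hf _).symm.trans (congrArg Subtype.val e))
  obtain ⟨n, hn⟩ := mem_powers_of_prime_card hc hne (g' := (⟨f ⟨a, ha⟩, ⟨_, rfl⟩⟩ : f.range))
  refine ⟨n, ?_⟩
  have := congrArg Subtype.val hn
  simp only [Subgroup.coe_pow] at this
  change f ⟨x, hx⟩ ^ n = f ⟨a, ha⟩ at this
  rw [hf, hf] at this
  exact this.symm

/-- Decomposition along a step. -/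
theorem exists_eq {x a : G} (hx : x ∈ A) (hxB : x ∉ B) (ha : a ∈ A) :
    ∃ n : ℕ, ∃ b ∈ B, a = x ^ n * b := by
  obtain ⟨n, hn⟩ := h.exists_pow hx hxB ha
  rw [← cls_pow (h.norm hx)] at hn
  refine ⟨n, (x ^ n)⁻¹ * a, ?_, by group⟩
  exact (cls_eq_cls (Subgroup.pow_mem _ (h.norm hx) n) (h.norm ha)).1 hn.symm

theorem le_of_mem {D : Subgroup G} (hBD : B ≤ D) {x : G} (hx : x ∈ A) (hxB : x ∉ B) (hxD : x ∈ D) :
    A ≤ D := fun a ha => by
  obtain ⟨n, b, hb, rfl⟩ := h.exists_eq hx hxB ha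
  exact mul_mem (Subgroup.pow_mem _ hxD n) (hBD hb)

theorem eq_of_lt {D : Subgroup G} (hBD : B < D) (hDA : D ≤ A) : D = A := by
  obtain ⟨x, hx, hxB⟩ := SetLike.exists_of_lt hBD
  exact le_antisymm hDA (h.le_of_mem hBD.le (hDA hx) hxB hx)

theorem sup_zpowers {x : G} (hx : x ∈ A) (hxB : x ∉ B) : B ⊔ Subgroup.zpowers x = A :=
  le_antisymm (sup_le h.le (Subgroup.zpowers_le.2 hx))
    (h.le_of_mem le_sup_left hx hxB (Subgroup.mem_sup_right (Subgroup.mem_zpowers x)))

theorem comm_mem {a b : G} (ha : a ∈ A) (hb : b ∈ A) : ⁅a, b⁆ ∈ B := by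
  obtain ⟨x, hx, hxB⟩ := h.exists_not_mem
  obtain ⟨m, hm⟩ := h.exists_pow hx hxB ha
  obtain ⟨n, hn⟩ := h.exists_pow hx hxB hb
  rw [comm_mem_iff (h.norm ha) (h.norm hb), hm, hn]
  exact Commute.pow_pow (Commute.refl _) m n

/-- A cyclic extension of a central subgroup is commutative. -/
theorem commute_of_central (hc : ∀ b ∈ B, ∀ a ∈ A, Commute b a) {a a' : G} (ha : a ∈ A) (ha' : a' ∈ A) :
    Commute a a' := by
  obtain ⟨x, hx, hxB⟩ := h.exists_not_mem
  obtain ⟨m, b, hb, rfl⟩ := h.exists_eq hx hxB ha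
  obtain ⟨n, b', hb', rfl⟩ := h.exists_eq hx hxB ha'
  exact (((Commute.refl x).pow_pow m n).mul_right ((hc b' hb' x hx).pow_right m).symm).mul_left
    (hc b hb _ ha')

/-- The trace of a step on a subgroup not inside its bottom. -/
theorem inf {C : Subgroup G} (hCA : C ≤ A) (hCB : ¬ C ≤ B) : Step p (B ⊓ C) C := by
  haveI := h.fin
  obtain ⟨x, hxC, hxB⟩ := SetLike.not_le_iff_exists.1 hCB
  haveI hCf : Finite C := Finite.of_injective _ (Subgroup.inclusion_injective hCA)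
  haveI : Finite ↥(B ⊓ C) := Finite.of_injective _ (Subgroup.inclusion_injective (inf_le_right : B ⊓ C ≤ C))
  have hn : C ≤ Subgroup.normalizer ((B ⊓ C : Subgroup G) : Set G) :=
    le_normalizer_of fun g hg y hy => Subgroup.mem_inf.2
      ⟨conj_mem_of_le h.norm (hCA hg) hy.1, mul_mem (mul_mem hg hy.2) (inv_mem hg)⟩
  have hxp : x ^ p ∈ B ⊓ C := Subgroup.mem_inf.2 ⟨h.pow_mem (hCA hxC), Subgroup.pow_mem _ hxC p⟩
  obtain ⟨hfin, hle⟩ := card_sup_zpowers_le hp.out.pos (hn hxC) hxp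
  have heq : (B ⊓ C) ⊔ Subgroup.zpowers x = C := by
    refine le_antisymm (sup_le inf_le_right (Subgroup.zpowers_le.2 hxC)) fun c hc => ?_
    obtain ⟨n, b, hb, rfl⟩ := h.exists_eq (hCA hxC) hxB (hCA hc)
    have hbC : b ∈ C := by
      have := mul_mem (inv_mem (Subgroup.pow_mem _ hxC n)) hc
      rwa [inv_mul_cancel_left] at this
    exact mul_mem (Subgroup.mem_sup_right (Subgroup.pow_mem _ (Subgroup.mem_zpowers x) n))
      (Subgroup.mem_sup_left (Subgroup.mem_inf.2 ⟨hb, hbC⟩))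
  rw [heq] at hle
  refine ⟨inf_le_right, hn, le_antisymm hle ?_, hCf⟩
  obtain ⟨k, hk⟩ := Subgroup.card_dvd_of_le (inf_le_right : B ⊓ C ≤ C)
  have hd : p ∣ k := by
    have e := (((B ⊓ C).subgroupOf C)).card_mul_index
    rw [Nat.card_congr (Subgroup.subgroupOfEquivOfLe (inf_le_right : B ⊓ C ≤ C)).toEquiv, hk] at e
    rw [← Nat.eq_of_mul_eq_mul_left Nat.card_pos e]
    haveI : ((B ⊓ C).subgroupOf C).Normal :=
      (Subgroup.normal_subgroupOf_iff_le_normalizer inf_le_right).2 hn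
    have h1 : ((⟨x, hxC⟩ : C) : C ⧸ (B ⊓ C).subgroupOf C) ≠ 1 := fun e =>
      hxB (Subgroup.mem_inf.1 (Subgroup.mem_subgroupOf.1 ((QuotientGroup.eq_one_iff _).1 e))).1
    have h2 : ((⟨x, hxC⟩ : C) : C ⧸ (B ⊓ C).subgroupOf C) ^ p = 1 := by
      rw [← QuotientGroup.mk_pow, QuotientGroup.eq_one_iff, Subgroup.mem_subgroupOf]
      exact hxp
    rw [Subgroup.index_eq_card, ← orderOf_eq_prime h2 h1]
    exact orderOf_dvd_natCard _
  rw [hk, mul_comm p]
  refine Nat.mul_le_mul_left _ (Nat.le_of_dvd (Nat.pos_of_ne_zero fun e => ?_) hd)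
  rw [e, mul_zero] at hk
  exact Nat.card_pos.ne' hk

/-- An element of `p`-power order normalising both ends of a step acts trivially on it. -/
theorem conj_trivial {g : G} {n : ℕ} (hg : g ^ p ^ n = 1) (hgA : g ∈ Subgroup.normalizer (A : Set G))
    (hgB : g ∈ Subgroup.normalizer (B : Set G)) {a : G} (ha : a ∈ A) : ⁅a, g⁆ ∈ B := by
  rw [comm_mem_iff (h.norm ha) hgB]
  obtain ⟨x, hx, hxB⟩ := h.exists_not_mem
  set α := cls B g
  set ξ := cls B x
  have hgx : g * x * g⁻¹ ∈ A := ((Subgroup.mem_normalizer_iff.1 hgA) x).1 hx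
  obtain ⟨k, hk⟩ := h.exists_pow hx hxB hgx
  rw [cls_mul (mul_mem hgB (h.norm hx)) (inv_mem hgB), cls_mul hgB (h.norm hx), cls_inv hgB] at hk
  have hiter : ∀ m : ℕ, α ^ m * ξ * (α ^ m)⁻¹ = ξ ^ k ^ m := by
    intro m
    induction m with
    | zero => simp
    | succ m ih =>
      calc α ^ (m + 1) * ξ * (α ^ (m + 1))⁻¹ = α ^ m * (α * ξ * α⁻¹) * (α ^ m)⁻¹ := by
            rw [pow_succ]; group
        _ = (α ^ m * ξ * (α ^ m)⁻¹) ^ k := by rw [hk, conj_pow]
        _ = ξ ^ k ^ (m + 1) := by rw [ih, ← pow_mul, ← pow_succ]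
  have h1 := hiter (p ^ n)
  rw [← cls_pow hgB, hg, cls_one, inv_one, one_mul, mul_one] at h1
  have hord : orderOf ξ = p := orderOf_eq_prime (h.cls_pow_p hx) (h.cls_ne_one hx hxB)
  have h2 : k % p = 1 % p := by
    have h3 : ξ ^ 1 = ξ ^ k ^ p ^ n := by rw [pow_one]; exact h1
    rw [pow_eq_pow_iff_modEq, hord] at h3
    have h4 : (1 : ZMod p) = (k : ZMod p) ^ p ^ n := by
      have := (ZMod.natCast_eq_natCast_iff 1 (k ^ p ^ n) p).2 h3
      simpa using this
    rw [ZMod.pow_card_pow] at h4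
    exact (ZMod.natCast_eq_natCast_iff k 1 p).1 (by rw [Nat.cast_one]; exact h4.symm)
  have hkey : α * ξ * α⁻¹ = ξ := by
    rw [hk]
    conv_rhs => rw [← pow_one ξ]
    rw [pow_eq_pow_iff_modEq, hord]
    exact h2
  obtain ⟨m, hm⟩ := h.exists_pow hx hxB ha
  rw [hm]
  exact (show Commute α ξ from mul_inv_eq_iff_eq_mul.1 hkey).symm.pow_left m

end Step

/-- A step from orders. -/
theorem step_of_lt [hp : Fact p.Prime] {B A : Subgroup G} [Finite A] (hBA : B < A)
    (hn : A ≤ Subgroup.normalizer (B : Set G)) (hc : Nat.card A ≤ p * Nat.card B) (hA : IsPGroup p A) :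
    Step p B A := by
  refine ⟨hBA.le, hn, le_antisymm hc ?_, inferInstance⟩
  haveI : Finite B := Finite.of_injective _ (Subgroup.inclusion_injective hBA.le)
  obtain ⟨a, ha⟩ := IsPGroup.iff_card.1 hA
  obtain ⟨b, hb⟩ := IsPGroup.iff_card.1 (hA.to_le hBA.le)
  have hlt : Nat.card B < Nat.card A := lt_of_le_of_ne (Subgroup.card_le_of_le hBA.le)
    fun e => hBA.ne (Subgroup.eq_of_le_of_card_ge hBA.le e.ge)
  rw [ha, hb] at hlt ⊢
  rw [← pow_succ']
  exact Nat.pow_le_pow_right hp.out.pos ((Nat.pow_lt_pow_iff_right hp.out.one_lt).1 hlt)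

/-- A normalised step above `B` inside `A`. -/
theorem exists_step_between [hp : Fact p.Prime] {K B A : Subgroup G} [Finite K] (hK : IsPGroup p K)
    (hAK : A ≤ K) (hBA : B < A) (hB : K ≤ Subgroup.normalizer (B : Set G))
    (hA : K ≤ Subgroup.normalizer (A : Set G)) :
    ∃ C : Subgroup G, Step p B C ∧ C ≤ A ∧ K ≤ Subgroup.normalizer (C : Set G) := by
  haveI : (B.subgroupOf K).Normal := (Subgroup.normal_subgroupOf_iff_le_normalizer (hBA.le.trans hAK)).2 hB
  haveI : (A.subgroupOf K).Normal := (Subgroup.normal_subgroupOf_iff_le_normalizer hAK).2 hA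
  let π := QuotientGroup.mk' (B.subgroupOf K)
  haveI : ((A.subgroupOf K).map π).Normal :=
    Subgroup.Normal.map inferInstance π (QuotientGroup.mk'_surjective _)
  obtain ⟨x, hxA, hxB⟩ := SetLike.exists_of_lt hBA
  have hne : (A.subgroupOf K).map π ≠ ⊥ := fun e => hxB (Subgroup.mem_subgroupOf.1
    ((QuotientGroup.eq_one_iff (⟨x, hAK hxA⟩ : K)).1 (Subgroup.mem_bot.1
      (e ▸ ⟨⟨x, hAK hxA⟩, Subgroup.mem_subgroupOf.2 hxA, rfl⟩))))
  obtain ⟨Z, hZA, -, hZn, hZc⟩ := PGroups.exists_central_card_prime (hK.to_quotient _) _ hne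
  set C' := Z.comap π
  haveI : C'.Normal := hZn.comap π
  have hBC : B.subgroupOf K ≤ C' := fun y hy => by
    show π y ∈ Z
    rw [show π y = 1 from (QuotientGroup.eq_one_iff y).2 hy]; exact one_mem _
  have hC : ∀ y, y ∈ C'.map K.subtype → ∃ hy : y ∈ K, (⟨y, hy⟩ : K) ∈ C' := by
    rintro _ ⟨y, hy, rfl⟩; exact ⟨y.2, hy⟩
  haveI : Finite ↥(C'.map K.subtype) :=
    Finite.of_injective _ (Subgroup.inclusion_injective (Subgroup.map_subtype_le C'))
  refine ⟨C'.map K.subtype, ⟨fun b hb => ?_, (Subgroup.map_subtype_le C').trans hB, ?_, inferInstance⟩,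
    ?_, ?_⟩
  · exact ⟨⟨b, hAK (hBA.le hb)⟩, hBC (Subgroup.mem_subgroupOf.2 hb), rfl⟩
  · have h1 : Nat.card C' = Nat.card Z * Nat.card (B.subgroupOf K) := by
      have e := ((π.subgroupComap Z)).ker.card_mul_index
      rw [Subgroup.index_ker, MonoidHom.range_eq_top.2
        (π.subgroupComap_surjective_of_surjective Z (QuotientGroup.mk'_surjective _)),
        Subgroup.card_top] at e
      rw [← e, mul_comm]
      congr 1
      refine Nat.card_congr ⟨fun y => ⟨y.1.1, ?_⟩, fun y => ⟨⟨y.1, hBC y.2⟩, ?_⟩, fun y => rfl, fun y => rfl⟩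
      · exact (QuotientGroup.eq_one_iff _).1 (congrArg Subtype.val (MonoidHom.mem_ker.1 y.2))
      · exact MonoidHom.mem_ker.2 (Subtype.ext ((QuotientGroup.eq_one_iff _).2 y.2))
    rw [Subgroup.card_map_of_injective K.subtype_injective, h1, hZc,
      Nat.card_congr (Subgroup.subgroupOfEquivOfLe (hBA.le.trans hAK)).toEquiv]
  · intro y hy
    obtain ⟨hyK, hy'⟩ := hC y hy
    obtain ⟨a, ha, hae⟩ := hZA hy'
    have := (QuotientGroup.eq).1 hae
    have h2 := A.mul_mem (Subgroup.mem_subgroupOf.1 ha) (hBA.le (Subgroup.mem_subgroupOf.1 this))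
    simpa using h2
  · refine le_normalizer_of fun g hg y hy => ?_
    obtain ⟨hyK, hy'⟩ := hC y hy
    exact ⟨⟨g, hg⟩ * ⟨y, hyK⟩ * ⟨g, hg⟩⁻¹, Subgroup.Normal.conj_mem inferInstance _ hy' _, rfl⟩

end Cfsg.Agent.Lib.FS.OrderFive
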