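import Cfsg.Agent.Lib.FusionSystem.OrderFive.CaseTwo
import Cfsg.Agent.Lib.FusionSystem.OrderFive.CaseThree
import Cfsg.Agent.Lib.FusionSystem.NormalFacts

/-!
# Saturated systems on groups of order `p ^ 5`

For odd `p ≠ 7`, a saturated system with trivial core and hyperfocal subgroup `S` of order `p ^ 5` forces an
abelian subgroup of index `p`.
-/

set_option autoImplicit false
set_option linter.style.haveILetI false
set_option linter.unusedSectionVars false

namespace Cfsg.Agent.Lib.FS.OrderFive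

open Cfsg Cfsg.FusionSystem Cfsg.Agent.Lib Cfsg.Agent.Lib.FS
open scoped commutatorElement

universe u

theorem exists_weight {p : ℕ} [hp : Fact p.Prime] (h2 : p ≠ 2) (h7 : p ≠ 7) : ∃ a : ZMod p, Weight p a := by
  by_cases h3 : p = 3
  · subst h3
    have hne : (-1 : ZMod 3) ≠ 1 := fun e => by
      have h2' : ((2 : ℕ) : ZMod 3) = 0 := by push_cast; linear_combination (-1 : ZMod 3) * e
      rw [ZMod.natCast_eq_zero_iff] at h2'
      omega
    exact ⟨-1, neg_ne_zero.2 one_ne_zero, fun _ => rfl, by rwa [(show Odd 3 by decide).neg_one_pow],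
      by rwa [(show Odd 5 by decide).neg_one_pow], fun _ => rfl, fun _ => rfl⟩
  · obtain ⟨g, hg⟩ := IsCyclic.exists_generator (α := (ZMod p)ˣ)
    have hord : orderOf g = p - 1 := by
      rw [orderOf_eq_card_of_forall_mem_zpowers hg, Nat.card_eq_fintype_card, ZMod.card_units]
    have h5 : 5 ≤ p := by
      have := hp.out.two_le
      have h4 : p ≠ 4 := fun e => by have := hp.out; rw [e] at this; norm_num at this
      omega
    have key : ∀ n : ℕ, (g : ZMod p) ^ n = 1 → (p - 1) ∣ n := fun n hn =>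
      hord ▸ orderOf_dvd_of_pow_eq_one (Units.ext (by simpa using hn))
    refine ⟨g, g.ne_zero, fun e => ?_, fun e => ?_, fun e => ?_, fun e => ?_, fun e => absurd e h3⟩
    · have := Nat.le_of_dvd (by norm_num) (key 2 e); omega
    · have := Nat.le_of_dvd (by norm_num) (key 3 e); omega
    · have h := key 5 e
      have := Nat.le_of_dvd (by norm_num) h
      have : p = 5 ∨ p = 6 := by omega
      rcases this with rfl | rfl <;> first | omega | (have := hp.out; norm_num at this)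
    · have h := key 6 e
      have := Nat.le_of_dvd (by norm_num) h
      have : p = 5 ∨ p = 6 ∨ p = 7 := by omega
      rcases this with rfl | rfl | rfl <;> omega

variable {Ω : Type u} [Group Ω] {S : Subgroup Ω} {p : ℕ} {F : FusionSystem S} [hp : Fact p.Prime] [Finite S]

/-- The analysis of one essential subgroup. -/
theorem case_essential (c : Ctx F p) {a : ZMod p} (w : Weight p a) {E : Subgroup Ω} (hess : F.IsEssential p E) :
    p = 3 ∧ Fixed S p ∧ Good F p E := by
  have hES := hess.2.1.1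
  haveI := finite_sub hES
  obtain ⟨k, hk⟩ := IsPGroup.iff_card.1 (isPGroup_of_le c.hS hES)
  obtain ⟨M, -, -, -, hne⟩ := FusionEssential.exists_data c.hS c.hF hess
  have hk5 : k < 5 := by
    have hlt : Nat.card E < Nat.card S := lt_of_le_of_ne (Subgroup.card_le_of_le hES)
      fun e => hne (Subgroup.eq_of_le_of_card_ge hES e.ge)
    rw [hk, c.card] at hlt
    exact (Nat.pow_lt_pow_iff_right hp.out.one_lt).1 hlt
  have hk2 := two_le_card c hess hk
  interval_cases k
  · exact case_two c w hess hk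
  · exact case_three c w hess hk
  · exact case_four c w hess hk

/-- An additive function preserved on `Aut_F(S)` and good on all essential subgroups is preserved by all maps. -/
theorem pres_all (hS : IsPGroup p S) (hF : F.IsSaturated p) {χ : Ω → ZMod p} (hχ : Chr S χ)
    (hbase : ∀ t, FAut F S t → Pres χ S t) (hgood : ∀ E, F.IsEssential p E → Good F p E) :
    ∀ (P : Subgroup Ω) (φ : P →* Ω), φ ∈ F.Hom P → ∀ x : P, χ (φ x) = χ x := by
  refine FusionP3.Induction.hom_induction hS hF (M := fun P φ => ∀ x : P, χ (φ x) = χ x) ?_ ?_ ?_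
  · intro P Q φ ψ χ' _ _ h he h1 h2 x
    rw [he, h2, h1]
  · intro P Q φ ψ h _ he h1 x
    rw [he, h1]
  intro P hPn _ _ α hα big
  have happ : ∀ x : P, P.subtype.comp α.toMonoidHom x = fn α x := fun x => (fn_apply α x).symm
  rcases eq_or_lt_of_le hPn.1 with hPS | hPS
  · subst hPS
    intro x
    rw [happ]
    exact hbase _ (faut_fn hα) x x.2
  haveI := finite_sub hPn.1
  have hbig : ∀ (R : Subgroup Ω) (t : Ω → Ω), Nat.card P < Nat.card R → FAut F R t → Pres χ R t := by
    intro R t hR ht x hx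
    by_cases hRS : R ≤ S
    · obtain ⟨φ, hφ, -, he⟩ := ht.exists_hom hRS
      have := big R hR φ hφ ⟨x, hx⟩
      rwa [he] at this
    · obtain ⟨β, hβ, he⟩ := ht
      rw [autGroup_eq_bot hRS, Subgroup.mem_bot] at hβ
      subst hβ
      rw [he ⟨x, hx⟩]
      rfl
  rcases extendable_closure hS hF hPS hPn with ⟨-, hH⟩ | ⟨he, -⟩
  swap
  · intro x
    rw [happ]
    exact hgood P he χ hχ hbig _ (faut_fn hα) x x.2
  have hbase' : ∀ β ∈ extendable F P, ∀ x : P, χ ((β x : P) : Ω) = χ x := by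
    rintro β ⟨Q, hPQ, φ, hφ, he⟩ x
    haveI := finite_sub (src_le hφ)
    rw [← he x]
    exact big Q (lt_of_not_ge fun h => hPQ.ne (Subgroup.eq_of_le_of_card_ge hPQ.le h)) φ hφ
      (Subgroup.inclusion hPQ.le x)
  let H : Subgroup (MulAut P) :=
    { carrier := {β | ∀ x : P, χ ((β x : P) : Ω) = χ x}
      one_mem' := fun _ => rfl
      mul_mem' := fun {β γ} hβ hγ x => (hβ (γ x)).trans (hγ x)
      inv_mem' := fun {β} hβ x => by
        have := hβ (β⁻¹ x)
        rw [MulAut.apply_inv_self] at this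
        exact this.symm }
  rw [← hH] at hα
  exact fun x => (Subgroup.closure_le H).2 hbase' hα x

/-- A fixed element gives an additive function preserved by `Aut_F(S)` and not vanishing there. -/
theorem exists_chr (hS : IsPGroup p S) (hF : F.IsSaturated p) (hfix : Fixed S p) :
    ∃ χ : Ω → ZMod p, Chr S χ ∧ (∀ t, FAut F S t → Pres χ S t) ∧ ∃ l ∈ S, χ l ≠ 0 := by
  classical
  obtain ⟨K₀, l, sK, hl, hlK, hfix⟩ := hfix
  have hord : orderOf (cls K₀ l) = p := orderOf_eq_prime (sK.cls_pow_p hl) (sK.cls_ne_one hl hlK)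
  let χ₀ : Ω → ZMod p := fun x => if hx : x ∈ S then ((sK.exists_pow hl hlK hx).choose : ZMod p) else 0
  have hχ₀ : ∀ x ∈ S, ∀ n : ℕ, cls K₀ x = cls K₀ l ^ n → χ₀ x = n := by
    intro x hx n hn
    simp only [χ₀, dif_pos hx]
    have h1 := hn.symm.trans (sK.exists_pow hl hlK hx).choose_spec
    rw [pow_eq_pow_iff_modEq, hord] at h1
    exact ((ZMod.natCast_eq_natCast_iff _ _ _).2 h1).symm
  have hmul₀ : Chr S χ₀ := fun x hx y hy => by
    obtain ⟨i, hi⟩ := sK.exists_pow hl hlK hx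
    obtain ⟨j, hj⟩ := sK.exists_pow hl hlK hy
    rw [hχ₀ x hx i hi, hχ₀ y hy j hj, hχ₀ _ (S.mul_mem hx hy) (i + j)
      (by rw [cls_mul (sK.norm hx) (sK.norm hy), hi, hj, pow_add]), Nat.cast_add]
  set A := F.autGroup S with hA
  set I := (Inn S).subgroupOf A with hI
  haveI : I.Normal := by
    refine ⟨fun n hn g => ?_⟩
    obtain ⟨q, hq⟩ := Subgroup.mem_subgroupOf.mp hn
    refine Subgroup.mem_subgroupOf.mpr ⟨g.1 q, ?_⟩
    rw [Subgroup.coe_mul, Subgroup.coe_mul, Subgroup.coe_inv, ← hq]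
    exact MulEquiv.ext fun x => by simp [MulAut.mul_apply, MulAut.conj_apply]
  haveI : Fintype (A ⧸ I) := Fintype.ofFinite _
  let χ : Ω → ZMod p := fun x =>
    if hx : x ∈ S then ∑ q : A ⧸ I, χ₀ ((((q.out : A) : MulAut S) ⟨x, hx⟩ : S) : Ω) else 0
  have hχdef : ∀ (x : Ω) (hx : x ∈ S), χ x = ∑ q : A ⧸ I, χ₀ ((((q.out : A) : MulAut S) ⟨x, hx⟩ : S) : Ω) :=
    fun x hx => dif_pos hx
  refine ⟨χ, fun x hx y hy => ?_, fun t ht x hx => ?_, l, hl, ?_⟩
  · rw [hχdef _ (S.mul_mem hx hy), hχdef _ hx, hχdef _ hy, ← Finset.sum_add_distrib]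
    refine Finset.sum_congr rfl fun q _ => ?_
    rw [show (⟨x * y, S.mul_mem hx hy⟩ : S) = ⟨x, hx⟩ * ⟨y, hy⟩ from rfl, map_mul, Subgroup.coe_mul,
      hmul₀ _ (SetLike.coe_mem _) _ (SetLike.coe_mem _)]
  · obtain ⟨β, hβ, he⟩ := ht
    set B : A := ⟨β, hβ⟩
    rw [he ⟨x, hx⟩, hχdef _ (SetLike.coe_mem _), hχdef _ hx]
    refine Fintype.sum_equiv (Equiv.mulRight (B : A ⧸ I)) _ _ fun q => ?_
    have hmem : ((q * (B : A ⧸ I)).out)⁻¹ * (q.out * B) ∈ I := by
      rw [← QuotientGroup.eq, QuotientGroup.out_eq', QuotientGroup.mk_mul, QuotientGroup.out_eq']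
    obtain ⟨g, hg⟩ := Subgroup.mem_subgroupOf.1 hmem
    show χ₀ ((((q.out * B : A) : MulAut S) ⟨x, hx⟩ : S) : Ω) =
      χ₀ ((((q * (B : A ⧸ I)).out : A) : MulAut S) ⟨x, hx⟩ : S)
    set r : A := (q * (B : A ⧸ I)).out with hr
    rw [show q.out * B = r * (r⁻¹ * (q.out * B)) by rw [mul_inv_cancel_left], Subgroup.coe_mul, ← hg,
      MulAut.mul_apply, MulAut.conj_apply, map_mul, map_mul, map_inv, Subgroup.coe_mul, Subgroup.coe_mul,
      Subgroup.coe_inv, hmul₀.conj (SetLike.coe_mem _) (SetLike.coe_mem _)]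
  · have hone : ∀ q : A ⧸ I, χ₀ ((((q.out : A) : MulAut S) ⟨l, hl⟩ : S) : Ω) = 1 := fun q => by
      have h1 := hfix _ (faut_fn (F := F) (q.out : A).2).isAut
      rw [show fn ((q.out : A) : MulAut S) l = _ from fn_apply _ ⟨l, hl⟩] at h1
      rw [hχ₀ _ (SetLike.coe_mem _) 1 (by
        rw [pow_one]; exact ((cls_eq_cls (sK.norm hl) (sK.norm (SetLike.coe_mem _))).2 h1).symm), Nat.cast_one]
    rw [hχdef _ hl, Finset.sum_congr rfl fun q _ => hone q, Finset.sum_const, Finset.card_univ, nsmul_one,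
      Ne, ZMod.natCast_eq_zero_iff, ← Nat.card_eq_fintype_card, ← Subgroup.index_eq_card]
    obtain ⟨-, R, hR⟩ := isFullyAutomized_base hS hF
    have hinn : autInducedBy S S = Inn S := by
      refine le_antisymm (fun β hβ => ?_) (inn_le_autInducedBy le_rfl)
      obtain ⟨g, hg, he⟩ := mem_autInducedBy.1 hβ
      exact ⟨⟨g, hg⟩, MulEquiv.ext fun y => Subtype.ext (he y).symm⟩
    rw [hI, ← hinn, ← hR]
    exact R.not_dvd_index

/-- The main theorem. -/
theorem exists_abelian (hS : IsPGroup p S) (hF : F.IsSaturated p) (hp2 : p ≠ 2) (hp7 : p ≠ 7)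
    (hcard : Nat.card S = p ^ 5) (hcore : F.core = ⊥) (hhyp : F.hyperfocalSubgroup p = S) :
    ∃ A : Subgroup Ω, A ≤ S ∧ IsMulCommutative ↥A ∧ (A.subgroupOf S).index = p := by
  by_contra hno
  obtain ⟨a, w⟩ := exists_weight hp2 hp7
  have c : Ctx F p := ⟨hS, hF, hcard, fun A hA hAc hab => hno ⟨A, hA,
    ⟨⟨fun x y => Subtype.ext (hab x x.2 y y.2).eq⟩⟩, by
      have h := (A.subgroupOf S).card_mul_index
      rw [Nat.card_congr (Subgroup.subgroupOfEquivOfLe hA).toEquiv, hAc, hcard] at h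
      exact Nat.eq_of_mul_eq_mul_left (pow_pos hp.out.pos 4) (by rw [h]; ring)⟩⟩
  obtain ⟨E, hess⟩ : ∃ E, F.IsEssential p E := by
    by_contra hcon
    push Not at hcon
    have hle := le_core_of_isNormal (FusionEssential.PClosed.isNormal_base hS hF hcon)
    rw [hcore, le_bot_iff] at hle
    rw [hle, Subgroup.card_bot] at hcard
    exact absurd hcard (Nat.one_lt_pow (by norm_num) hp.out.one_lt).ne
  obtain ⟨χ, hχ, hbase, l, hl, hl0⟩ := exists_chr hS hF (case_essential c w hess).2.1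
  have hall := pres_all hS hF hχ hbase fun E hE => (case_essential c w hE).2.2
  refine hl0 ?_
  suffices hle : F.hyperfocalSubgroup p ≤ hχ.kerMap le_rfl (isAut_id S) by
    exact (hle (show l ∈ F.hyperfocalSubgroup p by rw [hhyp]; exact hl)).2
  refine (Subgroup.closure_le _).2 ?_
  rintro _ ⟨P, α, x, hP, -, rfl⟩
  obtain ⟨φ, hφ, -, he⟩ := exists_hom_of_aut hP α.2
  have h1 := hall P φ hφ x
  rw [he] at h1
  refine ⟨S.mul_mem (S.inv_mem (hP x.2)) (hP ((α : MulAut P) x).2), ?_⟩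
  show χ ((x : Ω)⁻¹ * (((α : MulAut P) x : P) : Ω)) = 0
  rw [hχ _ (S.inv_mem (hP x.2)) _ (hP ((α : MulAut P) x).2), hχ.inv (hP x.2), h1, neg_add_cancel]

end Cfsg.Agent.Lib.FS.OrderFive
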