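import Cfsg.Agent.Lib.FusionSystem.OrderFive.Four
import Cfsg.Agent.Lib.FusionSystem.OrderFive.Climb

/-!
# A moved line: two transvections
-/

set_option autoImplicit false
set_option linter.style.haveILetI false
set_option linter.unusedSectionVars false

namespace Cfsg.Agent.Lib.FS.OrderFive

open Cfsg Cfsg.FusionSystem Cfsg.Agent.Lib Cfsg.Agent.Lib.FS
open scoped commutatorElement

section image

variable {G : Type*} [Group G] {p : ℕ} {R : Subgroup G} {t t' : G → G}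

/-- The image of `A ≤ R`. -/
def IsAut.image (h : IsAut R t) (A : Subgroup G) : Subgroup G :=
  ((A.subgroupOf R).map h.toHom).map R.subtype

theorem IsAut.mem_image (h : IsAut R t) {A : Subgroup G} (hA : A ≤ R) {y : G} :
    y ∈ h.image A ↔ ∃ x ∈ A, t x = y := by
  constructor
  · rintro ⟨_, ⟨⟨x, hx⟩, hxA, rfl⟩, rfl⟩
    exact ⟨x, Subgroup.mem_subgroupOf.1 hxA, rfl⟩
  · rintro ⟨x, hx, rfl⟩
    exact ⟨_, ⟨⟨x, hA hx⟩, Subgroup.mem_subgroupOf.2 hx, rfl⟩, rfl⟩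

theorem IsAut.apply_mem_image (h : IsAut R t) {A : Subgroup G} (hA : A ≤ R) {x : G} (hx : x ∈ A) :
    t x ∈ h.image A :=
  (h.mem_image hA).2 ⟨x, hx, rfl⟩

theorem IsAut.image_le (h : IsAut R t) (A : Subgroup G) : h.image A ≤ R := Subgroup.map_subtype_le _

theorem IsAut.image_mono (h : IsAut R t) {A B : Subgroup G} (hBA : B ≤ A) : h.image B ≤ h.image A :=
  Subgroup.map_mono (Subgroup.map_mono fun _ hx => hBA hx)

theorem IsAut.toHom_injective (h : IsAut R t) : Function.Injective h.toHom := fun a b e =>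
  Subtype.ext (h.inj _ a.2 _ b.2 (congrArg Subtype.val e))

theorem IsAut.card_image (h : IsAut R t) {A : Subgroup G} (hA : A ≤ R) :
    Nat.card (h.image A) = Nat.card A := by
  rw [IsAut.image, Subgroup.card_map_of_injective R.subtype_injective,
    Subgroup.card_map_of_injective h.toHom_injective,
    Nat.card_congr (Subgroup.subgroupOfEquivOfLe hA).toEquiv]

theorem IsAut.image_eq_self [Finite R] (h : IsAut R t) {A : Subgroup G} (hA : A ≤ R)
    (hi : ∀ x ∈ A, t x ∈ A) : h.image A = A := by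
  haveI : Finite A := Finite.of_injective _ (Subgroup.inclusion_injective hA)
  exact Subgroup.eq_of_le_of_card_ge (fun y hy => by
    obtain ⟨x, hx, rfl⟩ := (h.mem_image hA).1 hy; exact hi x hx) (h.card_image hA).ge

theorem IsAut.step_image [Finite R] (h : IsAut R t) {A B : Subgroup G} (hA : A ≤ R) (hs : Step p B A) :
    Step p (h.image B) (h.image A) := by
  refine ⟨h.image_mono hs.le, le_normalizer_of fun g hg x hx => ?_, ?_,
    Finite.of_injective _ (Subgroup.inclusion_injective (h.image_le A))⟩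
  · obtain ⟨a, ha, rfl⟩ := (h.mem_image hA).1 hg
    obtain ⟨b, hb, rfl⟩ := (h.mem_image (hs.le.trans hA)).1 hx
    have haR := hA ha
    have hbR := hA (hs.le hb)
    rw [← h.inv haR, ← h.mul _ haR _ hbR, ← h.mul _ (mul_mem haR hbR) _ (inv_mem haR)]
    exact h.apply_mem_image (hs.le.trans hA) (conj_mem_of_le hs.norm ha hb)
  · rw [h.card_image hA, h.card_image (hs.le.trans hA), hs.card]

/-- A conjugate of a layer condition. -/
theorem IsAut.conj_layer (h : IsAut R t) (h' : IsAut R t') {u : G → G} (hu : IsAut R u)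
    (hr : ∀ x ∈ R, t' (t x) = x) {A B : Subgroup G} (hA : A ≤ R) (hB : B ≤ R)
    (hl : ∀ x ∈ A, x⁻¹ * u x ∈ B) : ∀ y ∈ h.image A, y⁻¹ * (t ∘ u ∘ t') y ∈ h.image B := by
  intro y hy
  obtain ⟨x, hx, rfl⟩ := (h.mem_image hA).1 hy
  simp only [Function.comp_apply]
  rw [hr x (hA hx), ← h.inv (hA hx), ← h.mul _ (inv_mem (hA hx)) _ (hu.mem x (hA hx))]
  exact h.apply_mem_image hB (hl x hx)

theorem IsAut.image_top [Finite R] (h : IsAut R t) : h.image R = R := h.image_eq_self le_rfl h.mem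

end image

variable {Ω : Type*} [Group Ω] {S : Subgroup Ω} {p : ℕ} {F : FusionSystem S} [hp : Fact p.Prime] [Finite S]
  {a : ZMod p}

theorem Weight.ne_one (w : Weight p a) : a ≠ 1 := fun e => w.three (by rw [e, one_pow])

theorem Weight.inv_ne_one (w : Weight p a) : a⁻¹ ≠ 1 := fun e => w.ne_one (inv_eq_one.1 e)

/-- A line of a centric nonabelian subgroup of order `p ^ 3` is not moved. -/
theorem Cube.false_of_moved {R Z L : Subgroup Ω} (h : Cube p S R Z) (c : Ctx F p) (w : Weight p a)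
    (hc : F.IsCentric R) (sL : Step p Z L) (sR : Step p L R)
    (hn : normalizerIn S R ≤ Subgroup.normalizer (L : Set Ω)) {g : Ω → Ω} (hg : FAut F R g) {x : Ω}
    (hx : x ∈ L) (hgx : g x ∉ L) : False := by
  have hS := c.hS
  haveI := finite_sub h.le
  have hC := hc.2 R (isConj_refl F h.le)
  obtain ⟨g', hg', hl, -⟩ := hg.exists_inv
  have hgA := hg.isAut
  have hg'A := hg'.isAut
  obtain ⟨m, hm, hmR⟩ := (h.step_normalizer hS c.card hC).exists_not_mem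
  obtain ⟨e, he, heL⟩ := sR.exists_not_mem
  have hu := FAut.conj (F := F) h.le hm
  have huA := hu.isAut
  have hZn := h.normalizer_le_Z hS
  have hu1 : ∀ y ∈ R, y⁻¹ * cj m y ∈ L := fun y hy => by
    rw [inv_mul_cj]; exact step_comm hS sR hm.1 hm.2 (hn hm) (inv_mem hy)
  have hu2 : ∀ y ∈ L, y⁻¹ * cj m y ∈ Z := fun y hy => by
    rw [inv_mul_cj]; exact step_comm hS sL hm.1 (hn hm) (hZn hm) (inv_mem hy)
  have hu3 : ∀ y ∈ Z, y⁻¹ * cj m y ∈ (⊥ : Subgroup Ω) := fun y hy => by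
    rw [inv_mul_cj]; exact comm_eq_one (h.comm_Z hS (inv_mem hy) hm)
  have hune : ∃ y ∈ R, y⁻¹ * cj m y ∉ Z := by
    refine ⟨e⁻¹, inv_mem he, fun e' => hmR (h.mem_of_trivial sL sR hS hC hm fun y hy => comm_mem_symm ?_)⟩
    rw [inv_mul_cj, inv_inv] at e'
    refine sR.comm_mem_all ((le_normalizerIn h.le).trans hZn) (hZn hm) (fun b hb => ?_) he heL e' hy
    exact step_comm hS sL hm.1 (hn hm) (hZn hm) hb
  have hLv := hgA.step_image sR.le sL
  have hvR := hgA.step_image le_rfl sR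
  rw [hgA.image_eq_self h.zR fun z hz => h.Z_invariant hS hgA hz] at hLv
  rw [hgA.image_top] at hvR
  have P : Plane p R Z L (hgA.image L) :=
    ⟨sL, sR, hLv, hvR, fun e' => hgx (e'.symm ▸ hgA.apply_mem_image sR.le hx),
      (le_normalizerIn h.le).trans hZn⟩
  have hv := hg.comp (hu.comp hg')
  have hv1 : ∀ y ∈ R, y⁻¹ * (g ∘ cj m ∘ g') y ∈ hgA.image L := fun y hy =>
    hgA.conj_layer hg'A huA hl le_rfl sR.le hu1 y (by rwa [hgA.image_top])
  have hv2 : ∀ y ∈ hgA.image L, y⁻¹ * (g ∘ cj m ∘ g') y ∈ Z := fun y hy => by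
    have := hgA.conj_layer hg'A huA hl sR.le h.zR hu2 y hy
    rwa [hgA.image_eq_self h.zR fun z hz => h.Z_invariant hS hgA hz] at this
  have hvne : ∃ y ∈ R, y⁻¹ * (g ∘ cj m ∘ g') y ∉ Z := by
    obtain ⟨y, hy, hne⟩ := hune
    refine ⟨g y, hgA.mem y hy, fun e' => hne ?_⟩
    have hcy := huA.mem y hy
    simp only [Function.comp_apply] at e'
    rw [hl y hy, ← hgA.inv hy, ← hgA.mul _ (inv_mem hy) _ hcy] at e'
    have := h.Z_invariant hS hg'A e'
    rwa [hl _ (mul_mem (inv_mem hy) hcy)] at this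
  obtain ⟨⟨T, hTw, hTu, hTv⟩, -⟩ := P.exists_torus huA hv.isAut (fun z hz => h.Z_invariant hS huA hz)
    (fun z hz => h.Z_invariant hS hv.isAut hz) hu1 hu2 hune hv1 hv2 hvne (inv_ne_zero w.ne_zero)
  rw [inv_inv] at hTv
  have hT := hTw.faut hu hv
  obtain ⟨y, hy, hyZ⟩ := hLv.exists_not_mem
  have hyR := hgA.image_le L hy
  have hta : Sc T R L a := Sc.of_mem sR hT.isAut le_rfl (fun z hz => hTu.mem sL.le hz) hyR
    (fun e' => hyZ (P.mem_bot e' hy)) (sL.le (hTv y hy))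
  have := (h.climb c hc sL sR hn hT w.ne_zero (inv_ne_zero w.ne_zero) hta hTu).1
  refine w.five ?_
  calc a ^ 5 = a * a ^ 4 := by ring
    _ = 1 := by rw [← this, mul_inv_cancel₀ w.ne_zero]

/-- The automorphisms attached to a moved `A`. -/
theorem Four.exists_moved {N A Z N₁ : Subgroup Ω} (h : Four p S N A Z N₁) (c : Ctx F p) (w : Weight p a)
    {d s : Ω} (hd : d ∈ N) (hs : s ∈ S) (hds : ⁅d, s⁆ ∉ Z) {g g' : Ω → Ω} (hg : FAut F N g) (hg' : FAut F N g')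
    (hl : ∀ x ∈ N, g' (g x) = x) {x : Ω} (hx : x ∈ A) (hgx : g x ∉ A) :
    FAut F N (cj s) ∧ FAut F N (g ∘ cj s ∘ g') ∧
      (∃ T, FAut F S T ∧ Sc T N A a⁻¹ ∧ Sc T A Z a ∧ Sc T Z N₁ (1 : ZMod p) ∧
        (∀ y, y ∈ hg.isAut.image A → (y ^ (a⁻¹).val)⁻¹ * T y ∈ Z) ∧
        ∀ W : Subgroup Ω, W ≤ N → (∀ y ∈ W, cj s y ∈ W) → (∀ y ∈ W, (g ∘ cj s ∘ g') y ∈ W) →
          ∀ y ∈ W, T y ∈ W) ∧
      ∃ f, Word (cj s) (g ∘ cj s ∘ g') f ∧ ∀ y ∈ hg.isAut.image A, f y ∈ A := by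
  have hS := c.hS
  haveI := finite_sub h.sN.le
  have hgA := hg.isAut
  have hg'A := hg'.isAut
  have hu : FAut F N (cj s) := FAut.conj h.sN.le ⟨hs, h.sN.norm hs⟩
  have hv := hg.comp (hu.comp hg')
  have huA := hu.isAut
  have hu1 : ∀ y ∈ N, y⁻¹ * cj s y ∈ A := fun y hy => by
    rw [inv_mul_cj]; exact step_comm hS h.sA hs (h.sN.norm hs) (h.nA hs) (inv_mem hy)
  have hu2 : ∀ y ∈ A, y⁻¹ * cj s y ∈ Z := fun y hy => by
    rw [inv_mul_cj]; exact h.comm_A hS (inv_mem hy) hs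
  have hu3 : ∀ y ∈ Z, y⁻¹ * cj s y ∈ N₁ := fun y hy => by
    rw [inv_mul_cj]; exact h.comm_Z hS (inv_mem hy) hs
  have hune : ∃ y ∈ N, y⁻¹ * cj s y ∉ Z := by
    refine ⟨d⁻¹, inv_mem hd, ?_⟩
    rwa [inv_mul_cj, inv_inv]
  have hZimg := hgA.image_eq_self h.hZN fun z hz => h.Z_invariant hgA hz
  have h1img := hgA.image_eq_self (h.s1.le.trans h.hZN) fun z hz => h.N₁_invariant hgA hz
  have hLv := hgA.step_image h.sA.le h.sZ
  have hvR := hgA.step_image le_rfl h.sA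
  rw [hZimg] at hLv
  rw [hgA.image_top] at hvR
  have P : Plane p N Z A (hgA.image A) :=
    ⟨h.sZ, h.sA, hLv, hvR, fun e' => hgx (e'.symm ▸ hgA.apply_mem_image h.sA.le hx), h.sN.le.trans h.nZ⟩
  have hv1 : ∀ y ∈ N, y⁻¹ * (g ∘ cj s ∘ g') y ∈ hgA.image A := fun y hy =>
    hgA.conj_layer hg'A huA hl le_rfl h.sA.le hu1 y (by rwa [hgA.image_top])
  have hv2 : ∀ y ∈ hgA.image A, y⁻¹ * (g ∘ cj s ∘ g') y ∈ Z := fun y hy => by
    have := hgA.conj_layer hg'A huA hl h.sA.le h.hZN hu2 y hy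
    rwa [hZimg] at this
  have hv3 : ∀ y ∈ Z, y⁻¹ * (g ∘ cj s ∘ g') y ∈ N₁ := fun y hy => by
    have := hgA.conj_layer hg'A huA hl h.hZN (h.s1.le.trans h.hZN) hu3 y (by rwa [hZimg])
    rwa [h1img] at this
  have hvne : ∃ y ∈ N, y⁻¹ * (g ∘ cj s ∘ g') y ∉ Z := by
    obtain ⟨y, hy, hne⟩ := hune
    refine ⟨g y, hgA.mem y hy, fun e' => hne ?_⟩
    have hcy := huA.mem y hy
    simp only [Function.comp_apply] at e'
    rw [hl y hy, ← hgA.inv hy, ← hgA.mul _ (inv_mem hy) _ hcy] at e'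
    have := h.Z_invariant hg'A e'
    rwa [hl _ (mul_mem (inv_mem hy) hcy)] at this
  obtain ⟨⟨T₀, hTw, hTu, hTv⟩, f, hf, hfA⟩ := P.exists_torus huA hv.isAut (fun z hz => h.Z_invariant huA hz)
    (fun z hz => h.Z_invariant hv.isAut hz) hu1 hu2 hune hv1 hv2 hvne w.ne_zero
  have hT₀ := hTw.faut hu hv
  have hT₀i : ∀ y ∈ A, T₀ y ∈ A := fun y hy => hTu.mem h.sZ.le hy
  obtain ⟨T, hT, he⟩ := h.extend c hT₀ hT₀i
  obtain ⟨y, hy, hyZ⟩ := hLv.exists_not_mem
  refine ⟨hu, hv, ⟨T, hT, ?_, hTu.congr fun z hz => he z (h.sA.le hz), ?_, fun z hz => ?_, fun W hW hWu hWv z hz => ?_⟩,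
    f, hf, hfA⟩
  · refine (Sc.of_mem h.sA hT₀.isAut le_rfl hT₀i (hgA.image_le A hy) (fun e' => hyZ (P.mem_bot e' hy))
      (h.sZ.le (hTv y hy))).congr he
  · exact (Sc.of_trivial (hTw.layer h.s1.le hu3 hv3)).congr fun z hz => he z (h.hZN hz)
  · rw [he z (hgA.image_le A hz)]; exact hTv z hz
  · rw [he z (hW hz)]; exact hTw.maps hWu hWv z hz

/-- A moved `A` forces `p = 3` and a fixed element. -/
theorem Four.fixed_of_moved {N A Z N₁ : Subgroup Ω} (h : Four p S N A Z N₁) (c : Ctx F p) (w : Weight p a)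
    {d s : Ω} (hd : d ∈ N) (hdA : d ∉ A) (hs : s ∈ S) (hsN : s ∉ N) (hds : ⁅d, s⁆ ∉ Z) {g : Ω → Ω}
    (hg : FAut F N g) {x : Ω} (hx : x ∈ A) (hgx : g x ∉ A) : p = 3 ∧ Fixed S p := by
  obtain ⟨g', hg', hl, -⟩ := hg.exists_inv
  obtain ⟨-, -, ⟨T, hT, hδ, hη, h1, -⟩, -⟩ := h.exists_moved c w hd hs hds hg hg' hl hx hgx
  have h2 := h.sq_eq_one_and_fixed c hT.isAut hδ hη h1 (inv_ne_zero w.ne_zero) w.inv_ne_one (fun e => w.three ?_)
    hd hdA hs hsN hds
  · have hp3 : p = 3 := w.two (by rw [← inv_inj, ← inv_pow, h2.1, inv_one])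
    exact ⟨hp3, h2.2 hp3⟩
  · calc a ^ 3 = a * (a * a) := by ring
      _ = 1 := by rw [e, mul_inv_cancel₀ w.ne_zero]

end Cfsg.Agent.Lib.FS.OrderFive
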