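import Cfsg.Agent.Lib.FusionSystem.OrderFive.Aut

/-!
# Two transvections on a section of order `p²`

Two automorphisms acting as transvections with different lines on a section of order `p²` generate an
automorphism acting as a prescribed torus element on the two lines, and one exchanging the lines.
-/

set_option autoImplicit false
set_option linter.style.haveILetI false
set_option linter.unusedSectionVars false

namespace Cfsg.Agent.Lib.FS.OrderFive

open Cfsg Cfsg.FusionSystem Cfsg.Agent.Lib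
open scoped commutatorElement

variable {G : Type*} [Group G] {p : ℕ}

/-- The compositions of `u` and `v`. -/
inductive Word (u v : G → G) : (G → G) → Prop
  | one : Word u v id
  | left : Word u v u
  | right : Word u v v
  | comp {f g : G → G} : Word u v f → Word u v g → Word u v (f ∘ g)

namespace Word

variable {u v f : G → G}

theorem iterate (h : Word u v f) : ∀ n : ℕ, Word u v f^[n]
  | 0 => Word.one
  | n + 1 => (iterate h n).comp h

theorem isAut {R : Subgroup G} (h : Word u v f) (hu : IsAut R u) (hv : IsAut R v) : IsAut R f := by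
  induction h with
  | one => exact isAut_id R
  | left => exact hu
  | right => exact hv
  | comp _ _ i₁ i₂ => exact i₁.comp i₂

theorem maps {A : Subgroup G} (h : Word u v f) (hu : ∀ x ∈ A, u x ∈ A) (hv : ∀ x ∈ A, v x ∈ A) :
    ∀ x ∈ A, f x ∈ A := by
  induction h with
  | one => exact fun x hx => hx
  | left => exact hu
  | right => exact hv
  | comp _ _ i₁ i₂ => exact fun x hx => i₁ _ (i₂ x hx)

theorem layer {A B : Subgroup G} (h : Word u v f) (hBA : B ≤ A) (hu : ∀ x ∈ A, x⁻¹ * u x ∈ B)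
    (hv : ∀ x ∈ A, x⁻¹ * v x ∈ B) : ∀ x ∈ A, x⁻¹ * f x ∈ B := by
  induction h with
  | one => exact fun x _ => by simp
  | left => exact hu
  | right => exact hv
  | @comp f g _ _ i₁ i₂ =>
    intro x hx
    have h1 := i₂ x hx
    have hgx : g x ∈ A := by
      have := mul_mem hx (hBA h1)
      rwa [mul_inv_cancel_left] at this
    have := mul_mem h1 (i₁ _ hgx)
    rw [← mul_assoc, mul_assoc x⁻¹, mul_inv_cancel, mul_one] at this
    exact this

end Word

theorem Word.faut {Ω : Type*} [Group Ω] {S R : Subgroup Ω} {F : FusionSystem S} {u v f : Ω → Ω}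
    (h : Word u v f) (hu : FAut F R u) (hv : FAut F R v) : FAut F R f := by
  induction h with
  | one => exact FAut.one R
  | left => exact hu
  | right => exact hv
  | comp _ _ i₁ i₂ => exact i₁.comp i₂

/-- A section `R / Z₀` of order `p²` with two lines. -/
structure Plane (p : ℕ) (R Z₀ Lu Lv : Subgroup G) : Prop where
  sZu : Step p Z₀ Lu
  suR : Step p Lu R
  sZv : Step p Z₀ Lv
  svR : Step p Lv R
  ne : Lu ≠ Lv
  norm : R ≤ Subgroup.normalizer (Z₀ : Set G)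

namespace Plane

variable [hp : Fact p.Prime] {R Z₀ Lu Lv : Subgroup G} (h : Plane p R Z₀ Lu Lv)

include h

theorem mem_bot {x : G} (hu : x ∈ Lu) (hv : x ∈ Lv) : x ∈ Z₀ := by
  by_contra hx
  exact h.ne (le_antisymm (h.sZu.le_of_mem h.sZv.le hu hx hv) (h.sZv.le_of_mem h.sZu.le hv hx hu))

theorem comm_mem {x y : G} (hx : x ∈ R) (hy : y ∈ R) : ⁅x, y⁆ ∈ Z₀ :=
  h.mem_bot (h.suR.comm_mem hx hy) (h.svR.comm_mem hx hy)

theorem commute {x y : G} (hx : x ∈ R) (hy : y ∈ R) : Commute (cls Z₀ x) (cls Z₀ y) :=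
  (comm_mem_iff (h.norm hx) (h.norm hy)).1 (h.comm_mem hx hy)

theorem cls_map {f : G → G} (hf : IsAut R f) {x y : G} (hx : x ∈ R) (hy : y ∈ R) :
    cls Z₀ (f (x * y)) = cls Z₀ (f x) * cls Z₀ (f y) := by
  rw [hf.mul x hx y hy, cls_mul (h.norm (hf.mem x hx)) (h.norm (hf.mem y hy))]

/-- `f` acts by the matrix with columns `(α, β)` and `(γ, δ)` in the basis `c`, `d`. -/
def Act (_h : Plane p R Z₀ Lu Lv) (c d : G) (f : G → G) (α β γ δ : ZMod p) : Prop :=
  cls Z₀ (f c) = cls Z₀ c ^ α.val * cls Z₀ d ^ β.val ∧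
    cls Z₀ (f d) = cls Z₀ c ^ γ.val * cls Z₀ d ^ δ.val

theorem Act.comp {c d : G} (hc : c ∈ Lu) (hd : d ∈ Lv) {f g : G → G} (hf : IsAut R f) (hg : IsAut R g)
    (hfZ : ∀ z ∈ Z₀, f z ∈ Z₀) {α β γ δ α' β' γ' δ' : ZMod p} (h₁ : h.Act c d f α β γ δ)
    (h₂ : h.Act c d g α' β' γ' δ') :
    h.Act c d (f ∘ g) (α * α' + γ * β') (β * α' + δ * β') (α * γ' + γ * δ') (β * γ' + δ * δ') := by
  have hcR := h.suR.le hc
  have hdR := h.svR.le hd
  set C := cls Z₀ c
  set D := cls Z₀ d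
  have hC : C ^ p = 1 := h.sZu.cls_pow_p hc
  have hD : D ^ p = 1 := h.sZv.cls_pow_p hd
  have hCD : Commute C D := h.commute hcR hdR
  have key : ∀ (x : G) (i j : ZMod p), x ∈ R → cls Z₀ x = C ^ i.val * D ^ j.val →
      cls Z₀ (f x) = C ^ (α * i + γ * j).val * D ^ (β * i + δ * j).val := by
    intro x i j hx e
    have hyR : c ^ i.val * d ^ j.val ∈ R := mul_mem (pow_mem hcR _) (pow_mem hdR _)
    have hz : (c ^ i.val * d ^ j.val)⁻¹ * x ∈ Z₀ := by
      rw [← cls_eq_cls (h.norm hyR) (h.norm hx),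
        cls_mul (Subgroup.pow_mem _ (h.norm hcR) _) (Subgroup.pow_mem _ (h.norm hdR) _), cls_pow (h.norm hcR),
        cls_pow (h.norm hdR)]
      exact e.symm
    have hx' : x = c ^ i.val * d ^ j.val * ((c ^ i.val * d ^ j.val)⁻¹ * x) := by group
    rw [hx', h.cls_map hf hyR (h.suR.le (h.sZu.le hz)), h.cls_map hf (pow_mem hcR _) (pow_mem hdR _),
      cls_of_mem (hfZ _ hz), mul_one, hf.pow hcR, hf.pow hdR, cls_pow (h.norm (hf.mem c hcR)),
      cls_pow (h.norm (hf.mem d hdR)), h₁.1, h₁.2, (hCD.pow_pow _ _).mul_pow, (hCD.pow_pow _ _).mul_pow]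
    simp only [← pow_mul]
    rw [mul_assoc, ← mul_assoc (D ^ _) (C ^ _), (hCD.pow_pow _ _).symm.eq, mul_assoc (C ^ _) (D ^ _),
      ← mul_assoc (C ^ _) (C ^ _), ← pow_add, ← pow_add]
    congr 1
    · exact pow_eq_of_cast hC (by push_cast [ZMod.natCast_zmod_val]; ring)
    · exact pow_eq_of_cast hD (by push_cast [ZMod.natCast_zmod_val]; ring)
  exact ⟨key _ _ _ (hg.mem c hcR) h₂.1, key _ _ _ (hg.mem d hdR) h₂.2⟩

omit h in
theorem val_one_pow {M : Type*} [Monoid M] (ξ : M) : ξ ^ (1 : ZMod p).val = ξ := by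
  rw [ZMod.val_one, pow_one]

/-- A torus element and an exchange among the words in two transvections. -/
theorem exists_torus {u v : G → G} (hu : IsAut R u) (hv : IsAut R v)
    (huZ : ∀ z ∈ Z₀, u z ∈ Z₀) (hvZ : ∀ z ∈ Z₀, v z ∈ Z₀)
    (hu1 : ∀ x ∈ R, x⁻¹ * u x ∈ Lu) (hu2 : ∀ x ∈ Lu, x⁻¹ * u x ∈ Z₀) (hune : ∃ x ∈ R, x⁻¹ * u x ∉ Z₀)
    (hv1 : ∀ x ∈ R, x⁻¹ * v x ∈ Lv) (hv2 : ∀ x ∈ Lv, x⁻¹ * v x ∈ Z₀) (hvne : ∃ x ∈ R, x⁻¹ * v x ∉ Z₀)
    {a : ZMod p} (ha : a ≠ 0) :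
    (∃ T, Word u v T ∧ Sc T Lu Z₀ a ∧ Sc T Lv Z₀ a⁻¹) ∧ ∃ w, Word u v w ∧ ∀ x ∈ Lv, w x ∈ Lu := by
  obtain ⟨d, hd, hdZ⟩ := h.sZv.exists_not_mem
  have hdR := h.svR.le hd
  have hdLu : d ∉ Lu := fun e => hdZ (h.mem_bot e hd)
  set c := d⁻¹ * u d with hcdef
  have hc : c ∈ Lu := hu1 d hdR
  have hcR := h.suR.le hc
  -- a transvection fixing both generators modulo `Z₀` is trivial
  have htriv : ∀ {L : Subgroup G} (f : G → G) (e : G), IsAut R f → Step p L R → e ∈ R → e ∉ L →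
      (∀ l ∈ L, l⁻¹ * f l ∈ Z₀) → e⁻¹ * f e ∈ Z₀ → ∀ x ∈ R, x⁻¹ * f x ∈ Z₀ := by
    intro L f e hf hs he heL hL hfe x hx
    obtain ⟨n, l, hl, rfl⟩ := hs.exists_eq he heL hx
    have hlR := hs.le hl
    rw [← cls_eq_cls (h.norm hx) (h.norm (hf.mem _ hx)), h.cls_map hf (pow_mem he n) hlR,
      cls_mul (Subgroup.pow_mem _ (h.norm he) n) (h.norm hlR), hf.pow he, cls_pow (h.norm he),
      cls_pow (h.norm (hf.mem e he)), (cls_eq_cls (h.norm he) (h.norm (hf.mem e he))).2 hfe,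
      (cls_eq_cls (h.norm hlR) (h.norm (hf.mem l hlR))).2 (hL l hl)]
  have hcZ : c ∉ Z₀ := fun e => by
    obtain ⟨x, hx, hxn⟩ := hune
    exact hxn (htriv u d hu h.suR hdR hdLu hu2 e x hx)
  have hcLv : c ∉ Lv := fun e => hcZ (h.mem_bot hc e)
  set C := cls Z₀ c
  set D := cls Z₀ d
  have hC : C ^ p = 1 := h.sZu.cls_pow_p hc
  have hD : D ^ p = 1 := h.sZv.cls_pow_p hd
  -- the matrices of `u` and `v`
  have hu' : h.Act c d u 1 0 1 1 := by
    refine ⟨?_, ?_⟩
    · rw [ZMod.val_zero, pow_zero, mul_one, val_one_pow]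
      exact ((cls_eq_cls (h.norm hcR) (h.norm (hu.mem c hcR))).2 (hu2 c hc)).symm
    · rw [val_one_pow, val_one_pow, show u d = d * c by rw [hcdef]; group,
        cls_mul (h.norm hdR) (h.norm hcR)]
      exact (h.commute hdR hcR).eq
  obtain ⟨n, hn⟩ := h.sZv.exists_pow hd hdZ (hv1 c hcR)
  have hv' : h.Act c d v 1 (n : ZMod p) 0 1 := by
    refine ⟨?_, ?_⟩
    · rw [val_one_pow, show v c = c * (c⁻¹ * v c) by group,
        cls_mul (h.norm hcR) (h.norm (h.svR.le (hv1 c hcR))), hn]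
      congr 1
      exact pow_eq_of_cast hD (by rw [ZMod.natCast_zmod_val])
    · rw [ZMod.val_zero, pow_zero, one_mul, val_one_pow]
      exact ((cls_eq_cls (h.norm hdR) (h.norm (hv.mem d hdR))).2 (hv2 d hd)).symm
  have hn0 : (n : ZMod p) ≠ 0 := fun e => by
    obtain ⟨x, hx, hxn⟩ := hvne
    refine hxn (htriv v c hv h.svR hcR hcLv hv2 ?_ x hx)
    rw [← cls_eq_one (h.norm (h.svR.le (hv1 c hcR))), hn, ← pow_zero D]
    exact pow_eq_of_cast hD (by rw [e, Nat.cast_zero])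
  have hone : h.Act c d id 1 0 0 1 := by
    refine ⟨?_, ?_⟩ <;> simp [ZMod.val_one]
  have hU : ∀ t : ZMod p, h.Act c d u^[t.val] 1 0 t 1 := fun t => by
    have : ∀ k : ℕ, h.Act c d u^[k] 1 0 (k : ZMod p) 1 := by
      intro k
      induction k with
      | zero => simpa using hone
      | succ k ih =>
        have := Act.comp h hc hd ((Word.left (u := u) (v := v)).iterate k |>.isAut hu hv) hu
          ((Word.left (u := u) (v := v)).iterate k |>.maps huZ hvZ) ih hu'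
        rw [show u^[k + 1] = u^[k] ∘ u from Function.iterate_succ u k]
        convert this using 1 <;> first | rfl | (push_cast; ring)
    simpa [ZMod.natCast_zmod_val] using this t.val
  have hV : ∀ s : ZMod p, ∃ k : ℕ, h.Act c d v^[k] 1 s 0 1 := fun s => by
    have : ∀ k : ℕ, h.Act c d v^[k] 1 ((k : ZMod p) * n) 0 1 := by
      intro k
      induction k with
      | zero => simpa using hone
      | succ k ih =>
        have := Act.comp h hc hd ((Word.right (u := u) (v := v)).iterate k |>.isAut hu hv) hv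
          ((Word.right (u := u) (v := v)).iterate k |>.maps huZ hvZ) ih hv'
        rw [show v^[k + 1] = v^[k] ∘ v from Function.iterate_succ v k]
        convert this using 1 <;> first | rfl | (push_cast; ring)
    refine ⟨(s * (n : ZMod p)⁻¹).val, ?_⟩
    have h1 := this (s * (n : ZMod p)⁻¹).val
    rwa [ZMod.natCast_zmod_val, inv_mul_cancel_right₀ hn0] at h1
  have hW : ∀ t : ZMod p, t ≠ 0 → ∃ w, Word u v w ∧ h.Act c d w 0 (-t⁻¹) t 0 := by
    intro t ht
    obtain ⟨k, hk⟩ := hV (-t⁻¹)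
    have hwu : Word u v u^[t.val] := Word.left.iterate _
    have hwv : Word u v v^[k] := Word.right.iterate _
    have h1 := Act.comp h hc hd (hwv.isAut hu hv) (hwu.isAut hu hv) (hwv.maps huZ hvZ) hk (hU t)
    have h2 := Act.comp h hc hd (hwu.isAut hu hv) ((hwv.comp hwu).isAut hu hv) (hwu.maps huZ hvZ) (hU t) h1
    refine ⟨_, hwu.comp (hwv.comp hwu), ?_⟩
    convert h2 using 1 <;> field_simp <;> ring
  have hmemLu : ∀ {x : G}, x ∈ R → ∀ m : ℕ, cls Z₀ x = C ^ m → x ∈ Lu := fun {x} hx m e => by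
    rw [← cls_pow (h.norm hcR)] at e
    have := (cls_eq_cls (Subgroup.pow_mem _ (h.norm hcR) m) (h.norm hx)).1 e.symm
    have := mul_mem (pow_mem hc m) (h.sZu.le this)
    rwa [mul_inv_cancel_left] at this
  refine ⟨?_, ?_⟩
  · obtain ⟨w₁, hw₁, h₁⟩ := hW a ha
    obtain ⟨w₂, hw₂, h₂⟩ := hW (-1) (neg_ne_zero.2 one_ne_zero)
    have hT := Act.comp h hc hd (hw₁.isAut hu hv) (hw₂.isAut hu hv) (hw₁.maps huZ hvZ) h₁ h₂
    have hTw := hw₁.comp hw₂
    have hTA := hTw.isAut hu hv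
    have e1 : cls Z₀ ((w₁ ∘ w₂) c) = C ^ a.val := by
      rw [hT.1, show (-a⁻¹) * 0 + 0 * (-(-1 : ZMod p)⁻¹) = 0 by ring, ZMod.val_zero, pow_zero, mul_one,
        show 0 * 0 + a * (-(-1 : ZMod p)⁻¹) = a by rw [inv_neg, inv_one]; ring]
    have e2 : cls Z₀ ((w₁ ∘ w₂) d) = D ^ (a⁻¹).val := by
      rw [hT.2, show 0 * (-1 : ZMod p) + a * 0 = 0 by ring, ZMod.val_zero, pow_zero, one_mul,
        show (-a⁻¹) * (-1 : ZMod p) + 0 * 0 = a⁻¹ by ring]
    refine ⟨_, hTw, Sc.of_mem h.sZu hTA h.suR.le (hTw.maps huZ hvZ) hc hcZ ?_,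
      Sc.of_mem h.sZv hTA h.svR.le (hTw.maps huZ hvZ) hd hdZ ?_⟩
    · rw [← cls_eq_cls (Subgroup.pow_mem _ (h.norm hcR) _) (h.norm (hTA.mem c hcR)), cls_pow (h.norm hcR),
        e1]
    · rw [← cls_eq_cls (Subgroup.pow_mem _ (h.norm hdR) _) (h.norm (hTA.mem d hdR)), cls_pow (h.norm hdR),
        e2]
  · obtain ⟨w, hw, hW1⟩ := hW 1 one_ne_zero
    refine ⟨w, hw, fun x hx => ?_⟩
    have hwA := hw.isAut hu hv
    obtain ⟨m, z, hz, rfl⟩ := h.sZv.exists_eq hd hdZ hx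
    refine hmemLu (hwA.mem _ (h.svR.le hx)) m ?_
    rw [h.cls_map hwA (pow_mem hdR m) (h.svR.le (h.sZv.le hz)), hwA.pow hdR,
      cls_pow (h.norm (hwA.mem d hdR)), hW1.2, ZMod.val_zero, pow_zero, mul_one, val_one_pow,
      cls_of_mem (hw.maps huZ hvZ z hz), mul_one]

end Plane

end Cfsg.Agent.Lib.FS.OrderFive
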