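import Cfsg.Agent.Lib.FusionSystem.OrderFive.Group

/-!
# Automorphisms as functions and their scalars on steps of order `p`
-/

set_option autoImplicit false
set_option linter.style.haveILetI false
set_option linter.unusedSectionVars false

namespace Cfsg.Agent.Lib.FS.OrderFive

open scoped commutatorElement

variable {G : Type*} [Group G] {p : ℕ}

/-- A function acting as an automorphism on `R`. -/
structure IsAut (R : Subgroup G) (t : G → G) : Prop where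
  mem : ∀ x ∈ R, t x ∈ R
  mul : ∀ x ∈ R, ∀ y ∈ R, t (x * y) = t x * t y
  inj : ∀ x ∈ R, ∀ y ∈ R, t x = t y → x = y

/-- Conjugation as a function. -/
def cj (g : G) : G → G := fun x => g * x * g⁻¹

theorem cj_apply (g x : G) : cj g x = g * x * g⁻¹ := rfl

theorem inv_mul_cj (g x : G) : x⁻¹ * cj g x = ⁅x⁻¹, g⁆ := by
  rw [cj_apply, commutatorElement_def]; group

theorem comm_eq_inv_mul_cj (g x : G) : ⁅x, g⁆ = (x⁻¹)⁻¹ * cj g x⁻¹ := by
  rw [cj_apply, commutatorElement_def]; group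

namespace IsAut

variable {R : Subgroup G} {t u : G → G} (h : IsAut R t)

include h

/-- The homomorphism on `R`. -/
def toHom : R →* R where
  toFun x := ⟨t x, h.mem _ x.2⟩
  map_one' := Subtype.ext (by
    show t ((1 : R) : G) = 1
    have := h.mul 1 (one_mem R) 1 (one_mem R)
    rw [mul_one, left_eq_mul] at this
    exact this)
  map_mul' x y := Subtype.ext (h.mul _ x.2 _ y.2)

theorem one : t 1 = 1 := congrArg Subtype.val h.toHom.map_one

theorem inv {x : G} (hx : x ∈ R) : t x⁻¹ = (t x)⁻¹ := congrArg Subtype.val (h.toHom.map_inv ⟨x, hx⟩)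

theorem pow {x : G} (hx : x ∈ R) (n : ℕ) : t (x ^ n) = t x ^ n :=
  congrArg Subtype.val (h.toHom.map_pow ⟨x, hx⟩ n)

theorem comm {x y : G} (hx : x ∈ R) (hy : y ∈ R) : t ⁅x, y⁆ = ⁅t x, t y⁆ :=
  congrArg Subtype.val (map_commutatorElement h.toHom (⟨x, hx⟩ : R) ⟨y, hy⟩)

theorem toHom_bijective [Finite R] : Function.Bijective h.toHom :=
  Finite.injective_iff_bijective.1 fun a b e =>
    Subtype.ext (h.inj _ a.2 _ b.2 (congrArg Subtype.val e))

theorem restrict {A : Subgroup G} (hA : A ≤ R) (hi : ∀ x ∈ A, t x ∈ A) : IsAut A t :=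
  ⟨hi, fun x hx y hy => h.mul x (hA hx) y (hA hy), fun x hx y hy => h.inj x (hA hx) y (hA hy)⟩

theorem congr (he : ∀ x ∈ R, u x = t x) : IsAut R u :=
  ⟨fun x hx => by rw [he x hx]; exact h.mem x hx,
    fun x hx y hy => by rw [he x hx, he y hy, he _ (mul_mem hx hy)]; exact h.mul x hx y hy,
    fun x hx y hy e => h.inj x hx y hy (by rwa [he x hx, he y hy] at e)⟩

theorem comp (hu : IsAut R u) : IsAut R (t ∘ u) :=
  ⟨fun x hx => h.mem _ (hu.mem x hx),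
    fun x hx y hy => by
      simp only [Function.comp_apply]
      rw [hu.mul x hx y hy, h.mul _ (hu.mem x hx) _ (hu.mem y hy)],
    fun x hx y hy e => hu.inj x hx y hy (h.inj _ (hu.mem x hx) _ (hu.mem y hy) e)⟩

/-- An invariant subgroup is mapped onto itself. -/
theorem exists_preimage {A : Subgroup G} [Finite A] (hA : A ≤ R) (hi : ∀ x ∈ A, t x ∈ A) {y : G}
    (hy : y ∈ A) : ∃ x ∈ A, t x = y := by
  obtain ⟨x, hx⟩ := (h.restrict hA hi).toHom_bijective.2 ⟨y, hy⟩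
  exact ⟨x, x.2, congrArg Subtype.val hx⟩

end IsAut

theorem isAut_id (R : Subgroup G) : IsAut R (id : G → G) :=
  ⟨fun _ hx => hx, fun _ _ _ _ => rfl, fun _ _ _ _ e => e⟩

theorem isAut_cj {R : Subgroup G} {g : G} (hg : g ∈ Subgroup.normalizer (R : Set G)) : IsAut R (cj g) :=
  ⟨fun x hx => ((Subgroup.mem_normalizer_iff.1 hg) x).1 hx,
    fun x _ y _ => by simp only [cj_apply]; group,
    fun x _ y _ e => mul_left_cancel (mul_right_cancel e)⟩

/-! ### The generated commutators -/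

/-- The subgroup generated by the commutators `⁅a, b⁆`. -/
def comSub (A B : Subgroup G) : Subgroup G :=
  Subgroup.closure {z | ∃ a ∈ A, ∃ b ∈ B, ⁅a, b⁆ = z}

theorem mem_comSub {A B : Subgroup G} {a b : G} (ha : a ∈ A) (hb : b ∈ B) : ⁅a, b⁆ ∈ comSub A B :=
  Subgroup.subset_closure ⟨a, ha, b, hb, rfl⟩

theorem comSub_le {A B D : Subgroup G} (h : ∀ a ∈ A, ∀ b ∈ B, ⁅a, b⁆ ∈ D) : comSub A B ≤ D := by
  refine (Subgroup.closure_le _).2 ?_
  rintro _ ⟨a, ha, b, hb, rfl⟩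
  exact h a ha b hb

theorem IsAut.comSub_mem {R A B : Subgroup G} {t : G → G} (h : IsAut R t) (hA : A ≤ R) (hB : B ≤ R)
    (hAi : ∀ x ∈ A, t x ∈ A) (hBi : ∀ x ∈ B, t x ∈ B) {z : G} (hz : z ∈ comSub A B) :
    t z ∈ comSub A B := by
  have hle : comSub A B ≤ R := comSub_le fun a ha b hb => by
    rw [commutatorElement_def]
    exact mul_mem (mul_mem (mul_mem (hA ha) (hB hb)) (inv_mem (hA ha))) (inv_mem (hB hb))
  unfold comSub at hz
  induction hz using Subgroup.closure_induction with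
  | mem w hw =>
    obtain ⟨a, ha, b, hb, rfl⟩ := hw
    rw [h.comm (hA ha) (hB hb)]
    exact mem_comSub (hAi a ha) (hBi b hb)
  | one => rw [h.one]; exact one_mem _
  | mul a b ha hb h₁ h₂ => rw [h.mul a (hle ha) b (hle hb)]; exact mul_mem h₁ h₂
  | inv a ha h₁ => rw [h.inv (hle ha)]; exact inv_mem h₁

theorem le_normalizer_comSub {K A B : Subgroup G} (hA : K ≤ Subgroup.normalizer (A : Set G))
    (hB : K ≤ Subgroup.normalizer (B : Set G)) (hAK : A ≤ K) (hBK : B ≤ K) :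
    K ≤ Subgroup.normalizer (comSub A B : Set G) :=
  le_normalizer_of fun _ hg _ hx => (isAut_cj (Subgroup.le_normalizer hg)).comSub_mem hAK hBK
    (fun _ hy => conj_mem_of_le hA hg hy) (fun _ hy => conj_mem_of_le hB hg hy) hx

/-! ### Scalars -/

/-- `t` acts on `A / B` as the power map with exponent `k`. -/
def Sc (t : G → G) (A B : Subgroup G) (k : ZMod p) : Prop := ∀ x ∈ A, (x ^ k.val)⁻¹ * t x ∈ B

theorem pow_eq_of_cast {M : Type*} [Group M] {ξ : M} (h : ξ ^ p = 1) {m n : ℕ}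
    (e : (m : ZMod p) = n) : ξ ^ m = ξ ^ n := by
  rw [pow_eq_pow_iff_modEq]
  exact ((ZMod.natCast_eq_natCast_iff m n p).1 e).of_dvd (orderOf_dvd_of_pow_eq_one h)

namespace Sc

variable [hp : Fact p.Prime] {R A B : Subgroup G} {t t' : G → G} {k : ZMod p}

theorem eq_mul (h : Sc t A B k) {x : G} (hx : x ∈ A) : ∃ b ∈ B, t x = x ^ k.val * b :=
  ⟨_, h x hx, by group⟩

theorem mem (h : Sc t A B k) (hBA : B ≤ A) {x : G} (hx : x ∈ A) : t x ∈ A := by
  obtain ⟨b, hb, e⟩ := h.eq_mul hx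
  rw [e]; exact mul_mem (pow_mem hx _) (hBA hb)

theorem cls_apply (h : Sc t A B k) (hn : A ≤ Subgroup.normalizer (B : Set G)) {x : G} (hx : x ∈ A) :
    cls B (t x) = cls B x ^ k.val := by
  obtain ⟨b, hb, e⟩ := h.eq_mul hx
  rw [e, cls_mul_right (Subgroup.pow_mem _ (hn hx) _) hb, cls_pow (hn hx)]

theorem congr (h : Sc t A B k) (he : ∀ x ∈ A, t' x = t x) : Sc t' A B k := fun x hx => by
  rw [he x hx]; exact h x hx

theorem uniq {k' : ZMod p} (hs : Step p B A) {x : G} (hx : x ∈ A) (hxB : x ∉ B)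
    (h : (x ^ k.val)⁻¹ * t x ∈ B) (h' : (x ^ k'.val)⁻¹ * t x ∈ B) : k = k' := by
  have h1 : (x ^ k.val)⁻¹ * x ^ k'.val ∈ B := by
    have := mul_mem h (inv_mem h')
    simpa [mul_assoc] using this
  rw [← cls_eq_cls (Subgroup.pow_mem _ (hs.norm hx) _) (Subgroup.pow_mem _ (hs.norm hx) _),
    cls_pow (hs.norm hx), cls_pow (hs.norm hx), pow_eq_pow_iff_modEq,
    orderOf_eq_prime (hs.cls_pow_p hx) (hs.cls_ne_one hx hxB)] at h1
  have := (ZMod.natCast_eq_natCast_iff k.val k'.val p).2 h1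
  rwa [ZMod.natCast_zmod_val, ZMod.natCast_zmod_val] at this

theorem eq_of_sc {k' : ZMod p} (hs : Step p B A) (h : Sc t A B k) (h' : Sc t A B k') : k = k' := by
  obtain ⟨x, hx, hxB⟩ := hs.exists_not_mem
  exact uniq hs hx hxB (h x hx) (h' x hx)

/-- One congruence determines the scalar of the step. -/
theorem of_mem (hs : Step p B A) (ht : IsAut R t) (hAR : A ≤ R) (hBi : ∀ y ∈ B, t y ∈ B) {x : G}
    (hx : x ∈ A) (hxB : x ∉ B) (h : (x ^ k.val)⁻¹ * t x ∈ B) : Sc t A B k := by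
  have htx : t x = x ^ k.val * ((x ^ k.val)⁻¹ * t x) := by group
  have hN := hs.norm
  intro a ha
  obtain ⟨n, b, hb, rfl⟩ := hs.exists_eq hx hxB ha
  have hmem : t x ∈ A := by rw [htx]; exact mul_mem (pow_mem hx _) (hs.le h)
  have htx' : cls B (t x) = cls B x ^ k.val := by
    rw [htx, cls_mul_right (Subgroup.pow_mem _ (hN hx) _) h, cls_pow (hN hx)]
  have hbA := hs.le hb
  rw [← cls_eq_cls (Subgroup.pow_mem _ (hN ha) _) (hN ?_)]
  · rw [cls_pow (hN ha), cls_mul_right (Subgroup.pow_mem _ (hN hx) n) hb, cls_pow (hN hx),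
      ht.mul _ (hAR (pow_mem hx n)) _ (hAR hbA), ht.pow (hAR hx),
      cls_mul_right (Subgroup.pow_mem _ (hN hmem) n) (hBi b hb), cls_pow (hN hmem), htx', ← pow_mul,
      ← pow_mul, mul_comm]
  · rw [ht.mul _ (hAR (pow_mem hx n)) _ (hAR hbA), ht.pow (hAR hx)]
    exact mul_mem (pow_mem hmem n) (hs.le (hBi b hb))

theorem id_one (A B : Subgroup G) : Sc (id : G → G) A B (1 : ZMod p) := fun x _ => by
  simp [ZMod.val_one]

theorem of_trivial (h : ∀ x ∈ A, x⁻¹ * t x ∈ B) : Sc t A B (1 : ZMod p) := fun x hx => by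
  simpa [ZMod.val_one] using h x hx

theorem trivial_of_one (h : Sc t A B (1 : ZMod p)) {x : G} (hx : x ∈ A) : x⁻¹ * t x ∈ B := by
  simpa [ZMod.val_one] using h x hx

/-- With zero bottom a scalar is an equation. -/
theorem eq_pow (h : Sc t A (⊥ : Subgroup G) k) {x : G} (hx : x ∈ A) : t x = x ^ k.val :=
  (inv_mul_eq_one.1 (Subgroup.mem_bot.1 (h x hx))).symm

end Sc

/-- An automorphism preserving a step has a nonzero scalar on it. -/
theorem exists_sc [hp : Fact p.Prime] {R A B : Subgroup G} {t : G → G} (hs : Step p B A)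
    (ht : IsAut R t) (hAR : A ≤ R) (hAi : ∀ y ∈ A, t y ∈ A) (hBi : ∀ y ∈ B, t y ∈ B) :
    ∃ k : ZMod p, k ≠ 0 ∧ Sc t A B k := by
  obtain ⟨x, hx, hxB⟩ := hs.exists_not_mem
  obtain ⟨n, hn⟩ := hs.exists_pow hx hxB (hAi x hx)
  have hsc : ((x ^ (n : ZMod p).val)⁻¹ * t x) ∈ B := by
    rw [← cls_eq_cls (Subgroup.pow_mem _ (hs.norm hx) _) (hs.norm (hAi x hx)), cls_pow (hs.norm hx), hn]
    exact pow_eq_of_cast (hs.cls_pow_p hx) (by rw [ZMod.natCast_zmod_val])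
  refine ⟨n, fun h0 => ?_, Sc.of_mem hs ht hAR hBi hx hxB hsc⟩
  rw [h0, ZMod.val_zero, pow_zero, inv_one, one_mul] at hsc
  haveI := hs.finB
  obtain ⟨b, hb, hbx⟩ := ht.exists_preimage (hs.le.trans hAR) hBi hsc
  exact hxB (ht.inj _ (hAR (hs.le hb)) _ (hAR hx) hbx ▸ hb)

/-- The scalar of a step spanned by commutators. -/
theorem Sc.eq_mul_of_comm [hp : Fact p.Prime] {R A A' B B' C D : Subgroup G} {t : G → G} (ht : IsAut R t)
    (sA : Step p A' A) (sB : Step p B' B) (sC : Step p D C) (hAR : A ≤ R) (hBR : B ≤ R)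
    (hRD : R ≤ Subgroup.normalizer (D : Set G))
    (h₁ : ∀ x ∈ A', ∀ y ∈ B, ⁅x, y⁆ ∈ D) (h₂ : ∀ x ∈ A, ∀ y ∈ B', ⁅x, y⁆ ∈ D)
    (hC : ∀ x ∈ A, ∀ y ∈ B, ⁅x, y⁆ ∈ C)
    (hcA : ∀ z ∈ C, ∀ x ∈ A, ⁅z, x⁆ ∈ D) (hcB : ∀ z ∈ C, ∀ y ∈ B, ⁅z, y⁆ ∈ D)
    {i j k : ZMod p} (hi : Sc t A A' i) (hj : Sc t B B' j) (hk : Sc t C D k)
    {a b : G} (ha : a ∈ A) (hb : b ∈ B) (hne : ⁅a, b⁆ ∉ D) : k = i * j := by
  obtain ⟨a', ha', ea⟩ := hi.eq_mul ha
  obtain ⟨b', hb', eb⟩ := hj.eq_mul hb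
  have na : a ∈ Subgroup.normalizer (D : Set G) := hRD (hAR ha)
  have nb : b ∈ Subgroup.normalizer (D : Set G) := hRD (hBR hb)
  have na' : a' ∈ Subgroup.normalizer (D : Set G) := hRD (hAR (sA.le ha'))
  have nb' : b' ∈ Subgroup.normalizer (D : Set G) := hRD (hBR (sB.le hb'))
  have hC' := hC a ha b hb
  set α := cls D a
  set β := cls D b
  set α' := cls D a'
  set β' := cls D b'
  have hγ : cls D ⁅a, b⁆ = ⁅α, β⁆ := cls_comm na nb
  have hγα : Commute ⁅α, β⁆ α := by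
    rw [← hγ]; exact (comm_mem_iff (sC.norm hC') na).1 (hcA _ hC' a ha)
  have hγβ : Commute ⁅α, β⁆ β := by
    rw [← hγ]; exact (comm_mem_iff (sC.norm hC') nb).1 (hcB _ hC' b hb)
  have hα'β : Commute α' β := (comm_mem_iff na' nb).1 (h₁ a' ha' b hb)
  have hα'β' : Commute α' β' := (comm_mem_iff na' nb').1 (h₁ a' ha' b' (sB.le hb'))
  have hαβ' : Commute α β' := (comm_mem_iff na nb').1 (h₂ a ha b' hb')
  have key : cls D (t ⁅a, b⁆) = ⁅α, β⁆ ^ (i.val * j.val) := by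
    rw [ht.comm (hAR ha) (hBR hb), ea, eb,
      cls_comm (mul_mem (Subgroup.pow_mem _ na _) na') (mul_mem (Subgroup.pow_mem _ nb _) nb'),
      cls_mul (Subgroup.pow_mem _ na _) na', cls_mul (Subgroup.pow_mem _ nb _) nb',
      cls_pow na, cls_pow nb]
    have hr : ∀ n : ℕ, ⁅α, β ^ n⁆ = ⁅α, β⁆ ^ n := fun n => by
      rw [← inv_inj, commutatorElement_inv, ← inv_pow, commutatorElement_inv]
      refine PGroups.commutatorElement_pow_left_of_central β α ?_ n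
      rw [← commutatorElement_inv]
      exact hγβ.symm.inv_right
    have h1 : ⁅α ^ i.val * α', β ^ j.val * β'⁆ = ⁅α ^ i.val, β ^ j.val⁆ := by
      have e1 : α' * (β ^ j.val * β') = β ^ j.val * β' * α' := ((hα'β.pow_right _).mul_right hα'β').eq
      have e2 : β' * (α ^ i.val)⁻¹ = (α ^ i.val)⁻¹ * β' := ((hαβ'.pow_left _).inv_left).symm.eq
      simp only [commutatorElement_def, mul_inv_rev]
      calc α ^ i.val * α' * (β ^ j.val * β') * (α'⁻¹ * (α ^ i.val)⁻¹) * (β'⁻¹ * (β ^ j.val)⁻¹)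
          = α ^ i.val * (α' * (β ^ j.val * β')) * α'⁻¹ * (α ^ i.val)⁻¹ * β'⁻¹ * (β ^ j.val)⁻¹ := by group
        _ = α ^ i.val * β ^ j.val * (β' * (α ^ i.val)⁻¹) * β'⁻¹ * (β ^ j.val)⁻¹ := by rw [e1]; group
        _ = α ^ i.val * β ^ j.val * (α ^ i.val)⁻¹ * (β ^ j.val)⁻¹ := by rw [e2]; group
    rw [h1]
    have h2 : Commute α ⁅α, β ^ j.val⁆ := by rw [hr]; exact (hγα.pow_left _).symm
    rw [PGroups.commutatorElement_pow_left_of_central α (β ^ j.val) h2, hr, ← pow_mul, mul_comm]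
  rw [hk.cls_apply sC.norm hC', hγ, pow_eq_pow_iff_modEq] at key
  have hord : orderOf ⁅α, β⁆ = p := by
    rw [← hγ]; exact orderOf_eq_prime (sC.cls_pow_p hC') (sC.cls_ne_one hC' hne)
  rw [hord] at key
  have := (ZMod.natCast_eq_natCast_iff k.val (i.val * j.val) p).2 key
  rwa [Nat.cast_mul, ZMod.natCast_zmod_val, ZMod.natCast_zmod_val, ZMod.natCast_zmod_val] at this

/-- With distinct scalars the commutators fall to the bottom. -/
theorem Sc.comm_mem_of_ne [hp : Fact p.Prime] {R A A' B B' C D : Subgroup G} {t : G → G} (ht : IsAut R t)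
    (sA : Step p A' A) (sB : Step p B' B) (sC : Step p D C) (hAR : A ≤ R) (hBR : B ≤ R)
    (hRD : R ≤ Subgroup.normalizer (D : Set G))
    (h₁ : ∀ x ∈ A', ∀ y ∈ B, ⁅x, y⁆ ∈ D) (h₂ : ∀ x ∈ A, ∀ y ∈ B', ⁅x, y⁆ ∈ D)
    (hC : ∀ x ∈ A, ∀ y ∈ B, ⁅x, y⁆ ∈ C)
    (hcA : ∀ z ∈ C, ∀ x ∈ A, ⁅z, x⁆ ∈ D) (hcB : ∀ z ∈ C, ∀ y ∈ B, ⁅z, y⁆ ∈ D)
    {i j k : ZMod p} (hi : Sc t A A' i) (hj : Sc t B B' j) (hk : Sc t C D k) (hne : k ≠ i * j)
    {a b : G} (ha : a ∈ A) (hb : b ∈ B) : ⁅a, b⁆ ∈ D :=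
  by_contra fun h => hne (Sc.eq_mul_of_comm ht sA sB sC hAR hBR hRD h₁ h₂ hC hcA hcB hi hj hk ha hb h)

end Cfsg.Agent.Lib.FS.OrderFive
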