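import Cfsg.Agent.Lib.FusionSystem.OrderFive.Pair

/-!
# The setting: `|S| = p ^ 5` without an abelian subgroup of index `p`
-/

set_option autoImplicit false
set_option linter.style.haveILetI false
set_option linter.unusedSectionVars false

namespace Cfsg.Agent.Lib.FS.OrderFive

open Cfsg Cfsg.FusionSystem Cfsg.Agent.Lib Cfsg.Agent.Lib.FS
open scoped commutatorElement

/-- The standing hypotheses. -/
structure Ctx {Ω : Type*} [Group Ω] {S : Subgroup Ω} (F : FusionSystem S) (p : ℕ) : Prop where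
  hS : IsPGroup p S
  hF : F.IsSaturated p
  card : Nat.card S = p ^ 5
  noAb : ∀ A : Subgroup Ω, A ≤ S → Nat.card A = p ^ 4 → ¬ ∀ x ∈ A, ∀ y ∈ A, Commute x y

/-- The weight used for the torus elements. -/
structure Weight (p : ℕ) (a : ZMod p) : Prop where
  ne_zero : a ≠ 0
  two : a ^ 2 = 1 → p = 3
  three : a ^ 3 ≠ 1
  five : a ^ 5 ≠ 1
  six : a ^ 6 = 1 → p = 3
  neg : p = 3 → a = -1

/-- Some element outside a normal subgroup of index `p` is fixed modulo it by every automorphism of `S`. -/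
def Fixed {Ω : Type*} [Group Ω] (S : Subgroup Ω) (p : ℕ) : Prop :=
  ∃ (K₀ : Subgroup Ω) (l : Ω), Step p K₀ S ∧ l ∈ S ∧ l ∉ K₀ ∧ ∀ t : Ω → Ω, IsAut S t → l⁻¹ * t l ∈ K₀

section
variable {Ω : Type*} [Group Ω] {p : ℕ}

theorem comm_mul_right (x a b : Ω) : ⁅x, a * b⁆ = ⁅x, a⁆ * (a * ⁅x, b⁆ * a⁻¹) := by
  simp only [commutatorElement_def]; group

theorem comm_mul_left (a b x : Ω) : ⁅a * b, x⁆ = a * ⁅b, x⁆ * a⁻¹ * ⁅a, x⁆ := by
  simp only [commutatorElement_def]; group

theorem comm_pow_right {x y : Ω} (h : Commute y ⁅x, y⁆) (n : ℕ) : ⁅x, y ^ n⁆ = ⁅x, y⁆ ^ n := by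
  rw [← inv_inj, commutatorElement_inv, ← inv_pow, commutatorElement_inv]
  refine PGroups.commutatorElement_pow_left_of_central y x ?_ n
  rw [← commutatorElement_inv]
  exact h.inv_right

/-- A subgroup inside `A` absorbing the commutators with `K` is normalised by `K`. -/
theorem le_normalizer_of_comm {K C : Subgroup Ω} (h : ∀ g ∈ K, ∀ x ∈ C, ⁅g, x⁆ ∈ C) :
    K ≤ Subgroup.normalizer (C : Set Ω) :=
  le_normalizer_of fun g hg x hx => by
    rw [show g * x * g⁻¹ = ⁅g, x⁆ * x by rw [commutatorElement_def]; group]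
    exact mul_mem (h g hg x hx) hx

/-- Powers with exponent divisible by `p` fall into the bottom of a step. -/
theorem Step.pow_mem_of_dvd [Fact p.Prime] {A B : Subgroup Ω} (h : Step p B A) {x : Ω} (hx : x ∈ A) {n : ℕ}
    (hn : p ∣ n) : x ^ n ∈ B := by
  obtain ⟨m, rfl⟩ := hn
  rw [pow_mul]
  exact _root_.pow_mem (h.pow_mem hx) m

theorem Step.dvd_of_pow_mem [Fact p.Prime] {A B : Subgroup Ω} (h : Step p B A) {x : Ω} (hx : x ∈ A)
    (hxB : x ∉ B) {n : ℕ} (hn : x ^ n ∈ B) : p ∣ n := by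
  rw [← orderOf_eq_prime (h.cls_pow_p hx) (h.cls_ne_one hx hxB), orderOf_dvd_iff_pow_eq_one,
    ← cls_pow (h.norm hx)]
  exact cls_of_mem hn

/-- Powers of an element of prime order. -/
theorem dvd_of_pow_eq_one [Fact p.Prime] {x : Ω} (hp : x ^ p = 1) (hx : x ≠ 1) {n : ℕ} (hn : x ^ n = 1) :
    p ∣ n := by
  rw [← orderOf_eq_prime hp hx]
  exact orderOf_dvd_of_pow_eq_one hn

/-- An element commuting with the bottom and with one top element of a step commutes with the step. -/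
theorem Step.commute_all [Fact p.Prime] {A B : Subgroup Ω} (h : Step p B A) {g x : Ω}
    (hB : ∀ b ∈ B, Commute b g) (hx : x ∈ A) (hxB : x ∉ B) (hxg : Commute x g) {a : Ω} (ha : a ∈ A) :
    Commute a g := by
  obtain ⟨n, b, hb, rfl⟩ := h.exists_eq hx hxB ha
  exact (hxg.pow_left n).mul_left (hB b hb)

/-- An element whose class commutes with those of the bottom and of one top element of a step. -/
theorem Step.comm_mem_all [Fact p.Prime] {A B D : Subgroup Ω} (h : Step p B A) {g x : Ω}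
    (hA : A ≤ Subgroup.normalizer (D : Set Ω)) (hg : g ∈ Subgroup.normalizer (D : Set Ω))
    (hB : ∀ b ∈ B, ⁅b, g⁆ ∈ D) (hx : x ∈ A) (hxB : x ∉ B) (hxg : ⁅x, g⁆ ∈ D) {a : Ω} (ha : a ∈ A) :
    ⁅a, g⁆ ∈ D := by
  obtain ⟨n, b, hb, rfl⟩ := h.exists_eq hx hxB ha
  rw [comm_mem_iff (hA (mul_mem (_root_.pow_mem hx n) (h.le hb))) hg,
    cls_mul (Subgroup.pow_mem _ (hA hx) n) (hA (h.le hb)), cls_pow (hA hx)]
  exact (((comm_mem_iff (hA hx) hg).1 hxg).pow_left n).mul_left
    ((comm_mem_iff (hA (h.le hb)) hg).1 (hB b hb))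

/-- Commutativity of a subgroup generated by a commutative one and one more element. -/
theorem commute_sup_zpowers {A : Subgroup Ω} {g : Ω} (hA : ∀ x ∈ A, ∀ y ∈ A, Commute x y)
    (hg : ∀ x ∈ A, Commute x g) : ∀ x ∈ A ⊔ Subgroup.zpowers g, ∀ y ∈ A ⊔ Subgroup.zpowers g, Commute x y := by
  have h1 : A ⊔ Subgroup.zpowers g ≤ Subgroup.centralizer ((A : Set Ω) ∪ {g}) := by
    refine sup_le (fun x hx => Subgroup.mem_centralizer_iff.2 ?_)
      (Subgroup.zpowers_le.2 (Subgroup.mem_centralizer_iff.2 ?_))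
    · rintro y (hy | rfl)
      · exact hA y hy x hx
      · exact (hg x hx).symm
    · rintro y (hy | rfl)
      · exact hg y hy
      · rfl
  have h2 : A ⊔ Subgroup.zpowers g ≤ Subgroup.centralizer (↑(A ⊔ Subgroup.zpowers g) : Set Ω) :=
    sup_le (fun x hx => Subgroup.mem_centralizer_iff.2 fun y hy =>
        ((Subgroup.mem_centralizer_iff.1 (h1 hy)) x (Or.inl hx)).symm)
      (Subgroup.zpowers_le.2 (Subgroup.mem_centralizer_iff.2 fun y hy =>
        ((Subgroup.mem_centralizer_iff.1 (h1 hy)) g (Or.inr rfl)).symm))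
  exact fun x hx y hy => (Subgroup.mem_centralizer_iff.1 (h2 hx) y hy).symm

end

variable {Ω : Type*} [Group Ω] {S : Subgroup Ω} {p : ℕ} {F : FusionSystem S}

/-- Commutators of a step with an element of `S` normalising both ends. -/
theorem step_comm [Fact p.Prime] (hS : IsPGroup p S) {A B : Subgroup Ω} (h : Step p B A) {g : Ω} (hg : g ∈ S)
    (hA : g ∈ Subgroup.normalizer (A : Set Ω)) (hB : g ∈ Subgroup.normalizer (B : Set Ω)) {a : Ω}
    (ha : a ∈ A) : ⁅a, g⁆ ∈ B := by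
  obtain ⟨n, hn⟩ := hS ⟨g, hg⟩
  exact h.conj_trivial (congrArg Subtype.val hn) hA hB ha

theorem le_normalizer_bot (K : Subgroup Ω) : K ≤ Subgroup.normalizer ((⊥ : Subgroup Ω) : Set Ω) :=
  le_normalizer_of fun g _ x hx => by
    rw [Subgroup.mem_bot] at hx ⊢
    rw [hx, mul_one, mul_inv_cancel]

theorem card_eq_pow_four [Fact p.Prime] [Finite S] (hS : IsPGroup p S) (hc : Nat.card S = p ^ 5)
    {A B : Subgroup Ω} (hBA : B < A) (hAS : A < S) (hB : Nat.card B = p ^ 3) : Nat.card A = p ^ 4 := by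
  have hp := (Fact.out : p.Prime)
  haveI := finite_sub hAS.le
  obtain ⟨k, hk⟩ := IsPGroup.iff_card.1 (isPGroup_of_le hS hAS.le)
  have h1 : Nat.card B < Nat.card A := lt_of_le_of_ne (Subgroup.card_le_of_le hBA.le)
    fun e => hBA.ne (Subgroup.eq_of_le_of_card_ge hBA.le e.ge)
  have h2 : Nat.card A < Nat.card S := lt_of_le_of_ne (Subgroup.card_le_of_le hAS.le)
    fun e => hAS.ne (Subgroup.eq_of_le_of_card_ge hAS.le e.ge)
  rw [hk, hB] at h1
  rw [hk, hc] at h2
  rw [hk, show k = 4 by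
    have := (Nat.pow_lt_pow_iff_right hp.one_lt).1 h1
    have := (Nat.pow_lt_pow_iff_right hp.one_lt).1 h2
    omega]

theorem normalizerIn_of_le_normalizer {N : Subgroup Ω} (h : S ≤ Subgroup.normalizer (N : Set Ω)) :
    normalizerIn S N = S :=
  inf_eq_left.2 h

theorem fullyNormalized_of_le_normalizer [Finite S] {N : Subgroup Ω} (hN : N ≤ S)
    (h : S ≤ Subgroup.normalizer (N : Set Ω)) : F.IsFullyNormalized N :=
  ⟨hN, fun Q _ => by
    rw [normalizerIn_of_le_normalizer h]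
    exact Subgroup.card_le_of_le (normalizerIn_le Q)⟩

/-! ### Short chains -/

/-- Four proper terms above `⊥`. -/
def ch4 (R A B C : Subgroup Ω) : ℕ → Subgroup Ω
  | 0 => R
  | 1 => A
  | 2 => B
  | 3 => C
  | _ => ⊥

/-- Three proper terms above `⊥`. -/
def ch3 (R A B : Subgroup Ω) : ℕ → Subgroup Ω
  | 0 => R
  | 1 => A
  | 2 => B
  | _ => ⊥

theorem ladder_four {K R A B C : Subgroup Ω} (h₁ : Step p A R) (h₂ : Step p B A) (h₃ : Step p C B)
    (h₄ : Step p ⊥ C) (nR : K ≤ Subgroup.normalizer (R : Set Ω)) (nA : K ≤ Subgroup.normalizer (A : Set Ω))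
    (nB : K ≤ Subgroup.normalizer (B : Set Ω)) (nC : K ≤ Subgroup.normalizer (C : Set Ω)) :
    Ladder p K R (ch4 R A B C) 4 := by
  refine ⟨rfl, rfl, fun k hk => ?_, fun k hk => ?_⟩
  · match k, hk with
    | 0, _ => exact h₁
    | 1, _ => exact h₂
    | 2, _ => exact h₃
    | 3, _ => exact h₄
  · match k, hk with
    | 0, _ => exact nR
    | 1, _ => exact nA
    | 2, _ => exact nB
    | 3, _ => exact nC
    | 4, _ => exact le_normalizer_bot K

theorem ladder_three {K R A B : Subgroup Ω} (h₁ : Step p A R) (h₂ : Step p B A) (h₃ : Step p ⊥ B)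
    (nR : K ≤ Subgroup.normalizer (R : Set Ω)) (nA : K ≤ Subgroup.normalizer (A : Set Ω))
    (nB : K ≤ Subgroup.normalizer (B : Set Ω)) : Ladder p K R (ch3 R A B) 3 := by
  refine ⟨rfl, rfl, fun k hk => ?_, fun k hk => ?_⟩
  · match k, hk with
    | 0, _ => exact h₁
    | 1, _ => exact h₂
    | 2, _ => exact h₃
  · match k, hk with
    | 0, _ => exact nR
    | 1, _ => exact nA
    | 2, _ => exact nB
    | 3, _ => exact le_normalizer_bot K

theorem preserves_four {R A B C : Subgroup Ω} {t : Ω → Ω} (ht : IsAut R t) (hA : ∀ x ∈ A, t x ∈ A)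
    (hB : ∀ x ∈ B, t x ∈ B) (hC : ∀ x ∈ C, t x ∈ C) : ∀ k ≤ 4, ∀ x ∈ ch4 R A B C k, t x ∈ ch4 R A B C k := by
  intro k hk x hx
  match k, hk with
  | 0, _ => exact ht.mem x hx
  | 1, _ => exact hA x hx
  | 2, _ => exact hB x hx
  | 3, _ => exact hC x hx
  | 4, _ =>
    have hx' : x ∈ (⊥ : Subgroup Ω) := hx
    rw [Subgroup.mem_bot] at hx'
    show t x ∈ (⊥ : Subgroup Ω)
    rw [hx', ht.one]; exact one_mem _

theorem preserves_three {R A B : Subgroup Ω} {t : Ω → Ω} (ht : IsAut R t) (hA : ∀ x ∈ A, t x ∈ A)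
    (hB : ∀ x ∈ B, t x ∈ B) : ∀ k ≤ 3, ∀ x ∈ ch3 R A B k, t x ∈ ch3 R A B k := by
  intro k hk x hx
  match k, hk with
  | 0, _ => exact ht.mem x hx
  | 1, _ => exact hA x hx
  | 2, _ => exact hB x hx
  | 3, _ =>
    have hx' : x ∈ (⊥ : Subgroup Ω) := hx
    rw [Subgroup.mem_bot] at hx'
    show t x ∈ (⊥ : Subgroup Ω)
    rw [hx', ht.one]; exact one_mem _

end Cfsg.Agent.Lib.FS.OrderFive
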